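import Cfsg.Agent.Lib.OEightStd.Facts

/-!
# Finite checks on the eight points of AG(3,2)

A permutation fixing the origin which conjugates two generators of the linear group to linear maps is linear, and
a composite of three linear maps and the exchange of the origin with the ninth point is not affine.
-/

set_option autoImplicit false
set_option maxRecDepth 100000

namespace CfsgLib.OEightStd

instance (σ : Fin 8 → Fin 8) : Decidable (Affine σ) := by unfold Affine; infer_instance

/-- The sum of two points. -/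
def addPt (a b : Fin 8) : Fin 8 := ⟨(a.val ^^^ b.val) % 8, Nat.mod_lt _ (by norm_num)⟩

theorem addPt_affine : ∀ m : Fin 8, Affine (addPt m) ∧ addPt m m = 0 ∧
    ∀ a, addPt m (addPt m a) = a := by
  decide +kernel

theorem addPt_bijective (m : Fin 8) : Function.Bijective (addPt m) :=
  Function.Involutive.bijective (addPt_affine m).2.2

/-- Two generators of the linear group. -/
def linOne : Fin 8 → Fin 8 := ![0, 2, 4, 6, 1, 3, 5, 7]

/-- Two generators of the linear group. -/
def linTwo : Fin 8 → Fin 8 := ![0, 3, 2, 1, 4, 7, 6, 5]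

theorem lin_ok : Affine linOne ∧ Affine linTwo ∧ Function.Bijective linOne ∧ Function.Bijective linTwo ∧
    linOne 0 = 0 ∧ linTwo 0 = 0 := by
  refine ⟨by decide +kernel, by decide +kernel, ?_, ?_, rfl, rfl⟩ <;>
    exact Finite.injective_iff_bijective.1 (by decide +kernel)

/-- The outer maps of the word. -/
def wordX : Fin 8 → Fin 8 := ![1, 0, 2, 3, 4, 5, 7, 6]

/-- The inner map of the word. -/
def wordY : Fin 8 → Fin 8 := ![2, 1, 0, 3, 4, 7, 6, 5]

/-- The value of the word. -/
def wordF : Fin 8 → Fin 8 := ![2, 1, 0, 3, 4, 6, 5, 7]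

theorem word_maps : Affine wordX ∧ Affine wordY ∧ ¬ Affine wordF ∧
    Function.Bijective wordX ∧ Function.Bijective wordY := by
  refine ⟨by decide +kernel, by decide +kernel, by decide +kernel, ?_, ?_⟩ <;>
    exact Finite.injective_iff_bijective.1 (by decide +kernel)

/-- The exchange of the origin and the ninth point. -/
def tau : Option (Fin 8) → Option (Fin 8)
  | none => some 0
  | some i => if i = 0 then none else some i

theorem word_ok : tau ((tau ((tau ((tau none).map wordX)).map wordY)).map wordX) = none ∧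
    ∀ i, tau ((tau ((tau ((tau (some i)).map wordX)).map wordY)).map wordX) = some (wordF i) := by
  decide +kernel

/-- All insertions. -/
def inserts (x : ℕ) : List ℕ → List (List ℕ)
  | [] => [[x]]
  | y :: l => (x :: y :: l) :: (inserts x l).map (y :: ·)

/-- All arrangements. -/
def arrange : List ℕ → List (List ℕ)
  | [] => [[]]
  | x :: l => (arrange l).flatMap (inserts x)

theorem mem_inserts (x : ℕ) : ∀ p q : List ℕ, p ++ x :: q ∈ inserts x (p ++ q)
  | [], [] => List.mem_singleton.2 rfl
  | [], y :: q => List.mem_cons_self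
  | y :: p, q => List.mem_cons_of_mem _ (List.mem_map.2 ⟨_, mem_inserts x p q, rfl⟩)

theorem mem_arrange : ∀ {l l' : List ℕ}, l'.Perm l → l' ∈ arrange l
  | [], l', h => by rw [h.eq_nil]; exact List.mem_singleton.2 rfl
  | x :: l, l', h => by
    obtain ⟨p, q, rfl⟩ := List.append_of_mem (h.symm.subset List.mem_cons_self)
    refine List.mem_flatMap.2 ⟨p ++ q, mem_arrange ?_, mem_inserts x p q⟩
    exact (List.perm_middle.symm.trans h).cons_inv

/-- A list of values is linear. -/
def linB (l : List ℕ) : Bool :=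
  (List.range 8).all fun a => [1, 2, 4].all fun b =>
    Nat.beq (l.getD (a ^^^ b) 0) (l.getD a 0 ^^^ l.getD b 0)

/-- A list of values is affine. -/
def affB (l : List ℕ) : Bool :=
  (List.range 8).all fun a => (List.range 8).all fun b => (List.range 8).all fun c =>
    Nat.beq (l.getD (a ^^^ b ^^^ c) 0) (l.getD a 0 ^^^ l.getD b 0 ^^^ l.getD c 0)

/-- The conjugate of a map by a list of values. -/
def conjL (σ : List ℕ) (l : List ℕ) : List ℕ :=
  (List.range 8).map fun i => l.idxOf (σ.getD (l.getD i 0) 0)

theorem check : (arrange [1, 2, 3, 4, 5, 6, 7]).all (fun l =>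
    if linB (0 :: l) then affB (0 :: l)
    else !linB (conjL [0, 2, 4, 6, 1, 3, 5, 7] (0 :: l)) || !linB (conjL [0, 3, 2, 1, 4, 7, 6, 5] (0 :: l))) = true := by
  decide +kernel

/-- The values of a map. -/
def vals (P : Fin 8 → Fin 8) : List ℕ := List.ofFn fun i => (P i).val

theorem vals_getD (P : Fin 8 → Fin 8) (i : Fin 8) : (vals P).getD i.val 0 = (P i).val := by
  unfold vals
  rw [List.getD_eq_getElem _ _ (by rw [List.length_ofFn]; exact i.2), List.getElem_ofFn]

theorem affine_of_affB {P : Fin 8 → Fin 8} (h : affB (vals P) = true) : Affine P := by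
  simp only [affB, List.all_eq_true, List.mem_range, Nat.beq_eq] at h
  intro a b c
  have hlt : a.val ^^^ b.val ^^^ c.val < 8 :=
    Nat.xor_lt_two_pow (n := 3) (Nat.xor_lt_two_pow (n := 3) a.2 b.2) c.2
  have := h a a.2 b b.2 c c.2
  rw [vals_getD, vals_getD, vals_getD] at this
  rw [← this, ← vals_getD P]
  simp only [Nat.mod_eq_of_lt hlt]

theorem linB_of_affine {σ : Fin 8 → Fin 8} (h : Affine σ) (h0 : σ 0 = 0) : linB (vals σ) = true := by
  simp only [linB, List.all_eq_true, List.mem_range, Nat.beq_eq]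
  intro a ha b hb
  have hb8 : b < 8 := by simp at hb; omega
  have hlt : a ^^^ b < 8 := Nat.xor_lt_two_pow (n := 3) ha hb8
  have := h ⟨a, ha⟩ ⟨b, hb8⟩ 0
  simp only [h0, Fin.val_zero, Nat.xor_zero, Nat.mod_eq_of_lt hlt] at this
  rw [vals_getD σ ⟨_, hlt⟩, vals_getD σ ⟨a, ha⟩, vals_getD σ ⟨b, hb8⟩]
  exact this

/-- A map fixing the origin is affine, or conjugates one of the generators out of the affine maps. -/
theorem affine_or (e : Equiv.Perm (Fin 8)) (h0 : e 0 = 0) :
    Affine e ∨ ∃ σ, (σ = linOne ∨ σ = linTwo) ∧ ¬ Affine (e.symm ∘ σ ∘ e) := by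
  have hl : vals e = 0 :: (List.ofFn fun i : Fin 7 => (e i.succ).val) := by
    rw [vals, List.ofFn_succ, h0]; rfl
  have hperm : (List.ofFn fun i : Fin 7 => (e i.succ).val).Perm [1, 2, 3, 4, 5, 6, 7] := by
    refine List.Perm.cons_inv (a := 0) ?_
    rw [← hl]
    exact Equiv.Perm.ofFn_comp_perm e (fun i : Fin 8 => i.val)
  have h := List.all_eq_true.1 check _ (mem_arrange hperm)
  rw [← hl] at h
  split_ifs at h with hlin
  · exact Or.inl (affine_of_affB h)
  refine Or.inr ?_
  have hnd : (vals e).Nodup :=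
    List.nodup_ofFn.2 fun a b hab => e.injective (Fin.ext hab)
  have hidx : ∀ i : Fin 8, (vals e).idxOf (e i).val = i.val := fun i => by
    have hi : i.val < (vals e).length := by
      show i.val < (List.ofFn fun i => (e i).val).length
      rw [List.length_ofFn]; exact i.2
    have h := hnd.idxOf_getElem i.val hi
    rwa [← List.getD_eq_getElem _ 0 hi, vals_getD] at h
  have key : ∀ σ : Fin 8 → Fin 8, σ 0 = 0 → linB (conjL (vals σ) (vals e)) = false →
      ¬ Affine (e.symm ∘ σ ∘ e) := by
    intro σ hσ hf ha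
    have h' := linB_of_affine ha (by simp [hσ, h0, Equiv.symm_apply_eq])
    rw [show vals (e.symm ∘ σ ∘ e) = conjL (vals σ) (vals e) from ?_, hf] at h'
    · exact Bool.false_ne_true h'
    refine List.ext_getElem (by simp [vals, conjL]) fun n h1 h2 => ?_
    have hn : n < 8 := by simpa [vals] using h1
    rw [← List.getD_eq_getElem _ 0 h1, vals_getD (e.symm ∘ σ ∘ e) ⟨n, hn⟩]
    simp only [conjL, List.getElem_map, List.getElem_range]
    rw [vals_getD e ⟨n, hn⟩, vals_getD σ]
    have h3 := hidx (e.symm (σ (e ⟨n, hn⟩)))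
    rw [Equiv.apply_symm_apply] at h3
    exact h3.symm
  simp only [Bool.or_eq_true, Bool.not_eq_true'] at h
  rcases h with h | h
  · exact ⟨linOne, Or.inl rfl, key _ lin_ok.2.2.2.2.1 (by rwa [show vals linOne = [0, 2, 4, 6, 1, 3, 5, 7] from rfl])⟩
  · exact ⟨linTwo, Or.inr rfl, key _ lin_ok.2.2.2.2.2 (by rwa [show vals linTwo = [0, 3, 2, 1, 4, 7, 6, 5] from rfl])⟩

end CfsgLib.OEightStd
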