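import Cfsg.Agent.Lib.OEightStd.Iso
import Cfsg.Agent.S0817

/-!
# The automorphisms of the double cover are conjugations in the group with a reflection
-/

set_option autoImplicit false
set_option maxRecDepth 100000

namespace CfsgLib.OEightStd

open CfsgLib.Golay CfsgLib.TailsData CfsgLib.Schur.Tails CfsgLib.Schur.Tails.OEight Subgroup
open scoped commutatorElement

attribute [local irreducible] signedBase signedRefl signedSlp signedFix signedTree
  PackPerm.getP PackPerm.pack PackPerm.toL

/-- The double cover inside the group with a reflection. -/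
noncomputable abbrev MIn : Subgroup ↥M2 := M.subgroupOf M2

theorem index_MIn : MIn.index = 2 := by
  have h := MIn.card_mul_index
  rw [Nat.card_congr (subgroupOfEquivOfLe M_le_M2).toEquiv, card_M, card_M2] at h
  exact Nat.eq_of_mul_eq_mul_left (by norm_num : 0 < 348364800) (h.trans (by norm_num))

theorem normal_MIn : MIn.Normal := normal_of_index_eq_two index_MIn

theorem conj_mem {w : Equiv.Perm (Fin 240)} (hw : w ∈ M2) {m : Equiv.Perm (Fin 240)} (hm : m ∈ M) :
    w * m * w⁻¹ ∈ M :=
  normal_MIn.conj_mem ⟨m, M_le_M2 hm⟩ hm ⟨w, hw⟩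

/-- Conjugation of the double cover. -/
noncomputable def conjM : ↥M2 →* MulAut ↥M :=
  MonoidHom.mk' (fun w =>
    { toFun := fun m => ⟨w.1 * m.1 * w.1⁻¹, conj_mem w.2 m.2⟩
      invFun := fun m => ⟨w.1⁻¹ * m.1 * w.1, by simpa using conj_mem (inv_mem w.2) m.2⟩
      left_inv := fun m => Subtype.ext (by simp [mul_assoc])
      right_inv := fun m => Subtype.ext (by simp [mul_assoc])
      map_mul' := fun a b => Subtype.ext (by simp [mul_assoc]) })
    fun a b => MulEquiv.ext fun m => Subtype.ext (by simp [mul_assoc])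

theorem conjM_apply (w : ↥M2) (m : ↥M) : ((conjM w m : ↥M) : Equiv.Perm (Fin 240)) = w.1 * m.1 * w.1⁻¹ := rfl

theorem cent_point {c : Equiv.Perm (Fin 240)} (hc : ∀ m ∈ M, c * m = m * c) :
    (c 0).val < 2 ∧ (c 0 = 0 → c = 1) := by
  have h := fix_checks
  simp only [fixB, Bool.and_eq_true, List.all_eq_true, List.any_eq_true, List.mem_range, Bool.or_eq_true,
    Nat.blt_eq, Nat.beq_eq, beq_iff_eq, Bool.not_eq_true', beq_eq_false_iff_ne, List.contains_iff_mem] at h
  obtain ⟨⟨⟨-, hS⟩, hmove⟩, htree⟩ := h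
  refine ⟨(hmove (c 0).val (c 0).isLt).elim id fun ⟨r, hr, hne⟩ => ?_, fun h0 => ?_⟩
  · obtain ⟨hrm, hr0⟩ := hS r hr
    obtain ⟨hok, hm⟩ := signed_mem hrm
    have h1 : permC 240 r (0 : Fin 240) = 0 := Fin.ext ((permC_apply hok 0).trans hr0)
    have h2 := DFunLike.congr_fun (hc _ hm) (0 : Fin 240)
    rw [Equiv.Perm.mul_apply, Equiv.Perm.mul_apply, h1] at h2
    exact absurd ((permC_apply hok (c 0)).symm.trans (congrArg Fin.val h2.symm)) hne
  · have key : ∀ d, ∀ i : Fin 240, (signedTree.getD i.val (0, 0, 0)).2.2 = d → c i = i := by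
      intro d
      induction d using Nat.strong_induction_on with
      | _ d ih =>
        intro i hi
        rcases htree i.val i.isLt with e | ⟨⟨⟨hk, hp⟩, hd⟩, he⟩
        · rw [show i = 0 from Fin.ext e, h0]
        · have hb : (signedTree.getD i.val (0, 0, 0)).1 < signedBase.length := by rw [signed_len]; exact hk
          obtain ⟨hok, hm⟩ := signed_mem (List.mem_append_left _ (List.getElem_mem hb))
          rw [← List.getD_eq_getElem _ 0 hb] at hok hm
          have hi' : permC 240 (signedBase.getD (signedTree.getD i.val (0, 0, 0)).1 0)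
              (⟨_, hp⟩ : Fin 240) = i := Fin.ext ((permC_apply hok _).trans he)
          have h2 := DFunLike.congr_fun (hc _ hm) (⟨_, hp⟩ : Fin 240)
          rw [Equiv.Perm.mul_apply, Equiv.Perm.mul_apply, ih _ (hi ▸ hd) ⟨_, hp⟩ rfl, hi'] at h2
          exact h2
    exact Equiv.ext fun i => key _ i rfl

theorem card_ker_conjM : Nat.card conjM.ker ≤ 2 := by
  have hc : ∀ w : conjM.ker, ∀ m ∈ M, w.1.1 * m = m * w.1.1 := fun w m hm => by
    have h := congrArg Subtype.val (DFunLike.congr_fun (MonoidHom.mem_ker.1 w.2) ⟨m, hm⟩)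
    rw [conjM_apply] at h
    exact mul_inv_eq_iff_eq_mul.1 h
  let f : conjM.ker → Fin 2 := fun w => ⟨(w.1.1 0).val, (cent_point (hc w)).1⟩
  refine (Nat.card_le_card_of_injective f fun a b hab => ?_).trans_eq (Nat.card_fin 2)
  have h0 : a.1.1 0 = b.1.1 0 := Fin.ext (congrArg Fin.val hab :)
  have hd := (cent_point (hc (b⁻¹ * a))).2 (by
    show (b.1.1⁻¹ * a.1.1 : Equiv.Perm (Fin 240)) 0 = 0
    rw [Equiv.Perm.mul_apply, h0]
    exact b.1.1.symm_apply_apply 0)
  exact (inv_mul_eq_one.1 (Subtype.ext (Subtype.ext hd))).symm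

theorem center_M : center ↥M = projM.ker := by
  refine le_antisymm (fun z hz => ?_) stem_projM.2.1
  have hc : center ↥H8 = ⊥ := by
    have := H8_simple.1
    refine (IsSimpleGroup.eq_bot_or_eq_top_of_normal _ inferInstance).resolve_right fun h => ?_
    have h1 := H8_simple.2
    rw [(commutator_eq_bot_iff_center_eq_top _).2 h] at h1
    exact bot_ne_top h1
  rw [MonoidHom.mem_ker, ← Subgroup.mem_bot, ← hc, mem_center_iff]
  intro h
  obtain ⟨m, rfl⟩ := stem_projM.1 h
  rw [← map_mul, ← map_mul, mem_center_iff.1 hz m]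

/-- Two homomorphisms from a perfect group that agree modulo the centre are equal. -/
theorem eq_of_center {A B : Type} [Group A] [Group B] (hA : commutator A = ⊤) {f g : A →* B}
    (h : ∀ a, (g a)⁻¹ * f a ∈ center B) : f = g := by
  refine MonoidHom.eq_of_eqOn_top fun x _ => ?_
  have hle : commutator A ≤ f.eqLocus g := by
    rw [_root_.commutator_def, commutator_le]
    intro a _ b _
    show f ⁅a, b⁆ = g ⁅a, b⁆
    rw [map_commutatorElement, map_commutatorElement]
    have ha := h a
    have hb := h b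
    obtain ⟨za, hza⟩ : ∃ z, f a = g a * z := ⟨_, (mul_inv_cancel_left (g a) (f a)).symm⟩
    obtain ⟨zb, hzb⟩ : ∃ z, f b = g b * z := ⟨_, (mul_inv_cancel_left (g b) (f b)).symm⟩
    rw [hza, inv_mul_cancel_left] at ha
    rw [hzb, inv_mul_cancel_left] at hb
    rw [hza, hzb, commutatorElement_def, commutatorElement_def]
    have h1 := mem_center_iff.1 ha
    have h2 := mem_center_iff.1 hb
    rw [show g a * za * (g b * zb) * (g a * za)⁻¹ * (g b * zb)⁻¹ =
        g a * (za * (g b * zb) * za⁻¹) * (g a)⁻¹ * zb⁻¹ * (g b)⁻¹ by group,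
      ← h1 (g b * zb), mul_inv_cancel_right,
      show g a * (g b * zb) * (g a)⁻¹ * zb⁻¹ * (g b)⁻¹ = g a * g b * (zb * (g a)⁻¹ * zb⁻¹) * (g b)⁻¹ by group,
      ← h2 (g a)⁻¹, mul_inv_cancel_right]
  exact hle (hA.ge (mem_top x))

/-- The automorphism below. -/
noncomputable def toBelow : MulAut ↥M →* MulAut ↥H8 where
  toFun α :=
    (QuotientGroup.quotientKerEquivOfSurjective projM stem_projM.1).symm.trans
      ((QuotientGroup.congr projM.ker projM.ker α (by
        rw [← center_M]
        exact Subgroup.characteristic_iff_map_eq.1 inferInstance α)).trans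
        (QuotientGroup.quotientKerEquivOfSurjective projM stem_projM.1))
  map_one' := MulEquiv.ext fun h => by
    obtain ⟨m, rfl⟩ := stem_projM.1 h
    have e : (QuotientGroup.quotientKerEquivOfSurjective projM stem_projM.1).symm (projM m) = (m : ↥M ⧸ projM.ker) :=
      (MulEquiv.symm_apply_eq _).2 rfl
    simp only [MulEquiv.trans_apply, e]
    rfl
  map_mul' α β := MulEquiv.ext fun h => by
    obtain ⟨m, rfl⟩ := stem_projM.1 h
    have e : ∀ m : ↥M, (QuotientGroup.quotientKerEquivOfSurjective projM stem_projM.1).symm (projM m) =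
        (m : ↥M ⧸ projM.ker) := fun m => (MulEquiv.symm_apply_eq _).2 rfl
    simp only [MulEquiv.trans_apply, MulAut.mul_apply, e]
    rw [MulEquiv.symm_apply_apply]
    rfl

theorem toBelow_apply (α : MulAut ↥M) (m : ↥M) : toBelow α (projM m) = projM (α m) := by
  have e : (QuotientGroup.quotientKerEquivOfSurjective projM stem_projM.1).symm (projM m) = (m : ↥M ⧸ projM.ker) :=
    (MulEquiv.symm_apply_eq _).2 rfl
  simp only [toBelow, MonoidHom.coe_mk, OneHom.coe_mk, MulEquiv.trans_apply, e]
  rfl

theorem toBelow_injective : Function.Injective toBelow := by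
  intro α β h
  refine MulEquiv.ext fun m => DFunLike.congr_fun
    (eq_of_center (f := α.toMonoidHom) (g := β.toMonoidHom) commutator_M fun a => ?_) m
  rw [center_M, MonoidHom.mem_ker, map_mul, map_inv]
  show (projM (β a))⁻¹ * projM (α a) = 1
  rw [← toBelow_apply, ← toBelow_apply, h, inv_mul_cancel]

theorem not_surjective_toBelow : ¬ Function.Surjective toBelow := by
  intro hs
  obtain ⟨θ, π, hπ, -, v, hv, hvs, hv1⟩ := exists_projA
  obtain ⟨α, hα⟩ := hs θ
  have e : π = α.toMonoidHom.comp psiM := eq_of_center commutator_BigO fun g => by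
    rw [center_M, MonoidHom.mem_ker, map_mul, map_inv]
    show (projM (α (psiM g)))⁻¹ * projM (π g) = 1
    rw [← toBelow_apply, hα, projM_psiM, hπ, inv_mul_cancel]
  rw [e] at hv1
  have h1 : psiM v = 1 := α.injective (hv1.trans (map_one α).symm)
  have h2 := DFunLike.congr_fun (congrArg Subtype.val h1) (sgnPts (0, 0))
  rw [psiM_val, psi_apply, (ker_facts hv).2.1] at h2
  have h3 : phaseA v = 1 := congrArg Prod.fst hvs
  rw [h3] at h2
  exact absurd (congrArg Prod.snd (sgnPts.injective h2)) (by decide)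

theorem card_aut_H8 : Nat.card (MulAut ↥H8) = 6 * 174182400 := by
  obtain ⟨e⟩ := pomega_equiv (F := ZMod 2) (ZMod.card 2)
  have : Fact (Nat.Prime 2) := ⟨Nat.prime_two⟩
  rw [Nat.card_congr (MulAut.congr e).toEquiv,
    Cfsg.Agent.S0817.result 2 1 le_rfl (ZMod.card 2) 4 le_rfl, ← Nat.card_congr e.toEquiv, card_H8]
  norm_num

theorem conjM_surjective : Function.Surjective conjM := by
  have hr2 : 2 * 174182400 ∣ Nat.card (MulAut ↥M) := by
    have h := conjM.ker.card_mul_index
    rw [index_ker, card_M2] at h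
    have hk := card_ker_conjM
    have hne : Nat.card conjM.ker ≠ 1 := fun h1 => by
      have hbot := Subgroup.card_eq_one.1 h1
      obtain ⟨⟨z, hz⟩, hz1⟩ := (Subgroup.ne_bot_iff_exists_ne_one (H := projM.ker)).1
        fun hb => by have := card_ker_projM; rw [hb, Subgroup.card_bot] at this; omega
      have hzk : (⟨z.1, M_le_M2 z.2⟩ : ↥M2) ∈ conjM.ker := MonoidHom.mem_ker.2 (MulEquiv.ext fun m =>
        Subtype.ext (by
          rw [conjM_apply]
          show z.1 * m.1 * z.1⁻¹ = m.1
          rw [show z.1 * m.1 = m.1 * z.1 from congrArg Subtype.val (mem_center_iff.1 (stem_projM.2.1 hz) m).symm,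
            mul_inv_cancel_right]))
      rw [hbot, Subgroup.mem_bot] at hzk
      exact hz1 (Subtype.ext (Subtype.ext (congrArg (fun x : ↥M2 => x.1) hzk :)))
    have h2 : Nat.card conjM.ker = 2 := by have := Nat.card_pos (α := conjM.ker); omega
    rw [h2] at h
    have e : Nat.card conjM.range = 2 * 174182400 :=
      Nat.eq_of_mul_eq_mul_left (by norm_num : 0 < 2) (h.trans (by norm_num))
    exact e ▸ Subgroup.card_subgroup_dvd_card _
  have hdvd : Nat.card (MulAut ↥M) ∣ 6 * 174182400 :=
    card_aut_H8 ▸ Subgroup.card_dvd_of_injective toBelow toBelow_injective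
  have hne : Nat.card (MulAut ↥M) ≠ 6 * 174182400 := fun h =>
    not_surjective_toBelow (toBelow_injective.bijective_of_nat_card_le (by rw [h, card_aut_H8])).2
  have hcard : Nat.card (MulAut ↥M) = 2 * 174182400 := by
    obtain ⟨d, hd⟩ := hr2
    have hd3 : d ∣ 3 := Nat.dvd_of_mul_dvd_mul_left (by norm_num : 0 < 2 * 174182400)
      (hd ▸ (show 2 * 174182400 * 3 = 6 * 174182400 by norm_num) ▸ hdvd)
    rcases (Nat.dvd_prime Nat.prime_three).1 hd3 with rfl | rfl
    · rw [hd, mul_one]
    · exact absurd (hd.trans (by norm_num)) hne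
  refine MonoidHom.range_eq_top.1 (Subgroup.eq_top_of_card_eq _ ?_)
  have h := conjM.ker.card_mul_index
  rw [index_ker, card_M2] at h
  have hle : Nat.card conjM.range ≤ 2 * 174182400 := hcard ▸ Subgroup.card_le_card_group _
  have hk := card_ker_conjM
  rw [hcard]
  nlinarith [Nat.card_pos (α := conjM.ker), Nat.card_pos (α := conjM.range)]

/-- Every automorphism of the double cover is the conjugation by a member of the larger group. -/
theorem aut_eq_conj (α : ↥M ≃* ↥M) :
    ∃ w ∈ M2, ∀ m : ↥M, ((α m : ↥M) : Equiv.Perm (Fin 240)) = w * m.1 * w⁻¹ := by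
  obtain ⟨w, hw⟩ := conjM_surjective α
  exact ⟨w.1, w.2, fun m => by rw [← hw, conjM_apply]⟩

end CfsgLib.OEightStd
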