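import Cfsg.Agent.Lib.OEightStd.Facts
import Cfsg.Agent.Lib.Invol.Counting
import Cfsg.Agent.Lib.Cores.Basic

/-!
# Elements acting on the component as elements of W(E8)

The elements commuting with the central involution `T` act on the component as elements of `W`; those of order five
act from inside the component up to an element of odd order centralising it.
-/

set_option autoImplicit false

namespace CfsgLib.OEightStd

variable {W : Type*} [Group W] {M : Subgroup W} {t s qa qb R r k : W}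
variable {G : Type*} [Group G]

namespace Facts

variable (F : Facts M t s qa qb R r k)
include F

theorem tc (a : W) : t * a = a * t := (F.t_central a).eq

theorem tt_mul (a : W) : t * (t * a) = a := by rw [← mul_assoc, F.t2, one_mul]

theorem out_inv {a : W} (ha : a ∉ M) : a⁻¹ ∉ M := fun h => ha (by simpa using inv_mem h)

theorem conj_mem (w : W) {a : W} (ha : a ∈ M) : w * a * w⁻¹ ∈ M := by
  by_cases hw : w ∈ M
  · exact mul_mem (mul_mem hw ha) (inv_mem hw)
  · refine F.out_mul _ _ (fun h => hw ?_) (F.out_inv hw)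
    have := mul_mem h (inv_mem ha)
    rwa [mul_inv_cancel_right] at this

theorem mul_out {a w : W} (ha : a ∈ M) (hw : w ∉ M) : a * w ∉ M := fun h => hw (by
  have := mul_mem (inv_mem ha) h
  rwa [inv_mul_cancel_left] at this)

theorem sq_mem (w : W) : w * w ∈ M := by
  by_cases hw : w ∈ M
  · exact mul_mem hw hw
  · exact F.out_mul _ _ hw hw

/-- The conjugation by `w` commutes with the product by `t`. -/
theorem conj_t (w a : W) : w * (t * a) * w⁻¹ = t * (w * a * w⁻¹) := by
  rw [← mul_assoc w t a, ← F.tc w]; group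

theorem mc_t {a b : W} (h : MC M a b) : MC M (t * a) (t * b) := by
  obtain ⟨m, hm, rfl⟩ := h
  exact ⟨m, hm, F.conj_t m a⟩

theorem commute_t_iff {a w : W} : Commute a (t * w) ↔ Commute a w := by
  refine ⟨fun h => ?_, fun h => (F.t_central a).symm.mul_right h⟩
  have := (F.t_central a).symm.mul_right h
  rwa [F.tt_mul] at this

theorem five_t (w : W) : Five M (t * w) = Five M w := by
  simp only [Five, F.commute_t_iff]

theorem five_conj {w m x : W} (hx : x ∈ Five M w) : m * x * m⁻¹ ∈ Five M (m * w * m⁻¹) := by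
  induction hx using Subgroup.closure_induction with
  | mem x hx =>
    exact Subgroup.subset_closure ⟨F.conj_mem m hx.1, by rw [conj_pow, hx.2.1, mul_one, mul_inv_cancel], hx.2.2.conj m⟩
  | one => rw [mul_one, mul_inv_cancel]; exact one_mem _
  | mul x y _ _ ihx ihy =>
    rw [show m * (x * y) * m⁻¹ = m * x * m⁻¹ * (m * y * m⁻¹) by group]; exact mul_mem ihx ihy
  | inv x _ ih => rw [show m * x⁻¹ * m⁻¹ = (m * x * m⁻¹)⁻¹ by group]; exact inv_mem ih

theorem five_of_mc {a w x : W} (h : MC M a w) (hx : x ∈ Five M w) :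
    ∃ m ∈ M, m * a * m⁻¹ = w ∧ m⁻¹ * x * m ∈ Five M a := by
  obtain ⟨m, hm, rfl⟩ := h
  refine ⟨m, hm, rfl, ?_⟩
  have := F.five_conj (m := m⁻¹) hx
  simpa [mul_assoc] using this

theorem five_trivial {w : W} (hw : w = qa ∨ w = qb ∨ w = k) {x : W} (hx : x ∈ Five M w) : x = 1 := by
  induction hx using Subgroup.closure_induction with
  | mem x hx => exact F.five_bot w hw x hx.1 hx.2.1 hx.2.2
  | one => rfl
  | mul x y _ _ ihx ihy => rw [ihx, ihy, one_mul]
  | inv x _ ih => rw [ih, inv_one]

/-- A fifth root of one commutes with `w` when it conjugates it to `w` or `t * w`. -/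
theorem commute_of_five {a w : W} (h5 : a ^ 5 = 1) (h : a * w * a⁻¹ = w ∨ a * w * a⁻¹ = t * w) :
    Commute a w := by
  rcases h with h | h
  · exact mul_inv_eq_iff_eq_mul.1 h
  · have h2 : Commute (a * a) w := by
      refine mul_inv_eq_iff_eq_mul.1 ?_
      rw [show a * a * w * (a * a)⁻¹ = a * (a * w * a⁻¹) * a⁻¹ by group, h, F.conj_t, h, F.tt_mul]
    have ha : a = ((a * a) * (a * a))⁻¹ := eq_inv_of_mul_eq_one_left (by
      rw [← h5]; simp [pow_succ, mul_assoc])
    rw [ha]
    exact (h2.mul_left h2).inv_left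

end Facts

/-- The embedding of the component as a function on `W`. -/
noncomputable def io (ι : M →* G) (a : W) : G := by
  classical exact if h : a ∈ M then ι ⟨a, h⟩ else 1

theorem io_eq (ι : M →* G) {a : W} (h : a ∈ M) : io ι a = ι ⟨a, h⟩ := by
  unfold io; rw [dif_pos h]

theorem io_mul (ι : M →* G) {a b : W} (ha : a ∈ M) (hb : b ∈ M) : io ι (a * b) = io ι a * io ι b := by
  rw [io_eq ι ha, io_eq ι hb, io_eq ι (mul_mem ha hb), ← map_mul]; rfl

theorem io_one (ι : M →* G) : io ι (1 : W) = 1 := by rw [io_eq ι (one_mem M)]; exact map_one ι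

theorem io_inv (ι : M →* G) {a : W} (ha : a ∈ M) : io ι a⁻¹ = (io ι a)⁻¹ := by
  rw [io_eq ι ha, io_eq ι (inv_mem ha), ← map_inv]; rfl

/-- `g` acts on the component as `w`. -/
def Acts (ι : M →* G) (g : G) (w : W) : Prop :=
  ∀ a ∈ M, g * io ι a * g⁻¹ = io ι (w * a * w⁻¹)

/-- The component with its central involution and the centraliser with cyclic Sylow two-subgroups. -/
structure Setting (M : Subgroup W) (t s qa qb R r k : W) (ι : M →* G) : Prop where
  inj : Function.Injective ι
  facts : Facts M t s qa qb R r k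
  act : ∀ g : G, Commute g (io ι t) → ∃ w : W, Acts ι g w
  cyc : ∀ P : Sylow 2 (Subgroup.centralizer (ι.range : Set G)),
    IsCyclic ↥(P : Subgroup ↥(Subgroup.centralizer (ι.range : Set G)))

/-- The subgroup generated by the fifth roots of one centralising two elements. -/
def Gam (a b : G) : Subgroup G := Subgroup.closure {h | h ^ 5 = 1 ∧ Commute h a ∧ Commute h b}

/-- The fifth roots of one in the centraliser of the component. -/
def OddFive (ι : M →* G) : Subgroup G :=
  Subgroup.closure {h | h ∈ Subgroup.centralizer (ι.range : Set G) ∧ h ^ 5 = 1}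

theorem gam_comm (a b : G) : Gam a b = Gam b a := by
  simp only [Gam, and_comm (a := Commute _ a)]

theorem conj_gam {a b : G} (g : G) {x : G} (hx : x ∈ Gam a b) :
    g * x * g⁻¹ ∈ Gam (g * a * g⁻¹) (g * b * g⁻¹) := by
  induction hx using Subgroup.closure_induction with
  | mem x hx =>
    exact Subgroup.subset_closure ⟨by rw [conj_pow, hx.1, mul_one, mul_inv_cancel], hx.2.1.conj g, hx.2.2.conj g⟩
  | one => rw [mul_one, mul_inv_cancel]; exact one_mem _
  | mul x y _ _ ihx ihy =>
    rw [show g * (x * y) * g⁻¹ = g * x * g⁻¹ * (g * y * g⁻¹) by group]; exact mul_mem ihx ihy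
  | inv x _ ih => rw [show g * x⁻¹ * g⁻¹ = (g * x * g⁻¹)⁻¹ by group]; exact inv_mem ih

namespace Setting

variable {ι : M →* G} (D : Setting M t s qa qb R r k ι)

local notation "T" => io ι t
local notation "K" => Subgroup.centralizer (ι.range : Set G)

omit D in
theorem range_comm {x : G} (hx : x ∈ K) {a : W} (ha : a ∈ M) : Commute x (io ι a) := by
  refine Commute.symm ?_
  rw [io_eq ι ha]
  exact Subgroup.mem_centralizer_iff.1 hx _ ⟨⟨a, ha⟩, rfl⟩

omit D in
theorem acts_K {x : G} (hx : x ∈ K) : Acts ι x (1 : W) := fun a ha => by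
  rw [(range_comm hx ha).eq, mul_inv_cancel_right]; simp

omit D in
theorem acts_io {b : W} (hb : b ∈ M) : Acts ι (io ι b) b := fun a ha => by
  rw [io_mul ι (mul_mem hb ha) (inv_mem hb), io_mul ι hb ha, io_inv ι hb]

include D

theorem io_inj {a b : W} (ha : a ∈ M) (hb : b ∈ M) (h : io ι a = io ι b) : a = b := by
  rw [io_eq ι ha, io_eq ι hb] at h
  exact congrArg Subtype.val (D.inj h)

theorem acts_mul {g h : G} {v w : W} (hg : Acts ι g v) (hh : Acts ι h w) : Acts ι (g * h) (v * w) := fun a ha => by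
  rw [show g * h * io ι a * (g * h)⁻¹ = g * (h * io ι a * h⁻¹) * g⁻¹ by group, hh a ha,
    hg _ (D.facts.conj_mem w ha)]
  congr 1; group

theorem acts_inv {g : G} {w : W} (hg : Acts ι g w) : Acts ι g⁻¹ w⁻¹ := fun a ha => by
  have h := hg _ (D.facts.conj_mem w⁻¹ ha)
  rw [show w * (w⁻¹ * a * w⁻¹⁻¹) * w⁻¹ = a by group] at h
  rw [← h]; group

theorem acts_t {g : G} {w : W} (hg : Acts ι g w) : Acts ι g (t * w) := fun a ha => by
  rw [hg a ha]; congr 1
  rw [show t * w * a * (t * w)⁻¹ = t * (w * a * w⁻¹) * t⁻¹ by group, D.facts.tc, mul_inv_cancel_right]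

theorem acts_unique {g : G} {v w : W} (hv : Acts ι g v) (hw : Acts ι g w) : v = w ∨ v = t * w := by
  have h : ∀ a ∈ M, Commute a (w⁻¹ * v) := fun a ha => by
    have e := D.io_inj (D.facts.conj_mem v ha) (D.facts.conj_mem w ha) ((hv a ha).symm.trans (hw a ha))
    refine (mul_inv_eq_iff_eq_mul.1 ?_).symm
    rw [show w⁻¹ * v * a * (w⁻¹ * v)⁻¹ = w⁻¹ * (v * a * v⁻¹) * w by group, e]
    group
  rcases D.facts.cent _ h with e | e
  · exact Or.inl (inv_mul_eq_one.1 e).symm
  · exact Or.inr (by rw [inv_mul_eq_iff_eq_mul.1 e, D.facts.tc])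

theorem tmul {a : W} (ha : a ∈ M) : T * io ι a = io ι (t * a) := (io_mul ι D.facts.t_mem ha).symm

theorem tt : T * T = 1 := by rw [D.tmul D.facts.t_mem, D.facts.t2, io_one]

theorem tne : T ≠ 1 := fun h =>
  D.facts.t_ne (D.io_inj D.facts.t_mem (one_mem M) (h.trans (io_one ι).symm))

theorem comm_T_io {a : W} (ha : a ∈ M) : Commute (io ι a) T := by
  show io ι a * T = T * io ι a
  rw [← io_mul ι ha D.facts.t_mem, D.tmul ha, D.facts.tc]

theorem comm_of_acts {g : G} {w : W} (hg : Acts ι g w) : Commute g T := by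
  refine mul_inv_eq_iff_eq_mul.1 ?_
  rw [hg t D.facts.t_mem, ← D.facts.tc w, mul_inv_cancel_right]

theorem T_mem : T ∈ K := by
  refine Subgroup.mem_centralizer_iff.2 ?_
  rintro _ ⟨⟨a, ha⟩, rfl⟩
  rw [← io_eq ι ha]
  exact (D.comm_T_io ha).eq

/-- An element of the component centralising it is `1` or `t`. -/
theorem meet {a : W} (ha : a ∈ M) (h : io ι a ∈ K) : a = 1 ∨ a = t :=
  D.facts.cent a fun m hm => by
    have := range_comm h hm
    refine (D.io_inj (mul_mem ha hm) (mul_mem hm ha) ?_).symm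
    rw [io_mul ι ha hm, io_mul ι hm ha]
    exact this.eq

/-- An element acting as an element of the component. -/
theorem inner_eq {g : G} {a : W} (ha : a ∈ M) (h : Acts ι g a) : ∃ x ∈ K, g = io ι a * x := by
  refine ⟨(io ι a)⁻¹ * g, Subgroup.mem_centralizer_iff.2 ?_, by group⟩
  rintro _ ⟨⟨b, hb⟩, rfl⟩
  rw [← io_eq ι hb]
  have h1 := h b hb
  rw [← acts_io ha b hb] at h1
  calc io ι b * ((io ι a)⁻¹ * g) = (io ι a)⁻¹ * (io ι a * io ι b * (io ι a)⁻¹) * g := by group
    _ = (io ι a)⁻¹ * g * io ι b := by rw [← h1]; group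

theorem mul_io_comm {a b : W} {x y : G} (hx : x ∈ K) (ha : a ∈ M) (hb : b ∈ M) :
    io ι a * x * (io ι b * y) = io ι (a * b) * (x * y) := by
  rw [io_mul ι ha hb, mul_assoc (io ι a) x, ← mul_assoc x, (range_comm hx hb).eq]
  simp only [mul_assoc]

/-- A product of an element of the component and of its centraliser determines both up to `t`. -/
theorem split {a b : W} {x y : G} (ha : a ∈ M) (hb : b ∈ M) (hx : x ∈ K) (hy : y ∈ K)
    (h : io ι a * x = io ι b * y) : (b = a ∧ x = y) ∨ (b = t * a ∧ x = T * y) := by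
  have hm : io ι (a⁻¹ * b) = x * y⁻¹ := by
    rw [io_mul ι (inv_mem ha) hb, io_inv ι ha, eq_mul_inv_iff_mul_eq, mul_assoc, ← h, inv_mul_cancel_left]
  rcases D.meet (mul_mem (inv_mem ha) hb) (hm ▸ mul_mem hx (inv_mem hy)) with e | e <;> rw [e] at hm
  · rw [io_one] at hm
    exact Or.inl ⟨(inv_mul_eq_one.1 e).symm, mul_inv_eq_one.1 hm.symm⟩
  · exact Or.inr ⟨by rw [inv_mul_eq_iff_eq_mul.1 e, D.facts.tc], by rw [hm, inv_mul_cancel_right]⟩

variable [Finite G]

/-- The central involution is the only involution of the centraliser of the component. -/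
theorem invol_K {x : G} (hx : x ∈ K) (h2 : x * x = 1) : x = 1 ∨ x = T := by
  haveI : Fact (Nat.Prime 2) := ⟨Nat.prime_two⟩
  by_cases h1 : x = 1
  · exact Or.inl h1
  right
  let x' : K := ⟨x, hx⟩
  let t' : K := ⟨T, D.T_mem⟩
  have htc : ∀ z : K, Commute z t' := fun z => Subtype.ext (range_comm z.2 D.facts.t_mem).eq
  haveI : (Subgroup.zpowers t').Normal := ⟨fun z hz a => by
    obtain ⟨m, rfl⟩ := Subgroup.mem_zpowers_iff.1 hz
    rw [((htc a).zpow_right m).eq, mul_inv_cancel_right]
    exact Subgroup.zpow_mem_zpowers _ _⟩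
  have hx2 : orderOf x' = 2 := orderOf_eq_prime (by rw [pow_two]; exact Subtype.ext h2) fun e =>
    h1 (congrArg Subtype.val e)
  have ht2 : orderOf t' = 2 := orderOf_eq_prime (by rw [pow_two]; exact Subtype.ext D.tt) fun e =>
    D.tne (congrArg Subtype.val e)
  have hkp : IsPGroup 2 (Subgroup.zpowers x') :=
    IsPGroup.of_card (n := 1) (by rw [Nat.card_zpowers, hx2, pow_one])
  have htp : IsPGroup 2 (Subgroup.zpowers t') :=
    IsPGroup.of_card (n := 1) (by rw [Nat.card_zpowers, ht2, pow_one])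
  obtain ⟨P, hP⟩ := hkp.exists_le_sylow
  have htP : t' ∈ (P : Subgroup _) :=
    Cores.pCore_le_sylow P (Cores.le_pCore htp (Subgroup.mem_zpowers t'))
  obtain ⟨g, hg⟩ := (D.cyc P).exists_generator
  have := Invol.mem_zpowers_unique_involution (r := g) (hg ⟨x', hP (Subgroup.mem_zpowers x')⟩) (hg ⟨t', htP⟩)
    ((Subgroup.orderOf_mk _ _).trans hx2) ((Subgroup.orderOf_mk _ _).trans ht2)
  exact congrArg Subtype.val (congrArg Subtype.val this :)

/-- The subgroup of the fifth roots of one of the centraliser has odd order. -/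
theorem oddFive {x : G} (hx : x ∈ OddFive ι) : x ∈ K ∧ Odd (orderOf x) := by
  classical
  haveI : Fact (Nat.Prime 2) := ⟨Nat.prime_two⟩
  obtain ⟨P⟩ : Nonempty (Sylow 2 K) := inferInstance
  have hK2 : (Nat.card K).minFac = 2 := by
    refine (Nat.minFac_eq_two_iff _).2 ?_
    have : orderOf (⟨T, D.T_mem⟩ : K) = 2 := orderOf_eq_prime (by rw [pow_two]; exact Subtype.ext D.tt)
      fun e => D.tne (congrArg Subtype.val e)
    exact this ▸ orderOf_dvd_natCard _
  have hN := IsCyclic.normalizer_le_centralizer hK2 (D.cyc P)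
  have hcomp := MonoidHom.ker_transferSylow_isComplement' P hN
  let f := MonoidHom.transferSylow P hN
  have hodd : Odd (Nat.card f.ker) := by
    show Odd (Nat.card (MonoidHom.transferSylow P hN).ker)
    rw [← Subgroup.IsComplement'.index_eq_card hcomp]
    exact Nat.not_even_iff_odd.1 fun he => P.not_dvd_index (even_iff_two_dvd.1 he)
  have hle : OddFive ι ≤ f.ker.map (Subgroup.subtype K) := (Subgroup.closure_le _).2 fun z hz => by
    refine ⟨⟨z, hz.1⟩, ?_, rfl⟩
    show f ⟨z, hz.1⟩ = 1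
    obtain ⟨n, hn⟩ := IsPGroup.iff_card.1 P.2
    refine orderOf_eq_one_iff.1 (Nat.eq_one_of_dvd_coprimes (a := 5) (b := Nat.card (P : Subgroup K)) ?_ ?_ ?_)
    · rw [hn]; exact Nat.Coprime.pow_right _ (by norm_num)
    · exact orderOf_dvd_of_pow_eq_one (by rw [← map_pow, ← map_one f]; congr 1; exact Subtype.ext hz.2)
    · exact orderOf_dvd_natCard _
  obtain ⟨z, hz, rfl⟩ := hle hx
  refine ⟨z.2, ?_⟩
  rw [Subgroup.subtype_apply, Subgroup.orderOf_coe]
  refine hodd.of_dvd_nat ?_
  have := orderOf_dvd_natCard (⟨z, hz⟩ : f.ker)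
  rwa [Subgroup.orderOf_mk] at this

end Setting

end CfsgLib.OEightStd
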