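import Cfsg.Agent.Lib.OEightStd.Roots
import Cfsg.Agent.Lib.OEightStd.ClassData

/-!
# Representatives of the classes up to the change of all signs, as words in the frame roots
-/

set_option autoImplicit false

namespace CfsgLib.OEightStd

open Subgroup

/-- The change of all signs. -/
def tW : List ℕ := [0, 2, 4, 6, 8, 10, 12, 14]

/-- One reflection. -/
def rW : List ℕ := [0]

/-- Two orthogonal reflections. -/
def sW : List ℕ := [0, 2]

/-- Three orthogonal reflections. -/
def kW : List ℕ := [0, 2, 4]

/-- Four orthogonal reflections of the special type. -/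
def qbW : List ℕ := [0, 2, 4, 6]

/-- Four orthogonal reflections of the other type. -/
def qaW : List ℕ := [0, 2, 4, 8]

/-- The group acting on the component. -/
noncomputable abbrev W2 : Type := ↥M2

/-- The component in it. -/
noncomputable abbrev MW : Subgroup W2 := M.subgroupOf M2

/-- The element of a word. -/
noncomputable def wordE (w : List ℕ) : W2 :=
  (w.map fun a => if h : a < 240 then (⟨reflP a, (reflP_mem h).1⟩ : W2) else 1).prod

theorem wordE_append (u w : List ℕ) : wordE (u ++ w) = wordE u * wordE w := by
  simp [wordE]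

theorem coe_wordE : ∀ {w : List ℕ}, (∀ a ∈ w, a < 240) → ((wordE w : W2) : Equiv.Perm (Fin 240)) = wordP w
  | [], _ => rfl
  | a :: w, h => by
    rw [show wordE (a :: w) = wordE [a] * wordE w from wordE_append [a] w, Subgroup.coe_mul, wordP_cons,
      coe_wordE fun b hb => h b (List.mem_cons_of_mem _ hb)]
    simp [wordE, h a List.mem_cons_self]

theorem wordE_mem_iff {w : List ℕ} (h : ∀ a ∈ w, a < 240) : wordE w ∈ MW ↔ Even w.length := by
  rw [mem_subgroupOf, coe_wordE h, wordP_mem_iff h]

theorem wordE_eq {u w : List ℕ} (hu : ∀ a ∈ u, a < 240) (hw : ∀ a ∈ w, a < 240)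
    (h : ∀ i < 16, evalW u i = evalW w i) : wordE u = wordE w :=
  Subtype.ext (by rw [coe_wordE hu, coe_wordE hw, wordP_eq hu hw h])

end CfsgLib.OEightStd
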