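import Cfsg.Agent.Lib.OEightStd.Auto
import Cfsg.Prelude.Def_Local

/-!
# A standard subgroup of the type of the double cover and the action of its normaliser on the model
-/

set_option autoImplicit false

namespace CfsgLib.OEightStd

open Subgroup

universe u w

/-- The quotient by the centraliser acts on the model as the larger group of signed permutations. -/
theorem exists_model {G : Type u} [Group G] [Finite G] (L : Subgroup G) (hq : Cfsg.IsQuasisimple ↥L)
    (hZ : Nat.card ↥(center ↥L) = 2) {F : Type w} [Field F] [Fintype F] (hF : Fintype.card F = 2)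
    (hLX : Nonempty ((↥L ⧸ center ↥L) ≃* Cfsg.POmega F (Cfsg.quadFormPlus 4 F))) :
    ∃ ι : ↥M →* G, Function.Injective ι ∧ ι.range = L ∧
      ∀ g ∈ normalizer (L : Set G), ∃ x ∈ M2, ∀ m m' : ↥M,
        (m' : Equiv.Perm (Fin 240)) = x * m.1 * x⁻¹ → g * ι m * g⁻¹ = ι m' := by
  obtain ⟨e⟩ := exists_iso hq.1.commutator_eq_top hZ hF hLX
  refine ⟨L.subtype.comp e.symm.toMonoidHom, L.subtype_injective.comp e.symm.injective, ?_, fun g hg => ?_⟩
  · rw [MonoidHom.range_comp, MonoidHom.range_eq_top.2 e.symm.surjective, ← MonoidHom.range_eq_map, range_subtype]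
  · let c : ↥L ≃* ↥L :=
      { toFun := fun a => ⟨g * a.1 * g⁻¹, (mem_normalizer_iff.1 hg a.1).1 a.2⟩
        invFun := fun a => ⟨g⁻¹ * a.1 * g, (mem_normalizer_iff.1 hg _).2 (by simp [mul_assoc])⟩
        left_inv := fun a => Subtype.ext (by simp [mul_assoc])
        right_inv := fun a => Subtype.ext (by simp [mul_assoc])
        map_mul' := fun a b => Subtype.ext (by simp [mul_assoc]) }
    obtain ⟨x, hx, hxe⟩ := aut_eq_conj ((e.symm.trans c).trans e)
    refine ⟨x, hx, fun m m' hm => ?_⟩
    have h : e (c (e.symm m)) = m' := Subtype.ext ((hxe m).trans hm.symm)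
    show g * (e.symm m).1 * g⁻¹ = (e.symm m').1
    rw [← h, MulEquiv.symm_apply_apply]
    rfl

end CfsgLib.OEightStd
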