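import Cfsg.Agent.Lib.OEightStd.Main
import Cfsg.Agent.Lib.OEightStd.Setting
import Cfsg.Agent.Lib.OEightStd.Reps

/-!
# The standard subgroup with the action of its normaliser by the group with a reflection
-/

set_option autoImplicit false

namespace CfsgLib.OEightStd

open Subgroup

universe u w

/-- A standard subgroup of this type is normal as soon as the facts about the model are known. -/
theorem normal_of_model {G : Type u} [Group G] [Finite G] (hO : Cfsg.oddCore G = ⊥) (L : Subgroup G)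
    (hL : Cfsg.IsStandardSubgroup L) (hZ : Nat.card ↥(center ↥L) = 2) {F : Type w} [Field F] [Fintype F]
    (hF : Fintype.card F = 2) (hLX : Nonempty ((↥L ⧸ center ↥L) ≃* Cfsg.POmega F (Cfsg.quadFormPlus 4 F)))
    (hR : ∀ P : Sylow 2 ↥(centralizer (L : Set G)), IsCyclic ↥(P : Subgroup ↥(centralizer (L : Set G))))
    {t s qa qb R r k : W2} {fr : Fin 8 → W2} (Fa : Facts MW t s qa qb R r k) (Fr : Frame MW t s r fr) :
    L.Normal := by
  obtain ⟨ι₀, hinj, hrange, hnorm⟩ := exists_model L hL.1 hZ hF hLX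
  let e : ↥MW ≃* ↥M := subgroupOfEquivOfLe M_le_M2
  refine normal_of_facts hO L hL (ι₀.comp e.toMonoidHom) (hinj.comp e.injective) ?_ (fun g hg => ?_) Fa Fr hR
  · rw [MonoidHom.range_comp, MonoidHom.range_eq_top.2 e.surjective, ← MonoidHom.range_eq_map, hrange]
  · obtain ⟨x, hx, hxe⟩ := hnorm g hg
    refine ⟨⟨x, hx⟩, fun a ha => ?_⟩
    have ha' : (⟨x, hx⟩ : W2) * a * (⟨x, hx⟩ : W2)⁻¹ ∈ MW := conj_mem hx ha
    rw [io_eq _ ha, io_eq _ ha']
    exact hxe (e ⟨a, ha⟩) (e ⟨_, ha'⟩) rfl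

end CfsgLib.OEightStd
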