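import Mathlib.Data.Nat.Notation

/-!
Certificates for the facts on the model (tools/oeightstd/emit3.py): words of roots.
-/

set_option autoImplicit false
set_option maxRecDepth 100000

namespace CfsgLib.OEightStd.Cert

/-- A commuting conjugate of the second representative. -/
def sPairW : List ℕ :=
  [140, 142]

/-- The partner of the first four. -/
def qaPartner : List ℕ :=
  [2, 6, 10, 12]

/-- The three of its witness. -/
def qaThree : List ℕ :=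
  [6, 10, 14]

/-- The partner of the special four. -/
def qbPartner : List ℕ :=
  [116, 112, 54, 50]

/-- The three of its witness. -/
def qbThree : List ℕ :=
  [132, 134, 128, 116, 8]

/-- A member of the witness triple. -/
def kWitA : List ℕ :=
  [0, 2, 4]

/-- A member of the witness triple. -/
def kWitB : List ℕ :=
  [0, 2, 6]

/-- A member of the witness triple. -/
def kWitC : List ℕ :=
  [0, 4, 8]

/-- Conjugators for the classes in sPair. -/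
def sPairConj : List (List ℕ) :=
  [[142, 122, 0, 0], [140, 0]]

/-- Conjugators for the classes in qaWit. -/
def qaWitConj : List (List ℕ) :=
  [[26, 18, 158, 146, 86, 82, 54, 50], [94, 82, 54, 50], [216, 208, 58, 50, 86, 82], [26, 22], [86, 82, 26, 22, 54, 50], [158, 146, 86, 82, 54, 50]]

/-- Conjugators for the classes in qbWit. -/
def qbWitConj : List (List ℕ) :=
  [[186, 12, 28, 20, 30, 22], [200, 0], [170, 20, 200, 54, 162, 26], [168, 18], [226, 94, 202, 2, 168, 18], [194, 60, 68, 0]]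

/-- Conjugators for the classes in kWit. -/
def kWitConj : List (List ℕ) :=
  [[], [52, 48], [152, 144, 84, 80], [20, 16, 22, 18], [30, 22, 54, 50], [124, 120, 86, 82, 22, 18, 54, 50], [216, 212, 20, 16]]

/-- Conjugators for the classes in frRefl. -/
def frReflConj : List (List ℕ) :=
  [[], [54, 50], [22, 18], [86, 82], [30, 22], [58, 54], [26, 22], [94, 82]]

/-- Conjugators for the classes in frPair. -/
def frPairConj : List (List ℕ) :=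
  [[], [84, 80], [20, 16], [152, 144], [28, 20], [92, 80], [24, 20], [], [22, 18, 54, 50], [86, 82, 54, 50], [30, 22, 54, 50], [154, 146, 54, 50], [26, 22, 54, 50], [94, 82, 54, 50], [84, 80], [22, 18, 54, 50], [20, 16, 22, 18], [58, 54, 22, 18], [28, 20, 22, 18], [152, 148, 22, 18], [24, 20, 22, 18], [20, 16], [86, 82, 54, 50], [20, 16, 22, 18], [58, 54, 86, 82], [58, 50, 86, 82], [92, 80, 86, 82], [186, 178, 86, 82], [152, 144], [30, 22, 54, 50], [58, 54, 22, 18], [58, 54, 86, 82], [28, 20, 30, 22], [92, 80, 30, 22], [24, 20, 30, 22], [28, 20], [154, 146, 54, 50], [28, 20, 22, 18], [58, 50, 86, 82], [28, 20, 30, 22], [30, 26, 58, 54], [94, 90, 58, 54], [92, 80], [26, 22, 54, 50], [152, 148, 22, 18], [92, 80, 86, 82], [92, 80, 30, 22], [30, 26, 58, 54], [24, 20, 26, 22], [24, 20], [94, 82, 54, 50], [24, 20, 22, 18], [186, 178, 86, 82], [24, 20, 30, 22], [94,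 90, 58, 54], [24, 20, 26, 22]]

/-- Elements of order five with the product of the two signs. -/
def fiveTs : List (List ℕ) :=
  [[134, 176, 74, 56], [128, 194, 184, 48], [192, 74, 184, 4]]

/-- Elements of order five with the product of all signs. -/
def fiveRoot : List (List ℕ) :=
  [[214, 218, 182, 18, 138, 74, 36, 0, 200, 26], [166, 172, 68, 66, 88, 82, 156, 2, 154, 0], [92, 86, 72, 66, 148, 2, 146, 0]]

/-- Two involutions and their factors of order five. -/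
def sPairFive : List (List ℕ × List (List ℕ)) :=
  [([8, 10], [[10, 8, 64, 180, 120, 60], [14, 134, 60, 204]]), ([8, 12], [[206, 120, 60, 180], [8, 206, 112, 66]])]

/-- The same for each pair with the first reflection. -/
def pairFive : List (List (List ℕ × List (List ℕ))) :=
  [[([4, 6], [[112, 194, 48, 4], [64, 60, 192, 180]]), ([4, 8], [[206, 130, 8, 66], [180, 132, 56, 4]])], [([2, 6], [[160, 6, 152, 28], [44, 28, 6, 8, 184, 180, 88, 84]]), ([2, 8], [[164, 112, 8, 20], [156, 116, 44, 2]])], [([2, 4], [[234, 4, 206, 48, 164, 28], [224, 130, 2, 6, 184, 56, 148, 16]]), ([2, 8], [[110, 130, 84, 220], [130, 230, 110, 2]])], [([2, 4], [[2, 48, 92, 10, 104, 20], [44, 10, 92, 80]]), ([2, 6], [[84, 36, 96, 2], [66, 80, 20, 102]])], [([2, 4], [[224, 48, 4, 152], [212, 56, 164, 2]]), ([2, 6], [[236, 206, 6, 230, 180, 20, 88, 84], [84, 36, 144, 124, 88, 16]])], [([2,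 4], [[230, 204, 32, 2], [212, 180, 4, 40]]), ([2, 6], [[180, 16, 224, 2], [192, 230, 4, 32]])], [([2, 4], [[96, 204, 4, 170], [84, 206, 156, 2]]), ([2, 6], [[92, 4, 160, 2], [164, 144, 110, 88]])]]

/-- Elements of order five commuting with the second representative. -/
def fiveGens : List (List ℕ) :=
  [[124, 188, 74, 4], [134, 192, 72, 4]]

/-- Words in these from the third frame root to each later frame point, from four on. -/
def fiveReach : List (List ℕ) :=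
  [[], [1, 1, 1, 0, 0], [0, 0, 0, 1, 0], [1, 1, 1, 1, 0], [0, 1, 0, 0], [1, 0, 0, 0], [1, 0, 1, 0], [1, 0, 0, 1], [1, 0], [0, 1], [1, 1], [0, 0]]

/-- Words in these fixing the third frame root. -/
def fiveLoops : List (List ℕ) :=
  [[0, 0, 0, 0, 1, 1, 1, 1, 0, 0, 0, 0, 1, 1, 1, 1, 0, 1, 1, 0], [0, 0, 0, 0, 0, 0, 0, 0, 1, 1, 1, 1, 0, 0, 0, 0, 1, 0, 1, 1]]

/-- A signed point deciding the orientation. -/
def fiveTest : ℕ :=
  16

/-- Orthogonal tuples, a further root, a word moving them into the frame and their images. -/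
def frameSteps : List (List ℕ × ℕ × List ℕ × List ℕ) :=
  [([], 0, [], [0]), ([], 2, [54, 50], [0]), ([], 4, [22, 18], [0]), ([], 6, [86, 82], [0]), ([], 8, [30, 22], [0]), ([], 10, [58, 54], [0]), ([], 12, [26, 22], [0]), ([], 14, [94, 82], [0]), ([], 16, [100, 54], [0]), ([], 18, [18, 0], [0]), ([], 20, [98, 50], [0]), ([], 22, [0, 38], [0]), ([], 24, [108, 54], [0]), ([], 26, [0, 42], [0]), ([], 28, [98, 58], [0]), ([], 30, [30, 0], [0]), ([], 32, [86, 50], [0]), ([], 34, [0, 18], [0]), ([], 36, [82, 54], [0]), ([], 38, [0, 22], [0]), ([], 40, [94, 50], [0]), ([], 42, [42, 0], [0]), ([], 44, [82, 62], [0]), ([], 46, [0, 30], [0]), ([], 48, [98, 22], [0]), ([], 50, [0, 68], [0]), ([], 52, [108, 26], [0]), ([], 54, [54, 0], [0]), ([], 56, [106, 22], [0]), ([], 58, [0, 76], [0]), ([], 60, [108, 18], [0]), ([], 62, [62, 0], [0]), ([], 64, [90, 26], [0]), ([],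 66, [94, 30], [0]), ([], 68, [0, 50], [0]), ([], 70, [0, 54], [0]), ([], 72, [90, 18], [0]), ([], 74, [86, 30], [0]), ([], 76, [76, 0], [0]), ([], 78, [0, 62], [0]), ([], 80, [76, 30], [0]), ([], 82, [0, 98], [0]), ([], 84, [78, 26], [0]), ([], 86, [86, 0], [0]), ([], 88, [76, 22], [0]), ([], 90, [90, 0], [0]), ([], 92, [78, 18], [0]), ([], 94, [94, 0], [0]), ([], 96, [62, 30], [0]), ([], 98, [98, 0], [0]), ([], 100, [0, 86], [0]), ([], 102, [50, 18], [0]), ([], 104, [54, 30], [0]), ([], 106, [0, 90], [0]), ([], 108, [0, 94], [0]), ([], 110, [58, 18], [0]), ([], 112, [162, 26], [0]), ([], 114, [114, 0], [0]), ([], 116, [168, 18], [0]), ([], 118, [118, 0], [0]), ([], 120, [162, 30], [0]), ([], 122, [122, 0], [0]), ([], 124, [168, 22], [0]), ([], 126, [126, 0], [0]), ([], 128, [150, 22], [0]), ([], 130, [154, 26], [0]), ([], 132, [150, 18], [0]), ([], 134, [158,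 26], [0]), ([], 136, [0, 114], [0]), ([], 138, [0, 118], [0]), ([], 140, [140, 0], [0]), ([], 142, [142, 0], [0]), ([], 144, [136, 26], [0]), ([], 146, [146, 0], [0]), ([], 148, [136, 30], [0]), ([], 150, [150, 0], [0]), ([], 152, [138, 18], [0]), ([], 154, [154, 0], [0]), ([], 156, [138, 22], [0]), ([], 158, [158, 0], [0]), ([], 160, [118, 26], [0]), ([], 162, [0, 146], [0]), ([], 164, [126, 26], [0]), ([], 166, [166, 0], [0]), ([], 168, [168, 0], [0]), ([], 170, [114, 18], [0]), ([], 172, [172, 0], [0]), ([], 174, [114, 22], [0]), ([], 176, [238, 26], [0]), ([], 178, [178, 0], [0]), ([], 180, [228, 18], [0]), ([], 182, [182, 0], [0]), ([], 184, [226, 26], [0]), ([], 186, [0, 200], [0]), ([], 188, [228, 30], [0]), ([], 190, [190, 0], [0]), ([], 192, [222, 30], [0]), ([], 194, [214, 22], [0]), ([], 196, [0, 178], [0]), ([], 198, [0, 182], [0]), ([], 200, [200,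 0], [0]), ([], 202, [202, 0], [0]), ([], 204, [222, 18], [0]), ([], 206, [218, 22], [0]), ([], 208, [196, 22], [0]), ([], 210, [210, 0], [0]), ([], 212, [202, 30], [0]), ([], 214, [214, 0], [0]), ([], 216, [198, 30], [0]), ([], 218, [218, 0], [0]), ([], 220, [196, 26], [0]), ([], 222, [0, 238], [0]), ([], 224, [182, 22], [0]), ([], 226, [0, 210], [0]), ([], 228, [0, 214], [0]), ([], 230, [186, 30], [0]), ([], 232, [232, 0], [0]), ([], 234, [178, 30], [0]), ([], 236, [190, 22], [0]), ([], 238, [0, 222], [0]), ([0], 2, [], [0, 2]), ([0], 4, [84, 80], [0, 2]), ([0], 6, [20, 16], [0, 2]), ([0], 8, [152, 144], [0, 2]), ([0], 10, [28, 20], [0, 2]), ([0], 12, [92, 80], [0, 2]), ([0], 14, [24, 20], [0, 2]), ([0], 16, [0, 32], [0, 2]), ([0], 20, [0, 36], [0, 2]), ([0], 24, [0, 40], [0, 2]), ([0], 28, [28, 2], [0, 2]), ([0], 32, [0, 16], [0, 2]), ([0], 36, [0, 20], [0,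 2]), ([0], 40, [0, 24], [0, 2]), ([0], 44, [44, 2], [0, 2]), ([0], 48, [104, 28], [0, 2]), ([0], 52, [102, 16], [0, 2]), ([0], 56, [104, 20], [0, 2]), ([0], 60, [110, 16], [0, 2]), ([0], 64, [92, 28], [0, 2]), ([0], 66, [88, 24], [0, 2]), ([0], 72, [84, 28], [0, 2]), ([0], 74, [88, 16], [0, 2]), ([0], 80, [0, 96], [0, 2]), ([0], 84, [0, 102], [0, 2]), ([0], 88, [0, 104], [0, 2]), ([0], 92, [0, 110], [0, 2]), ([0], 96, [96, 2], [0, 2]), ([0], 102, [0, 84], [0, 2]), ([0], 104, [0, 88], [0, 2]), ([0], 110, [110, 2], [0, 2]), ([0], 112, [160, 24], [0, 2]), ([0], 116, [170, 16], [0, 2]), ([0], 120, [164, 24], [0, 2]), ([0], 124, [174, 16], [0, 2]), ([0], 128, [152, 24], [0, 2]), ([0], 130, [148, 20], [0, 2]), ([0], 132, [156, 24], [0, 2]), ([0], 134, [148, 16], [0, 2]), ([0], 144, [0, 160], [0, 2]), ([0], 148, [0, 164], [0, 2]), ([0], 152, [0, 170], [0, 2]), ([0],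 156, [0, 174], [0, 2]), ([0], 160, [160, 2], [0, 2]), ([0], 164, [0, 148], [0, 2]), ([0], 170, [170, 2], [0, 2]), ([0], 174, [174, 2], [0, 2]), ([0], 176, [236, 24], [0, 2]), ([0], 180, [230, 16], [0, 2]), ([0], 184, [236, 20], [0, 2]), ([0], 188, [234, 16], [0, 2]), ([0], 192, [212, 20], [0, 2]), ([0], 194, [220, 28], [0, 2]), ([0], 204, [216, 20], [0, 2]), ([0], 206, [220, 16], [0, 2]), ([0], 208, [0, 224], [0, 2]), ([0], 212, [212, 2], [0, 2]), ([0], 216, [0, 234], [0, 2]), ([0], 220, [0, 236], [0, 2]), ([0], 224, [224, 2], [0, 2]), ([0], 230, [0, 212], [0, 2]), ([0], 234, [234, 2], [0, 2]), ([0], 236, [0, 220], [0, 2]), ([0, 2], 4, [], [0, 2, 4]), ([0, 2], 6, [52, 48], [0, 2, 4]), ([0, 2], 8, [188, 180], [0, 2, 4]), ([0, 2], 10, [184, 180], [0, 2, 4]), ([0, 2], 12, [60, 52], [0, 2, 4]), ([0, 2], 14, [60, 48], [0, 2, 4]), ([0, 2], 48, [0, 64], [0, 2, 4]),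 ([0, 2], 52, [52, 4], [0, 2, 4]), ([0, 2], 56, [0, 72], [0, 2, 4]), ([0, 2], 60, [0, 74], [0, 2, 4]), ([0, 2], 64, [64, 4], [0, 2, 4]), ([0, 2], 66, [66, 4], [0, 2, 4]), ([0, 2], 72, [0, 56], [0, 2, 4]), ([0, 2], 74, [74, 4], [0, 2, 4]), ([0, 2], 112, [194, 60], [0, 2, 4]), ([0, 2], 116, [194, 56], [0, 2, 4]), ([0, 2], 120, [204, 48], [0, 2, 4]), ([0, 2], 124, [204, 52], [0, 2, 4]), ([0, 2], 128, [188, 60], [0, 2, 4]), ([0, 2], 130, [184, 60], [0, 2, 4]), ([0, 2], 132, [176, 48], [0, 2, 4]), ([0, 2], 134, [176, 52], [0, 2, 4]), ([0, 2], 176, [176, 4], [0, 2, 4]), ([0, 2], 180, [0, 194], [0, 2, 4]), ([0, 2], 184, [184, 4], [0, 2, 4]), ([0, 2], 188, [188, 4], [0, 2, 4]), ([0, 2], 192, [192, 4], [0, 2, 4]), ([0, 2], 194, [0, 180], [0, 2, 4]), ([0, 2], 204, [0, 184], [0, 2, 4]), ([0, 2], 206, [0, 188], [0, 2, 4]), ([0, 2, 4], 6, [], [0, 2, 4, 6]), ([0, 2, 4], 8,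 [], [0, 2, 4, 8]), ([0, 2, 4], 10, [124, 120], [0, 2, 4, 8]), ([0, 2, 4], 12, [120, 112], [0, 2, 4, 8]), ([0, 2, 4], 14, [124, 112], [0, 2, 4, 8]), ([0, 2, 4], 112, [112, 8], [0, 2, 4, 8]), ([0, 2, 4], 116, [116, 8], [0, 2, 4, 8]), ([0, 2, 4], 120, [0, 132], [0, 2, 4, 8]), ([0, 2, 4], 124, [0, 134], [0, 2, 4, 8]), ([0, 2, 4], 128, [0, 112], [0, 2, 4, 8]), ([0, 2, 4], 130, [130, 8], [0, 2, 4, 8]), ([0, 2, 4], 132, [132, 8], [0, 2, 4, 8]), ([0, 2, 4], 134, [134, 8], [0, 2, 4, 8]), ([0, 2, 4, 6], 8, [], [0, 2, 4, 6, 8]), ([0, 2, 4, 6], 10, [124, 120], [0, 2, 4, 6, 8]), ([0, 2, 4, 6], 12, [120, 112], [0, 2, 4, 6, 8]), ([0, 2, 4, 6], 14, [124, 112], [0, 2, 4, 6, 8]), ([0, 2, 4, 6], 112, [112, 8], [0, 2, 4, 6, 8]), ([0, 2, 4, 6], 116, [116, 8], [0, 2, 4, 6, 8]), ([0, 2, 4, 6], 120, [0, 132], [0, 2, 4, 6, 8]), ([0, 2, 4, 6], 124, [0, 134], [0, 2, 4, 6, 8]), ([0, 2,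 4, 6], 128, [0, 112], [0, 2, 4, 6, 8]), ([0, 2, 4, 6], 130, [130, 8], [0, 2, 4, 6, 8]), ([0, 2, 4, 6], 132, [132, 8], [0, 2, 4, 6, 8]), ([0, 2, 4, 6], 134, [134, 8], [0, 2, 4, 6, 8]), ([0, 2, 4, 8], 6, [], [0, 2, 4, 8, 6]), ([0, 2, 4, 8], 10, [], [0, 2, 4, 8, 10]), ([0, 2, 4, 8], 12, [], [0, 2, 4, 8, 12]), ([0, 2, 4, 8], 14, [], [0, 2, 4, 8, 14]), ([0, 2, 4, 6, 8], 10, [], [0, 2, 4, 6, 8, 10]), ([0, 2, 4, 6, 8], 12, [], [0, 2, 4, 6, 8, 12]), ([0, 2, 4, 6, 8], 14, [], [0, 2, 4, 6, 8, 14]), ([0, 2, 4, 8, 6], 10, [], [0, 2, 4, 8, 6, 10]), ([0, 2, 4, 8, 6], 12, [], [0, 2, 4, 8, 6, 12]), ([0, 2, 4, 8, 6], 14, [], [0, 2, 4, 8, 6, 14]), ([0, 2, 4, 8, 10], 6, [], [0, 2, 4, 8, 10, 6]), ([0, 2, 4, 8, 10], 12, [], [0, 2, 4, 8, 10, 12]), ([0, 2, 4, 8, 10], 14, [], [0, 2, 4, 8, 10, 14]), ([0, 2, 4, 8, 12], 6, [], [0, 2, 4, 8, 12, 6]), ([0, 2, 4, 8, 12], 10, [], [0, 2, 4,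 8, 12, 10]), ([0, 2, 4, 8, 12], 14, [], [0, 2, 4, 8, 12, 14]), ([0, 2, 4, 8, 14], 6, [], [0, 2, 4, 8, 14, 6]), ([0, 2, 4, 8, 14], 10, [], [0, 2, 4, 8, 14, 10]), ([0, 2, 4, 8, 14], 12, [], [0, 2, 4, 8, 14, 12]), ([0, 2, 4, 6, 8, 10], 12, [], [0, 2, 4, 6, 8, 10, 12]), ([0, 2, 4, 6, 8, 10], 14, [], [0, 2, 4, 6, 8, 10, 14]), ([0, 2, 4, 6, 8, 12], 10, [], [0, 2, 4, 6, 8, 12, 10]), ([0, 2, 4, 6, 8, 12], 14, [], [0, 2, 4, 6, 8, 12, 14]), ([0, 2, 4, 6, 8, 14], 10, [], [0, 2, 4, 6, 8, 14, 10]), ([0, 2, 4, 6, 8, 14], 12, [], [0, 2, 4, 6, 8, 14, 12]), ([0, 2, 4, 8, 6, 10], 12, [], [0, 2, 4, 8, 6, 10, 12]), ([0, 2, 4, 8, 6, 10], 14, [], [0, 2, 4, 8, 6, 10, 14]), ([0, 2, 4, 8, 6, 12], 10, [], [0, 2, 4, 8, 6, 12, 10]), ([0, 2, 4, 8, 6, 12], 14, [], [0, 2, 4, 8, 6, 12, 14]), ([0, 2, 4, 8, 6, 14], 10, [], [0, 2, 4, 8, 6, 14, 10]), ([0, 2, 4, 8, 6, 14], 12, [], [0, 2, 4, 8, 6,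 14, 12]), ([0, 2, 4, 8, 10, 6], 12, [], [0, 2, 4, 8, 10, 6, 12]), ([0, 2, 4, 8, 10, 6], 14, [], [0, 2, 4, 8, 10, 6, 14]), ([0, 2, 4, 8, 10, 12], 6, [], [0, 2, 4, 8, 10, 12, 6]), ([0, 2, 4, 8, 10, 12], 14, [], [0, 2, 4, 8, 10, 12, 14]), ([0, 2, 4, 8, 10, 14], 6, [], [0, 2, 4, 8, 10, 14, 6]), ([0, 2, 4, 8, 10, 14], 12, [], [0, 2, 4, 8, 10, 14, 12]), ([0, 2, 4, 8, 12, 6], 10, [], [0, 2, 4, 8, 12, 6, 10]), ([0, 2, 4, 8, 12, 6], 14, [], [0, 2, 4, 8, 12, 6, 14]), ([0, 2, 4, 8, 12, 10], 6, [], [0, 2, 4, 8, 12, 10, 6]), ([0, 2, 4, 8, 12, 10], 14, [], [0, 2, 4, 8, 12, 10, 14]), ([0, 2, 4, 8, 12, 14], 6, [], [0, 2, 4, 8, 12, 14, 6]), ([0, 2, 4, 8, 12, 14], 10, [], [0, 2, 4, 8, 12, 14, 10]), ([0, 2, 4, 8, 14, 6], 10, [], [0, 2, 4, 8, 14, 6, 10]), ([0, 2, 4, 8, 14, 6], 12, [], [0, 2, 4, 8, 14, 6, 12]), ([0, 2, 4, 8, 14, 10], 6, [], [0, 2, 4, 8, 14, 10, 6]), ([0, 2, 4, 8,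 14, 10], 12, [], [0, 2, 4, 8, 14, 10, 12]), ([0, 2, 4, 8, 14, 12], 6, [], [0, 2, 4, 8, 14, 12, 6]), ([0, 2, 4, 8, 14, 12], 10, [], [0, 2, 4, 8, 14, 12, 10])]

/-- Words for the linear permutations, by the images of 1, 2 and 4. -/
def linWords : List (List ℕ × List ℕ) :=
  [([1, 2, 4], []), ([1, 2, 5], [124, 120]), ([1, 2, 6], [120, 112]), ([1, 2, 7], [124, 112]), ([1, 3, 4], [52, 48]), ([1, 3, 5], [124, 120, 52, 48]), ([1, 3, 6], [120, 112, 52, 48]), ([1, 3, 7], [124, 112, 52, 48]), ([1, 4, 2], [188, 180]), ([1, 4, 3], [52, 48, 188, 180]), ([1, 4, 6], [60, 52, 188, 180]), ([1, 4, 7], [60, 48, 188, 180]), ([1, 5, 2], [52, 48, 184, 180]), ([1, 5, 3], [184, 180]), ([1, 5, 6], [60, 48, 184, 180]), ([1, 5, 7], [60, 52, 184, 180]), ([1, 6, 2], [188, 180, 60, 52]), ([1, 6, 3], [184, 180, 60, 52]), ([1, 6, 4], [60, 52]), ([1, 6, 5], [188, 184, 60, 52]), ([1, 7, 2], [188,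 180, 60, 48]), ([1, 7, 3], [184, 180, 60, 48]), ([1, 7, 4], [60, 48]), ([1, 7, 5], [188, 184, 60, 48]), ([2, 1, 4], [10, 12, 84, 80]), ([2, 1, 5], [8, 14, 124, 120, 84, 80]), ([2, 1, 6], [14, 8, 120, 112, 84, 80]), ([2, 1, 7], [12, 10, 124, 112, 84, 80]), ([2, 3, 4], [10, 12, 20, 16, 84, 80]), ([2, 3, 5], [8, 14, 124, 120, 20, 16, 84, 80]), ([2, 3, 6], [14, 8, 120, 112, 20, 16, 84, 80]), ([2, 3, 7], [12, 10, 124, 112, 20, 16, 84, 80]), ([2, 4, 1], [10, 12, 152, 144, 84, 80]), ([2, 4, 3], [10, 20, 16, 12, 152, 144, 84, 80]), ([2, 4, 5], [6, 2, 14, 28, 20, 12, 152, 144, 84, 80]), ([2, 4, 7], [10, 24, 20, 12, 152, 144, 84, 80]), ([2, 5, 1], [8, 152, 144, 14, 28, 20, 84, 80]), ([2, 5, 3], [8, 156, 144, 14, 28, 20, 84, 80]), ([2, 5, 4], [6, 2, 12, 14, 28, 20, 84, 80]), ([2, 5, 6], [8, 148, 144, 14, 28, 20, 84, 80]), ([2, 6, 1], [14, 28, 24, 8, 152, 148, 84, 80]),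 ([2, 6, 3], [10, 2, 6, 8, 152, 148, 84, 80]), ([2, 6, 5], [14, 24, 20, 8, 152, 148, 84, 80]), ([2, 6, 7], [6, 2, 10, 28, 20, 8, 152, 148, 84, 80]), ([2, 7, 1], [12, 152, 144, 10, 24, 20, 84, 80]), ([2, 7, 3], [12, 156, 144, 10, 24, 20, 84, 80]), ([2, 7, 4], [12, 10, 24, 20, 84, 80]), ([2, 7, 6], [6, 2, 8, 148, 144, 10, 24, 20, 84, 80]), ([3, 1, 4], [10, 14, 84, 80, 20, 16]), ([3, 1, 5], [8, 12, 124, 120, 84, 80, 20, 16]), ([3, 1, 6], [14, 10, 120, 112, 84, 80, 20, 16]), ([3, 1, 7], [12, 8, 124, 112, 84, 80, 20, 16]), ([3, 2, 4], [10, 14, 20, 16]), ([3, 2, 5], [8, 12, 124, 120, 20, 16]), ([3, 2, 6], [14, 10, 120, 112, 20, 16]), ([3, 2, 7], [12, 8, 124, 112, 20, 16]), ([3, 4, 1], [10, 84, 80, 14, 216, 212, 20, 16]), ([3, 4, 2], [10, 14, 216, 212, 20, 16]), ([3, 4, 5], [4, 2, 12, 88, 84, 14, 216, 212, 20, 16]), ([3, 4, 6], [10, 92, 84, 14, 216, 212, 20, 16]), ([3,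 5, 1], [8, 220, 212, 12, 88, 84, 20, 16]), ([3, 5, 2], [8, 216, 212, 12, 88, 84, 20, 16]), ([3, 5, 4], [4, 2, 14, 12, 88, 84, 20, 16]), ([3, 5, 7], [8, 212, 208, 12, 88, 84, 20, 16]), ([3, 6, 1], [14, 220, 212, 10, 92, 84, 20, 16]), ([3, 6, 2], [14, 216, 212, 10, 92, 84, 20, 16]), ([3, 6, 4], [14, 10, 92, 84, 20, 16]), ([3, 6, 7], [4, 2, 8, 212, 208, 10, 92, 84, 20, 16]), ([3, 7, 1], [10, 4, 2, 8, 216, 208, 20, 16]), ([3, 7, 2], [12, 92, 88, 8, 216, 208, 20, 16]), ([3, 7, 5], [12, 92, 84, 8, 216, 208, 20, 16]), ([3, 7, 6], [4, 2, 10, 88, 84, 8, 216, 208, 20, 16]), ([4, 1, 2], [6, 12, 84, 80, 152, 144]), ([4, 1, 3], [4, 14, 52, 48, 84, 80, 152, 144]), ([4, 1, 6], [14, 4, 60, 52, 84, 80, 152, 144]), ([4, 1, 7], [12, 6, 60, 48, 84, 80, 152, 144]), ([4, 2, 1], [6, 12, 152, 144]), ([4, 2, 3], [10, 2, 14, 20, 16, 12, 152, 144]), ([4, 2, 5], [6, 28, 20, 12, 152, 144]),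 ([4, 2, 7], [6, 24, 20, 12, 152, 144]), ([4, 3, 1], [4, 14, 52, 48, 152, 144]), ([4, 3, 2], [10, 2, 12, 84, 80, 14, 52, 48, 152, 144]), ([4, 3, 5], [4, 88, 80, 14, 52, 48, 152, 144]), ([4, 3, 6], [4, 92, 80, 14, 52, 48, 152, 144]), ([4, 5, 2], [6, 12, 56, 48, 88, 84, 152, 144]), ([4, 5, 3], [4, 14, 56, 52, 88, 84, 152, 144]), ([4, 5, 6], [6, 12, 88, 84, 152, 144]), ([4, 5, 7], [12, 6, 60, 56, 88, 84, 152, 144]), ([4, 6, 1], [14, 4, 60, 52, 152, 144]), ([4, 6, 3], [14, 20, 16, 4, 60, 52, 152, 144]), ([4, 6, 5], [14, 28, 20, 4, 60, 52, 152, 144]), ([4, 6, 7], [10, 2, 6, 24, 20, 4, 60, 52, 152, 144]), ([4, 7, 1], [12, 6, 60, 48, 152, 144]), ([4, 7, 2], [12, 84, 80, 6, 60, 48, 152, 144]), ([4, 7, 5], [12, 88, 80, 6, 60, 48, 152, 144]), ([4, 7, 6], [10, 2, 4, 92, 80, 6, 60, 48, 152, 144]), ([5, 1, 2], [6, 14, 56, 52, 220, 216, 28, 20]), ([5, 1, 3], [4, 12, 56, 48,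 220, 216, 28, 20]), ([5, 1, 6], [14, 6, 60, 56, 220, 216, 28, 20]), ([5, 1, 7], [6, 14, 220, 216, 28, 20]), ([5, 2, 1], [6, 152, 144, 14, 28, 20]), ([5, 2, 3], [8, 2, 12, 156, 144, 14, 28, 20]), ([5, 2, 4], [6, 14, 28, 20]), ([5, 2, 6], [6, 148, 144, 14, 28, 20]), ([5, 3, 1], [4, 220, 212, 12, 52, 48, 28, 20]), ([5, 3, 2], [8, 2, 14, 216, 212, 12, 52, 48, 28, 20]), ([5, 3, 4], [4, 12, 52, 48, 28, 20]), ([5, 3, 7], [4, 212, 208, 12, 52, 48, 28, 20]), ([5, 4, 2], [6, 14, 216, 212, 28, 20]), ([5, 4, 3], [4, 12, 52, 48, 216, 212, 28, 20]), ([5, 4, 6], [14, 6, 60, 52, 216, 212, 28, 20]), ([5, 4, 7], [12, 4, 60, 48, 216, 212, 28, 20]), ([5, 6, 1], [14, 220, 212, 6, 60, 52, 28, 20]), ([5, 6, 2], [14, 216, 212, 6, 60, 52, 28, 20]), ([5, 6, 4], [14, 6, 60, 52, 28, 20]), ([5, 6, 7], [8, 2, 4, 212, 208, 6, 60, 52, 28, 20]), ([5, 7, 1], [12, 152, 144, 4, 60, 48, 28, 20]),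 ([5, 7, 3], [12, 156, 144, 4, 60, 48, 28, 20]), ([5, 7, 4], [12, 4, 60, 48, 28, 20]), ([5, 7, 6], [8, 2, 6, 148, 144, 4, 60, 48, 28, 20]), ([6, 1, 2], [6, 8, 188, 180, 24, 16, 92, 80]), ([6, 1, 3], [4, 10, 184, 180, 24, 16, 92, 80]), ([6, 1, 4], [10, 4, 24, 16, 92, 80]), ([6, 1, 5], [8, 6, 188, 184, 24, 16, 92, 80]), ([6, 2, 1], [6, 28, 24, 8, 188, 176, 92, 80]), ([6, 2, 3], [6, 8, 188, 176, 92, 80]), ([6, 2, 5], [6, 24, 20, 8, 188, 176, 92, 80]), ([6, 2, 7], [6, 28, 20, 8, 188, 176, 92, 80]), ([6, 3, 1], [4, 220, 212, 10, 24, 20, 92, 80]), ([6, 3, 2], [14, 2, 8, 216, 212, 10, 24, 20, 92, 80]), ([6, 3, 4], [4, 10, 24, 20, 92, 80]), ([6, 3, 7], [4, 212, 208, 10, 24, 20, 92, 80]), ([6, 4, 1], [10, 24, 16, 4, 180, 176, 92, 80]), ([6, 4, 3], [10, 24, 20, 4, 180, 176, 92, 80]), ([6, 4, 5], [10, 4, 180, 176, 92, 80]), ([6, 4, 7], [10, 20, 16, 4, 180, 176, 92, 80]),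 ([6, 5, 1], [4, 220, 212, 10, 92, 80]), ([6, 5, 2], [2, 14, 8, 216, 212, 10, 92, 80]), ([6, 5, 4], [4, 10, 92, 80]), ([6, 5, 7], [4, 212, 208, 10, 92, 80]), ([6, 7, 2], [6, 8, 188, 180, 20, 16, 92, 80]), ([6, 7, 3], [4, 10, 184, 180, 20, 16, 92, 80]), ([6, 7, 4], [10, 4, 20, 16, 92, 80]), ([6, 7, 5], [8, 6, 188, 184, 20, 16, 92, 80]), ([7, 1, 2], [6, 10, 188, 180, 84, 80, 24, 20]), ([7, 1, 3], [4, 8, 184, 180, 84, 80, 24, 20]), ([7, 1, 4], [10, 6, 84, 80, 24, 20]), ([7, 1, 5], [8, 4, 188, 184, 84, 80, 24, 20]), ([7, 2, 1], [6, 152, 144, 10, 24, 20]), ([7, 2, 3], [12, 2, 8, 156, 144, 10, 24, 20]), ([7, 2, 4], [6, 10, 24, 20]), ([7, 2, 6], [6, 148, 144, 10, 24, 20]), ([7, 3, 1], [4, 88, 80, 8, 188, 184, 24, 20]), ([7, 3, 2], [12, 2, 10, 88, 84, 8, 188, 184, 24, 20]), ([7, 3, 5], [4, 8, 188, 184, 24, 20]), ([7, 3, 6], [4, 92, 88, 8, 188, 184, 24, 20]), ([7, 4, 1],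 [10, 84, 80, 6, 188, 180, 24, 20]), ([7, 4, 2], [10, 6, 188, 180, 24, 20]), ([7, 4, 5], [12, 2, 4, 88, 84, 6, 188, 180, 24, 20]), ([7, 4, 6], [10, 92, 84, 6, 188, 180, 24, 20]), ([7, 5, 1], [8, 152, 144, 4, 88, 84, 24, 20]), ([7, 5, 3], [8, 156, 144, 4, 88, 84, 24, 20]), ([7, 5, 4], [12, 2, 6, 4, 88, 84, 24, 20]), ([7, 5, 6], [8, 148, 144, 4, 88, 84, 24, 20]), ([7, 6, 2], [6, 10, 188, 180, 92, 84, 24, 20]), ([7, 6, 3], [4, 8, 184, 180, 92, 84, 24, 20]), ([7, 6, 4], [10, 6, 92, 84, 24, 20]), ([7, 6, 5], [8, 4, 188, 184, 92, 84, 24, 20])]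

/-- Words for the translations. -/
def traWords : List (List ℕ) :=
  [[], [52, 48, 54, 50], [10, 8, 14, 12, 20, 16, 22, 18], [8, 10, 12, 14, 84, 80, 86, 82], [6, 4, 14, 12, 28, 20, 30, 22], [60, 48, 58, 54], [6, 4, 10, 8, 24, 20, 26, 22], [4, 6, 8, 10, 92, 80, 94, 82]]

end CfsgLib.OEightStd.Cert
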