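import Cfsg.Agent.Lib.OEightStd.Reps

/-!
# Kernel checks for the classes of square roots of one and of the change of all signs
-/

set_option autoImplicit false
set_option maxRecDepth 100000

namespace CfsgLib.OEightStd

/-- The permutation of a frame root. -/
def fperm (j x : ℕ) : ℕ := (flagPerms.getD j []).getD x 0

/-- The change of sign at a frame point. -/
def flipE (e i : ℕ) : ℕ := 2 * (i / 2) + (if e.testBit (i / 2) then 1 - i % 2 else i % 2)

/-- The image of a frame point. -/
def fimg (j e i : ℕ) : ℕ := 2 * fperm j (flipE e i / 2) + flipE e i % 2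

/-- The word changing the signs of a pattern. -/
def epsW (e : ℕ) : List ℕ := ((List.range 8).filter e.testBit).map (2 * ·)

/-- The word of an element of the stabiliser. -/
def flagW (j e : ℕ) : List ℕ := flagWords.getD j [] ++ epsW e

/-- The representative of a class. -/
def repW : ℕ → List ℕ
  | 0 => rW
  | 1 => [2, 4, 6, 8, 10, 12, 14]
  | 2 => sW
  | 3 => [4, 6, 8, 10, 12, 14]
  | 4 => kW
  | 5 => [6, 8, 10, 12, 14]
  | 6 => qbW
  | 7 => qaW
  | 8 => rootW
  | 9 => []
  | _ => tW

/-- The permutations are bijections closed under composition. -/
def permsB : Bool :=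
  ((List.range 64).all fun j =>
    ((List.range 8).all fun x => Nat.blt (fperm j x) 8) &&
      ((List.range 8).all fun x => (List.range 8).all fun y => Nat.beq x y || !Nat.beq (fperm j x) (fperm j y))) &&
  ((List.range 64).any fun j => (List.range 8).all fun x => Nat.beq (fperm j x) x) &&
  ((List.range 64).all fun a => (List.range 64).all fun b => (List.range 64).any fun c =>
    (List.range 8).all fun x => Nat.beq (fperm c x) (fperm a (fperm b x))) &&
  (List.range 64).all fun a => (List.range 64).all fun b => Nat.beq a b ||
    (List.range 8).any fun x => !Nat.beq (fperm a x) (fperm b x)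

/-- The words do what they should. -/
def wordsOk : Bool :=
  ((List.range 64).all fun j => (flagWords.getD j []).all (fun a => Nat.blt a 240) &&
    (List.range 16).all fun i => Nat.beq (evalW (flagWords.getD j []) i) (2 * fperm j (i / 2) + i % 2)) &&
  (List.range 256).all fun e => (List.range 16).all fun i => Nat.beq (evalW (epsW e) i) (flipE e i)

/-- Orthogonal frame points are opposite. -/
def oppB : Bool :=
  (List.range 16).all fun x => (List.range 16).all fun y =>
    !Nat.beq (ip x y) 0 || Nat.beq y (2 * (x / 2) + (1 - x % 2))

/-- The word of all signs changes all signs, and only opposite points have inner product zero here. -/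
def tFullB : Bool :=
  (List.range 240).all fun a => Nat.beq (evalW tW a) (2 * (a / 2) + (1 - a % 2)) &&
    Nat.beq (ip a (2 * (a / 2) + (1 - a % 2))) 0 &&
    (List.range 240).all fun b => !Nat.beq (ip a b) 0 || Nat.beq b (2 * (a / 2) + (1 - a % 2))

/-- A square root of one or of the change of all signs has a class and a conjugator. -/
def entryB (j e : ℕ) : Bool :=
  let sq := fun i => fimg j e (fimg j e i)
  !((List.range 16).all (fun i => Nat.beq (sq i) i) ||
      (List.range 16).all fun i => Nat.beq (sq i) (2 * (i / 2) + (1 - i % 2))) ||
    (invData.getD j []).any fun c => Nat.beq c.1 e && Nat.blt c.2.1 11 && c.2.2.all (fun a => Nat.blt a 240) &&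
      (List.range 16).all fun i => Nat.beq (evalW c.2.2 (fimg j e i)) (evalW (repW c.2.1 ++ c.2.2) i)

/-- All of them. -/
def entriesB (lo n : ℕ) : Bool := (List.range n).all fun j => (List.range 256).all fun e => entryB (lo + j) e

/-- The representatives. -/
def repsB : Bool :=
  ((List.range 11).all fun n => (repW n).all (fun a => Nat.blt a 240) &&
    (Nat.beq n 8 || (List.range 16).all fun i => Nat.beq (evalW (repW n ++ repW n) i) i)) &&
  ((List.range 11).all fun n => Nat.beq n 8 ||
    (List.range 16).all fun i => Nat.beq (evalW (0 :: repW n) i) (evalW (repW n ++ [0]) i)) &&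
  ((List.range 16).all fun i => Nat.beq (evalW (rootW ++ rootW) i) (evalW tW i)) &&
  ((List.range 16).all fun i => Nat.beq (evalW tW i) (2 * (i / 2) + (1 - i % 2))) &&
  ([(1, rW), (3, sW), (5, kW)].all fun c =>
    (List.range 16).all fun i => Nat.beq (evalW (repW c.1) i) (evalW (tW ++ c.2) i)) &&
  [([86, 82, 28, 20, 60, 52, 6, 8], qaW), ([30, 22, 28, 20, 4, 6, 12, 14], qbW)].all fun c =>
    c.1.all (fun a => Nat.blt a 240) &&
      (List.range 16).all fun i => Nat.beq (evalW (c.1 ++ c.2) i) (evalW (tW ++ c.2 ++ c.1) i)

theorem perms_ok : permsB = true := by decide +kernel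

theorem words_ok : wordsOk = true ∧ oppB = true := by constructor <;> decide +kernel

theorem tFull_ok : tFullB = true := by decide +kernel

theorem reps_ok : repsB = true := by decide +kernel

theorem entries_ok₀ : entriesB 0 16 = true := by decide +kernel

theorem entries_ok₁ : entriesB 16 16 = true := by decide +kernel

theorem entries_ok₂ : entriesB 32 16 = true := by decide +kernel

theorem entries_ok₃ : entriesB 48 16 = true := by decide +kernel

end CfsgLib.OEightStd
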