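import Mathlib

/-!
# The facts about W(E8) used for a standard component of the type of the double cover of the orthogonal group of
plus type in dimension eight over two elements

`W` is the group acting on the component, `M` the component itself, `t` its central involution.  The classes up to `t`:
`s` (the product of two orthogonal reflections), `qa`, `qb` (four of them, two types), `R` (roots of `t`) inside `M`,
`r` (reflections) and `k` (three orthogonal reflections) outside.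
-/

set_option autoImplicit false

namespace CfsgLib.OEightStd

variable {W : Type*} [Group W]

/-- `b` is a conjugate of `a` by an element of `M`. -/
def MC (M : Subgroup W) (a b : W) : Prop := ∃ m ∈ M, m * a * m⁻¹ = b

/-- The subgroup generated by the fifth roots of one in `M` centralising `w`. -/
def Five (M : Subgroup W) (w : W) : Subgroup W :=
  Subgroup.closure {a | a ∈ M ∧ a ^ 5 = 1 ∧ Commute a w}

/-- The same for two elements. -/
def Five2 (M : Subgroup W) (v w : W) : Subgroup W :=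
  Subgroup.closure {a | a ∈ M ∧ a ^ 5 = 1 ∧ Commute a v ∧ Commute a w}

/-- There are two involutions in the subgroup. -/
def TwoInvol (H : Subgroup W) : Prop :=
  ∃ v₁ ∈ H, ∃ v₂ ∈ H, v₁ * v₁ = 1 ∧ v₂ * v₂ = 1 ∧ v₁ ≠ 1 ∧ v₂ ≠ 1 ∧ v₁ ≠ v₂

/-- The involution classes of `M` up to `t`. -/
def InnerCl (M : Subgroup W) (t s qa qb : W) (a : W) : Prop :=
  MC M s a ∨ MC M (t * s) a ∨ MC M qa a ∨ MC M qb a

/-- The classes, centralisers of elements of order five, and witnesses. -/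
structure Facts (M : Subgroup W) (t s qa qb R r k : W) : Prop where
  t_mem : t ∈ M
  t_central : ∀ w, Commute t w
  t2 : t * t = 1
  t_ne : t ≠ 1
  cent : ∀ w, (∀ m ∈ M, Commute m w) → w = 1 ∨ w = t
  out_mul : ∀ a b, a ∉ M → b ∉ M → a * b ∈ M
  s_mem : s ∈ M
  qa_mem : qa ∈ M
  qb_mem : qb ∈ M
  R_mem : R ∈ M
  r_out : r ∉ M
  k_out : k ∉ M
  s2 : s * s = 1
  r2 : r * r = 1
  k2 : k * k = 1
  R2 : R * R = t
  inner_cases : ∀ a ∈ M, a * a = 1 → a = 1 ∨ a = t ∨ InnerCl M t s qa qb a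
  root_cases : ∀ a ∈ M, a * a = t → ∃ w, w * R * w⁻¹ = a
  outer_cases : ∀ w, w ∉ M → (w * w = 1 ∨ w * w = t) →
    MC M r w ∨ MC M (t * r) w ∨ MC M k w ∨ MC M (t * k) w
  qa_twist : MC M qa (t * qa)
  qb_twist : MC M qb (t * qb)
  five_root : t ∈ Five M R
  five_ts : t * s ∈ Five M s
  t_five_s : t ∉ Five M s
  s_five : s ∉ Five M s
  t_five_r : t ∉ Five M r
  five_bot : ∀ w, (w = qa ∨ w = qb ∨ w = k) → ∀ a ∈ M, a ^ 5 = 1 → Commute a w → a = 1
  five_cent : ∀ w, (∀ a ∈ M, a ^ 5 = 1 → Commute a s → Commute a w) → w * w = 1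
  s_pair : ∃ s', MC M s s' ∧ Commute s s' ∧ MC M s (s * s') ∧ TwoInvol (Five2 M s s')
  no_anti : ∀ w, MC M r w → r * w * (r * w) ≠ t
  q_witness : ∀ q, (q = qa ∨ q = qb) → ∃ q' c, MC M q q' ∧ Commute q q' ∧
    (MC M s (q * q') ∨ MC M (t * s) (q * q')) ∧ MC M k c ∧ Commute q c ∧ Commute q' c ∧
    (MC M r (q * c) ∨ MC M (t * r) (q * c)) ∧ MC M k (q' * c) ∧ MC M (t * k) (q * q' * c)
  k_witness : ∃ a b c, MC M k a ∧ MC M k b ∧ MC M k c ∧ Commute a b ∧ Commute a c ∧ Commute b c ∧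
    InnerCl M t s qa qb (a * b) ∧ InnerCl M t s qa qb (a * c) ∧ InnerCl M t s qa qb (b * c) ∧
    MC M k (a * b * c)

/-- A permutation of the eight points of AG(3,2) respecting the affine structure. -/
def Affine (σ : Fin 8 → Fin 8) : Prop :=
  ∀ a b c : Fin 8, (σ ⟨(a.val ^^^ b.val ^^^ c.val) % 8, Nat.mod_lt _ (by norm_num)⟩).val =
    (σ a).val ^^^ (σ b).val ^^^ (σ c).val

/-- Eight orthogonal reflections and their permutations. -/
structure Frame (M : Subgroup W) (t s r : W) (fr : Fin 8 → W) : Prop where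
  zero : fr 0 = r
  refl : ∀ i, MC M r (fr i)
  comm : ∀ i j, Commute (fr i) (fr j)
  prod : (List.ofFn fr).prod = t
  pair : ∀ i j, i ≠ j → MC M s (fr i * fr j)
  pair_five : ∀ j, j ≠ 0 → TwoInvol (Five2 M r (fr j))
  complete : ∀ w : Fin 7 → W, Function.Injective w → (∀ i, MC M r (w i)) →
    (∀ i j, Commute (w i) (w j)) →
    ∃ n ∈ M, ∃ π : Fin 7 → Fin 8, Function.Injective π ∧ ∀ i, n * w i * n⁻¹ = fr (π i)
  realise : ∀ σ : Fin 8 → Fin 8, Function.Bijective σ → Affine σ →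
    ∃ n ∈ M, ∀ i, n * fr i * n⁻¹ = fr (σ i)
  affine : ∀ (w : W) (σ : Fin 8 → Fin 8),
    (∀ i, w * fr i * w⁻¹ = fr (σ i) ∨ w * fr i * w⁻¹ = t * fr (σ i)) → Affine σ

end CfsgLib.OEightStd
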