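import Cfsg.Agent.Lib.OEightStd.ClassChecks
import Cfsg.Agent.Lib.OEightStd.Facts

/-!
# The classes of square roots of one and of the change of all signs in the group of the roots of E8

Every such element is conjugate into the Sylow two-subgroup inside the stabiliser of the frame, where each
element has a listed conjugator to a representative.
-/

set_option autoImplicit false
set_option maxRecDepth 100000

namespace CfsgLib.OEightStd

open Subgroup Pointwise

attribute [local irreducible] flagPerms flagWords invData rootW signedBase signedRefl reflTab ipTab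

theorem evalW_append (u w : List ℕ) (i : ℕ) : evalW (u ++ w) i = evalW u (evalW w i) :=
  List.foldr_append

theorem fperm_lt {j x : ℕ} (hj : j < 64) (hx : x < 8) : fperm j x < 8 := by
  have h := perms_ok
  simp only [permsB, Bool.and_eq_true, List.all_eq_true, List.mem_range, Nat.blt_eq] at h
  exact (h.1.1.1 j hj).1 x hx

theorem flipE_div (e i : ℕ) : flipE e i / 2 = i / 2 := by
  unfold flipE
  split <;> omega

theorem fimg_lt {j e i : ℕ} (hj : j < 64) (hi : i < 16) : fimg j e i < 16 := by
  have := fperm_lt hj (x := flipE e i / 2) (by rw [flipE_div]; omega)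
  unfold fimg
  omega

theorem wordE_val {w : List ℕ} (hw : ∀ a ∈ w, a < 240) (i : Fin 240) :
    ((wordE w).1 i).val = evalW w i.val := by
  rw [coe_wordE hw, wordP_apply hw]

/-- The change of all signs. -/
local notation "tE" => wordE tW

theorem tW_lt : ∀ a ∈ tW, a < 240 := by decide

theorem tE_val (i : Fin 240) : ((tE).1 i).val = 2 * (i.val / 2) + (1 - i.val % 2) := by
  have h := tFull_ok
  simp only [tFullB, Bool.and_eq_true, List.all_eq_true, List.mem_range, Nat.beq_eq] at h
  rw [wordE_val tW_lt]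
  exact (h i.val i.isLt).1.1

theorem tE_ne : tE ≠ 1 := by
  intro e
  have h := tE_val 0
  rw [e] at h
  exact absurd h (by decide)

theorem tE_central (g : W2) : Commute (tE) g := by
  have h := tFull_ok
  simp only [tFullB, Bool.and_eq_true, List.all_eq_true, List.mem_range, Nat.beq_eq, Bool.or_eq_true,
    Bool.not_eq_true'] at h
  refine Subtype.ext (Equiv.ext fun a => Fin.ext ?_)
  rw [Subgroup.coe_mul, Subgroup.coe_mul, Equiv.Perm.mul_apply, Equiv.Perm.mul_apply, tE_val]
  have e := ip_act g.2 a ((tE).1 a)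
  rw [tE_val a, (h a.val a.isLt).1.2] at e
  rcases (h (g.1 a).val (g.1 a).isLt).2 (g.1 ((tE).1 a)).val (Fin.isLt _) with e' | e'
  · rw [e] at e'
    exact absurd e' (by decide)
  · exact e'.symm

theorem tE_mem : tE ∈ MW := (wordE_mem_iff tW_lt).2 (by decide)

/-- The elements permuting the frame by a listed permutation. -/
noncomputable def flag : Subgroup W2 where
  carrier := {g | ∃ j < 64, ∀ i : Fin 240, i.val < 16 → (g.1 i).val / 2 = fperm j (i.val / 2)}
  one_mem' := by
    have h := perms_ok
    simp only [permsB, Bool.and_eq_true, List.all_eq_true, List.any_eq_true, List.mem_range, Nat.beq_eq] at h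
    obtain ⟨j, hj, he⟩ := h.1.1.2
    exact ⟨j, hj, fun i hi => (he (i.val / 2) (by omega)).symm⟩
  mul_mem' := by
    rintro g k ⟨a, ha, hg⟩ ⟨b, hb, hk⟩
    have h := perms_ok
    simp only [permsB, Bool.and_eq_true, List.all_eq_true, List.any_eq_true, List.mem_range, Nat.beq_eq] at h
    obtain ⟨c, hc, he⟩ := h.1.2 a ha b hb
    refine ⟨c, hc, fun i hi => ?_⟩
    have := fperm_lt hb (x := i.val / 2) (by omega)
    have := hk i hi
    rw [Subgroup.coe_mul, Equiv.Perm.mul_apply, hg _ (by omega), hk i hi, he _ (by omega)]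
  inv_mem' := by
    intro g hg
    have h1 : ∀ n : ℕ, g ^ n ∈ {g : W2 | ∃ j < 64, ∀ i : Fin 240, i.val < 16 →
        (g.1 i).val / 2 = fperm j (i.val / 2)} := by
      intro n
      induction n with
      | zero =>
        have h := perms_ok
        simp only [permsB, Bool.and_eq_true, List.all_eq_true, List.any_eq_true, List.mem_range, Nat.beq_eq] at h
        obtain ⟨j, hj, he⟩ := h.1.1.2
        exact ⟨j, hj, fun i hi => (he (i.val / 2) (by omega)).symm⟩
      | succ n ih =>
        obtain ⟨a, ha, hn⟩ := ih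
        obtain ⟨b, hb, hk⟩ := hg
        have h := perms_ok
        simp only [permsB, Bool.and_eq_true, List.all_eq_true, List.any_eq_true, List.mem_range, Nat.beq_eq] at h
        obtain ⟨c, hc, he⟩ := h.1.2 a ha b hb
        refine ⟨c, hc, fun i hi => ?_⟩
        have := fperm_lt hb (x := i.val / 2) (by omega)
        have := hk i hi
        rw [pow_succ, Subgroup.coe_mul, Equiv.Perm.mul_apply, hn _ (by omega), hk i hi, he _ (by omega)]
    rw [show g⁻¹ = g ^ (orderOf g - 1) from inv_eq_of_mul_eq_one_right (by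
      rw [← pow_succ', Nat.sub_add_cancel (orderOf_pos g), pow_orderOf_eq_one])]
    exact h1 _

theorem flagW_lt {j e : ℕ} (hj : j < 64) : ∀ a ∈ flagW j e, a < 240 := by
  have h := words_ok.1
  simp only [wordsOk, Bool.and_eq_true, List.all_eq_true, List.mem_range, Nat.blt_eq] at h
  intro a ha
  rcases List.mem_append.1 ha with ha | ha
  · exact (h.1 j hj).1 a ha
  · obtain ⟨x, hx, rfl⟩ := List.mem_map.1 ha
    have := List.mem_range.1 (List.mem_filter.1 hx).1
    omega

theorem flagW_val {j e : ℕ} (hj : j < 64) (he : e < 256) (i : Fin 240) (hi : i.val < 16) :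
    ((wordE (flagW j e)).1 i).val = fimg j e i.val := by
  have h := words_ok.1
  simp only [wordsOk, Bool.and_eq_true, List.all_eq_true, List.mem_range, Nat.beq_eq] at h
  rw [wordE_val (flagW_lt hj), flagW, evalW_append, h.2 e he i.val hi]
  exact (h.1 j hj).2 _ (by have := flipE_div e i.val; omega)

/-- An element of the stabiliser is one of the listed ones. -/
theorem flag_eq {g : W2} (hg : g ∈ flag) : ∃ j < 64, ∃ e < 256, g = wordE (flagW j e) := by
  obtain ⟨j, hj, hd⟩ := hg
  let b : Fin 8 → Bool := fun x => decide ((g.1 ⟨2 * x.val, by omega⟩).val % 2 = 1)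
  refine ⟨j, hj, Nat.ofBits b, Nat.ofBits_lt_two_pow b, Subtype.ext (ext_frame g.2 (wordE _).2 fun i hi => ?_)⟩
  refine Fin.ext ?_
  rw [flagW_val hj (Nat.ofBits_lt_two_pow b) i hi]
  have hb := Nat.testBit_ofBits_lt b (i.val / 2) (by omega)
  have key : (g.1 i).val % 2 = if (g.1 ⟨2 * (i.val / 2), by omega⟩).val % 2 = 1 then 1 - i.val % 2 else i.val % 2 := by
    rcases Nat.mod_two_eq_zero_or_one i.val with hp | hp
    · rw [show (⟨2 * (i.val / 2), by omega⟩ : Fin 240) = i from Fin.ext (by show 2 * (i.val / 2) = i.val; omega)]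
      split <;> omega
    · have hop := words_ok.2
      simp only [oppB, List.all_eq_true, List.mem_range, Bool.or_eq_true, Bool.not_eq_true', Nat.beq_eq] at hop
      have h0 : ∀ x < 8, ip (2 * x) (2 * x + 1) = 0 := by decide +kernel
      have hl : ∀ a : Fin 240, a.val < 16 → (g.1 a).val < 16 := fun a ha => by
        have := hd a ha
        have := fperm_lt hj (x := a.val / 2) (by omega)
        omega
      have e := ip_act g.2 ⟨2 * (i.val / 2), by omega⟩ i
      rw [show ip (⟨2 * (i.val / 2), by omega⟩ : Fin 240).val i.val = 0 by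
        conv_lhs => arg 2; rw [show i.val = 2 * (i.val / 2) + 1 by omega]
        exact h0 _ (by omega)] at e
      rcases hop _ (hl ⟨2 * (i.val / 2), by omega⟩ (by simp only; omega)) _ (hl i hi) with e' | e'
      · rw [e] at e'
        exact absurd e' (by decide)
      · split <;> omega
  have hdi := hd i hi
  rw [fimg, flipE_div]
  unfold flipE
  rw [hb]
  simp only [b, decide_eq_true_eq]
  split at key <;> rename_i hc
  · rw [if_pos hc]; omega
  · rw [if_neg hc]; omega

theorem wordE_flagW_mem {j e : ℕ} (hj : j < 64) (he : e < 256) : wordE (flagW j e) ∈ flag := by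
  refine ⟨j, hj, fun i hi => ?_⟩
  rw [flagW_val hj he i hi, fimg, flipE_div]
  omega

theorem card_flag : Nat.card flag = 2 ^ 14 := by
  let f : Fin 64 × Fin 256 → flag := fun p => ⟨wordE (flagW p.1 p.2), wordE_flagW_mem p.1.isLt p.2.isLt⟩
  have hf : Function.Bijective f := by
    refine ⟨fun p q h => ?_, fun g => ?_⟩
    · have hv : ∀ i < 16, fimg p.1 p.2 i = fimg q.1 q.2 i := fun i hi => by
        have e := congrArg (fun x : flag => ((x.1.1) (⟨i, by omega⟩ : Fin 240)).val) h
        simp only [f] at e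
        rwa [flagW_val p.1.isLt p.2.isLt _ hi, flagW_val q.1.isLt q.2.isLt _ hi] at e
      have hp : ∀ x < 8, fperm p.1 x = fperm q.1 x := fun x hx => by
        have e := hv (2 * x) (by omega)
        rw [fimg, fimg, flipE_div, flipE_div, show 2 * x / 2 = x by omega] at e
        omega
      have h1 := perms_ok
      simp only [permsB, Bool.and_eq_true, List.all_eq_true, List.any_eq_true, List.mem_range, Nat.beq_eq,
        Bool.or_eq_true, Bool.not_eq_true'] at h1
      have hj : p.1 = q.1 := Fin.ext ((h1.2 p.1 p.1.isLt q.1 q.1.isLt).resolve_right fun ⟨x, hx, hne⟩ => by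
        rw [hp x hx] at hne
        simp at hne)
      refine Prod.ext hj (Fin.ext (Nat.eq_of_testBit_eq fun x => ?_))
      by_cases hx : x < 8
      · have e := hv (2 * x) (by omega)
        rw [fimg, fimg, flipE_div, flipE_div, hj] at e
        unfold flipE at e
        rw [show 2 * x / 2 = x by omega] at e
        cases hpb : (p.2.val).testBit x <;> cases hqb : (q.2.val).testBit x <;>
          simp [hpb, hqb] at e ⊢
      · rw [Nat.testBit_lt_two_pow (lt_of_lt_of_le p.2.isLt (Nat.pow_le_pow_right (by norm_num : 0 < 2) (show 8 ≤ x by omega))),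
          Nat.testBit_lt_two_pow (lt_of_lt_of_le q.2.isLt (Nat.pow_le_pow_right (by norm_num : 0 < 2) (show 8 ≤ x by omega)))]
    · obtain ⟨j, hj, e, he, hg⟩ := flag_eq g.2
      exact ⟨(⟨j, hj⟩, ⟨e, he⟩), Subtype.ext hg.symm⟩
  rw [← Nat.card_eq_of_bijective f hf]
  simp

/-- Two-elements are conjugate into the stabiliser. -/
theorem exists_conj_flag {w : W2} (h4 : w ^ 4 = 1) : ∃ c : W2, c * w * c⁻¹ ∈ flag := by
  have : Fact (Nat.Prime 2) := ⟨Nat.prime_two⟩
  have hP : IsPGroup 2 flag := IsPGroup.of_card card_flag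
  have hidx : ¬ 2 ∣ flag.index := by
    have h := flag.card_mul_index
    rw [card_flag, card_M2] at h
    intro hd
    omega
  have hz : IsPGroup 2 (zpowers w) := fun x => ⟨2, by
    obtain ⟨k, hk⟩ := mem_zpowers_iff.1 x.2
    refine Subtype.ext ?_
    rw [SubgroupClass.coe_pow, ← hk, ← zpow_natCast, ← zpow_mul, mul_comm, zpow_mul, zpow_natCast]
    simp [h4]⟩
  obtain ⟨Q, hQ⟩ := hz.exists_le_sylow
  obtain ⟨c, hc⟩ := MulAction.exists_smul_eq W2 Q (hP.toSylow hidx)
  refine ⟨c, ?_⟩
  have hc' : MulAut.conj c • (Q : Subgroup W2) = flag := congrArg Sylow.toSubgroup hc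
  rw [← hc']
  exact Subgroup.smul_mem_pointwise_smul w (MulAut.conj c) _ (hQ (mem_zpowers w))

theorem repW_lt {n : ℕ} (hn : n < 11) : ∀ a ∈ repW n, a < 240 := by
  have h := reps_ok
  simp only [repsB, Bool.and_eq_true, List.all_eq_true, List.mem_range, Nat.blt_eq] at h
  exact (h.1.1.1.1.1 n hn).1

/-- Square roots of one and of the change of all signs are conjugate to a representative. -/
theorem exists_rep {w : W2} (hw : w * w = 1 ∨ w * w = tE) :
    ∃ c : W2, ∃ n < 11, c * w * c⁻¹ = wordE (repW n) := by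
  have ht2 : (tE) * (tE) = 1 := Subtype.ext (Equiv.ext fun i => Fin.ext (by
    rw [Subgroup.coe_mul, Equiv.Perm.mul_apply, tE_val, tE_val]
    show _ = i.val
    omega))
  have h4 : w ^ 4 = 1 := by
    rw [show (4 : ℕ) = 2 * 2 from rfl, pow_mul, pow_two, pow_two]
    rcases hw with e | e <;> rw [e]
    · exact one_mul 1
    · exact ht2
  obtain ⟨c, hc⟩ := exists_conj_flag h4
  obtain ⟨j, hj, e, he, hg⟩ := flag_eq hc
  have hsq : c * w * c⁻¹ * (c * w * c⁻¹) = 1 ∨ c * w * c⁻¹ * (c * w * c⁻¹) = tE := by
    rw [show c * w * c⁻¹ * (c * w * c⁻¹) = c * (w * w) * c⁻¹ by group]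
    rcases hw with e | e <;> rw [e]
    · exact Or.inl (by group)
    · exact Or.inr (by rw [← (tE_central c).eq, mul_inv_cancel_right])
  rw [hg] at hsq
  have hall : entryB j e = true := by
    have hchk : ∀ lo, entriesB lo 16 = true → lo ≤ j → j < lo + 16 → entryB j e = true := fun lo h hl hu => by
      simp only [entriesB, List.all_eq_true, List.mem_range] at h
      simpa [Nat.add_sub_cancel' hl] using h (j - lo) (by omega) e he
    rcases Nat.lt_or_ge j 16 with h | h
    · exact hchk 0 entries_ok₀ (by omega) (by omega)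
    rcases Nat.lt_or_ge j 32 with h' | h'
    · exact hchk 16 entries_ok₁ (by omega) (by omega)
    rcases Nat.lt_or_ge j 48 with h'' | h''
    · exact hchk 32 entries_ok₂ (by omega) (by omega)
    · exact hchk 48 entries_ok₃ (by omega) (by omega)
  have hsqv : ∀ i : Fin 240, i.val < 16 →
      ((wordE (flagW j e) * wordE (flagW j e)).1 i).val = fimg j e (fimg j e i.val) := fun i hi => by
    rw [Subgroup.coe_mul, Equiv.Perm.mul_apply,
      flagW_val hj he _ (by rw [flagW_val hj he i hi]; exact fimg_lt hj hi), flagW_val hj he i hi]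
  simp only [entryB, Bool.or_eq_true, Bool.not_eq_true', Bool.or_eq_false_iff, List.any_eq_true, Bool.and_eq_true,
    List.all_eq_true, List.mem_range, Nat.beq_eq, Nat.blt_eq] at hall
  rcases hall with ⟨h1, h2⟩ | ⟨d, -, ⟨⟨hde, hdn⟩, hdu⟩, hdv⟩
  · exfalso
    rcases hsq with e' | e'
    · rw [List.all_eq_false] at h1
      obtain ⟨i, hi, hne⟩ := h1
      rw [List.mem_range] at hi
      have e'' := hsqv ⟨i, by omega⟩ hi
      rw [e'] at e''
      exact hne (Nat.beq_eq ▸ e''.symm)
    · rw [List.all_eq_false] at h2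
      obtain ⟨i, hi, hne⟩ := h2
      rw [List.mem_range] at hi
      have e'' := hsqv ⟨i, by omega⟩ hi
      rw [e', tE_val] at e''
      exact hne (Nat.beq_eq ▸ e''.symm)
  · refine ⟨wordE d.2.2 * c, d.2.1, hdn, ?_⟩
    rw [show wordE d.2.2 * c * w * (wordE d.2.2 * c)⁻¹ = wordE d.2.2 * (c * w * c⁻¹) * (wordE d.2.2)⁻¹ by group,
      hg, mul_inv_eq_iff_eq_mul, ← wordE_append, ← wordE_append]
    refine wordE_eq (fun a ha => (List.mem_append.1 ha).elim (hdu a) (flagW_lt hj a))
      (fun a ha => (List.mem_append.1 ha).elim (repW_lt hdn a) (hdu a)) fun i hi => ?_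
    have e1 := flagW_val hj he ⟨i, by omega⟩ hi
    rw [wordE_val (flagW_lt hj)] at e1
    rw [evalW_append, e1]
    exact hdv i hi

theorem repW_sq {n : ℕ} (hn : n < 11) (h8 : n ≠ 8) : wordE (repW n) * wordE (repW n) = 1 := by
  have h := reps_ok
  simp only [repsB, Bool.and_eq_true, List.all_eq_true, List.mem_range, Bool.or_eq_true, Nat.beq_eq] at h
  rw [← wordE_append]
  refine wordE_eq (w := []) (fun a ha => (List.mem_append.1 ha).elim (repW_lt hn a) (repW_lt hn a)) (by simp)
    fun i hi => ?_
  exact ((h.1.1.1.1.1 n hn).2.resolve_left h8) i hi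

theorem rootE_sq : wordE rootW * wordE rootW = tE := by
  have h := reps_ok
  simp only [repsB, Bool.and_eq_true, List.all_eq_true, List.mem_range, Nat.beq_eq] at h
  have hr : ∀ a ∈ rootW, a < 240 := repW_lt (n := 8) (by norm_num)
  rw [← wordE_append]
  exact wordE_eq (fun a ha => (List.mem_append.1 ha).elim (hr a) (hr a)) tW_lt fun i hi => h.1.1.1.2 i hi

theorem repW_tmul : wordE (repW 1) = tE * wordE rW ∧ wordE (repW 3) = tE * wordE sW ∧
    wordE (repW 5) = tE * wordE kW := by
  have h := reps_ok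
  simp only [repsB, Bool.and_eq_true, List.all_eq_true, List.mem_range, Nat.beq_eq, List.mem_cons,
    List.not_mem_nil, or_false, forall_eq_or_imp, forall_eq] at h
  obtain ⟨-, ha, hb, hc⟩ := h.1
  exact ⟨by rw [← wordE_append]; exact wordE_eq (repW_lt (by norm_num)) (by decide) ha,
    by rw [← wordE_append]; exact wordE_eq (repW_lt (by norm_num)) (by decide) hb,
    by rw [← wordE_append]; exact wordE_eq (repW_lt (by norm_num)) (by decide) hc⟩

/-- A conjugator can be taken inside the component. -/
theorem mc_of_conj {w : W2} {n : ℕ} (hn : n < 11) (h8 : n ≠ 8) {c : W2} (hc : c * w * c⁻¹ = wordE (repW n)) :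
    MC MW (wordE (repW n)) w := by
  have hw : w = c⁻¹ * wordE (repW n) * c := by rw [← hc]; group
  by_cases hm : c⁻¹ ∈ MW
  · exact ⟨c⁻¹, hm, by rw [inv_inv, hw]⟩
  · have h := reps_ok
    simp only [repsB, Bool.and_eq_true, List.all_eq_true, List.mem_range, Bool.or_eq_true, Nat.beq_eq] at h
    have h0 : wordE [0] ∉ MW := fun e => by
      have := (wordE_mem_iff (w := [0]) (by simp)).1 e
      simp at this
    have hcomm : wordE [0] * wordE (repW n) = wordE (repW n) * wordE [0] := by
      rw [← wordE_append, ← wordE_append]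
      refine wordE_eq ?_ ?_ fun i hi => (h.1.1.1.1.2 n hn).resolve_left h8 i hi
      · rintro a (_ | ⟨_, ha⟩)
        · norm_num
        · exact repW_lt hn a ha
      · intro a ha
        rcases List.mem_append.1 ha with ha | ha
        · exact repW_lt hn a ha
        · rw [List.mem_singleton.1 ha]; norm_num
    refine ⟨c⁻¹ * wordE [0], ?_, ?_⟩
    · rw [mem_subgroupOf, Subgroup.coe_mul] at *
      exact mem_M_mul c⁻¹.2 (wordE [0]).2 hm h0
    · rw [show c⁻¹ * wordE [0] * wordE (repW n) * (c⁻¹ * wordE [0])⁻¹ =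
        c⁻¹ * (wordE [0] * wordE (repW n) * (wordE [0])⁻¹) * c by group, hcomm, mul_inv_cancel_right, hw]

theorem parity {w : W2} {n : ℕ} (hn : n < 11) {c : W2} (hc : c * w * c⁻¹ = wordE (repW n)) :
    w ∈ MW ↔ Even (repW n).length := by
  have : MW.Normal := normal_of_index_eq_two (by
    have h := MW.card_mul_index
    rw [Nat.card_congr (subgroupOfEquivOfLe M_le_M2).toEquiv, card_M, card_M2] at h
    exact Nat.eq_of_mul_eq_mul_left (by norm_num : 0 < 348364800) (h.trans (by norm_num)))
  rw [← wordE_mem_iff (repW_lt hn), ← hc]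
  refine ⟨fun h => this.conj_mem w h c, fun h => ?_⟩
  have := this.conj_mem _ h c⁻¹
  simpa [mul_assoc] using this

theorem inner_cases : ∀ a ∈ MW, a * a = 1 → a = 1 ∨ a = tE ∨
    InnerCl MW (tE) (wordE sW) (wordE qaW) (wordE qbW) a := by
  intro a ha h2
  obtain ⟨c, n, hn, hc⟩ := exists_rep (Or.inl h2)
  have hp := (parity hn hc).1 ha
  interval_cases n
  · exact absurd hp (by decide)
  · exact absurd hp (by decide)
  · exact Or.inr (Or.inr (Or.inl (mc_of_conj (n := 2) hn (by norm_num) hc)))
  · exact Or.inr (Or.inr (Or.inr (Or.inl (repW_tmul.2.1 ▸ mc_of_conj (n := 3) hn (by norm_num) hc))))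
  · exact absurd hp (by decide)
  · exact absurd hp (by decide)
  · exact Or.inr (Or.inr (Or.inr (Or.inr (Or.inr (mc_of_conj (n := 6) hn (by norm_num) hc)))))
  · exact Or.inr (Or.inr (Or.inr (Or.inr (Or.inl (mc_of_conj (n := 7) hn (by norm_num) hc)))))
  · refine absurd ?_ tE_ne
    rw [← rootE_sq, show rootW = repW 8 from rfl, ← hc, show c * a * c⁻¹ * (c * a * c⁻¹) = c * (a * a) * c⁻¹ by group,
      h2, mul_one, mul_inv_cancel]
  · exact Or.inl (conj_eq_one_iff.1 hc)
  · refine Or.inr (Or.inl ?_)
    rw [show a = c⁻¹ * (c * a * c⁻¹) * c by group, hc, mul_assoc]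
    show c⁻¹ * (tE * c) = tE
    rw [(tE_central c).eq, inv_mul_cancel_left]

theorem root_cases : ∀ a ∈ MW, a * a = tE → ∃ w, w * wordE rootW * w⁻¹ = a := by
  intro a _ h2
  obtain ⟨c, n, hn, hc⟩ := exists_rep (Or.inr h2)
  by_cases h8 : n = 8
  · subst h8
    exact ⟨c⁻¹, by rw [show rootW = repW 8 from rfl, ← hc]; group⟩
  · refine absurd ?_ tE_ne
    have h := repW_sq hn h8
    rw [← hc, show c * a * c⁻¹ * (c * a * c⁻¹) = c * (a * a) * c⁻¹ by group, h2, ← (tE_central c).eq,
      mul_inv_cancel_right] at h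
    exact h

theorem outer_cases : ∀ w, w ∉ MW → (w * w = 1 ∨ w * w = tE) →
    MC MW (wordE rW) w ∨ MC MW (tE * wordE rW) w ∨ MC MW (wordE kW) w ∨ MC MW (tE * wordE kW) w := by
  intro w hw h2
  obtain ⟨c, n, hn, hc⟩ := exists_rep h2
  have hp := fun e => hw ((parity hn hc).2 e)
  interval_cases n
  · exact Or.inl (mc_of_conj (n := 0) hn (by norm_num) hc)
  · exact Or.inr (Or.inl (repW_tmul.1 ▸ mc_of_conj (n := 1) hn (by norm_num) hc))
  · exact absurd (by decide) hp
  · exact absurd (by decide) hp
  · exact Or.inr (Or.inr (Or.inl (mc_of_conj (n := 4) hn (by norm_num) hc)))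
  · exact Or.inr (Or.inr (Or.inr (repW_tmul.2.2 ▸ mc_of_conj (n := 5) hn (by norm_num) hc)))
  all_goals exact absurd (by decide +kernel) hp

theorem twists : MC MW (wordE qaW) (tE * wordE qaW) ∧ MC MW (wordE qbW) (tE * wordE qbW) := by
  have h := reps_ok
  simp only [repsB, Bool.and_eq_true, List.all_eq_true, List.mem_range, Nat.beq_eq, List.mem_cons,
    List.not_mem_nil, or_false, forall_eq_or_imp, forall_eq, Nat.blt_eq] at h
  have key : ∀ u q : List ℕ, (∀ a ∈ u, a < 240) → (∀ a ∈ q, a < 240) → Even u.length →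
      (∀ i < 16, evalW (u ++ q) i = evalW (tW ++ q ++ u) i) → MC MW (wordE q) (tE * wordE q) := by
    intro u q hu hq he hv
    refine ⟨wordE u, (wordE_mem_iff hu).2 he, ?_⟩
    rw [mul_inv_eq_iff_eq_mul, ← wordE_append, ← wordE_append, ← wordE_append]
    refine wordE_eq (fun a ha => (List.mem_append.1 ha).elim (hu a) (hq a)) (fun a ha => ?_) hv
    rcases List.mem_append.1 ha with ha | ha
    · exact (List.mem_append.1 ha).elim (tW_lt a) (hq a)
    · exact hu a ha
  exact ⟨key [86, 82, 28, 20, 60, 52, 6, 8] qaW (by decide) (by decide) (by decide) h.2.1.2,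
    key [30, 22, 28, 20, 4, 6, 12, 14] qbW (by decide) (by decide) (by decide) h.2.2.2⟩

theorem qa_twist : MC MW (wordE qaW) (tE * wordE qaW) := twists.1

theorem qb_twist : MC MW (wordE qbW) (tE * wordE qbW) := twists.2

end CfsgLib.OEightStd
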