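import Cfsg.Agent.Lib.OEightStd.Refl
import Cfsg.Agent.Lib.OEightStd.CertData

/-!
# Elements of order five in centralisers
-/

set_option autoImplicit false
set_option maxRecDepth 100000

namespace CfsgLib.OEightStd

open Subgroup

attribute [local irreducible] reflTab ipTab signedBase signedRefl

/-- Factors of order five, each commuting with all of `com`, with product `tgt`. -/
def fiveB (com : List (List ℕ)) (tgt : List ℕ) (fs : List (List ℕ)) : Bool :=
  evB fs.flatten tgt && fs.all fun a => Nat.beq (a.length % 2) 0 && evB (a ++ a ++ a ++ a ++ a) [] &&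
    com.all fun c => evB (a ++ c) (c ++ a)

theorem wordE_five (a : List ℕ) : wordE a ^ 5 = wordE (a ++ a ++ a ++ a ++ a) := by
  simp only [wordE_append, pow_succ, pow_zero, one_mul]

/-- The members of such a product. -/
theorem five_item {com : List (List ℕ)} {tgt : List ℕ} {fs : List (List ℕ)} (h : fiveB com tgt fs = true)
    {a : List ℕ} (ha : a ∈ fs) :
    wordE a ∈ MW ∧ wordE a ^ 5 = 1 ∧ ∀ c ∈ com, Commute (wordE a) (wordE c) := by
  simp only [fiveB, Bool.and_eq_true, List.all_eq_true, Nat.beq_eq] at h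
  obtain ⟨⟨h1, h2⟩, h3⟩ := h.2 a ha
  refine ⟨(wordE_mem_iff ?_).2 (Nat.even_iff.2 h1), by rw [wordE_five, of_evB h2, wordE_nil], fun c hc => ?_⟩
  · have h4 := h2
    simp only [evB, Bool.and_eq_true] at h4
    exact fun x hx => of_wOk h4.1.1 x (List.mem_append_right _ hx)
  · show wordE a * wordE c = wordE c * wordE a
    rw [← wordE_append, ← wordE_append, of_evB (h3 c hc)]

theorem wordE_flatten_mem {H : Subgroup W2} : ∀ {fs : List (List ℕ)}, (∀ a ∈ fs, wordE a ∈ H) →
    wordE fs.flatten ∈ H
  | [], _ => by simpa [wordE_nil] using one_mem H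
  | a :: fs, h => by
    rw [List.flatten_cons, wordE_append]
    exact mul_mem (h a List.mem_cons_self) (wordE_flatten_mem fun b hb => h b (List.mem_cons_of_mem _ hb))

theorem five_one {c tgt : List ℕ} {fs : List (List ℕ)} (h : fiveB [c] tgt fs = true) :
    wordE tgt ∈ Five MW (wordE c) := by
  have h' := h
  simp only [fiveB, Bool.and_eq_true] at h'
  rw [← of_evB h'.1]
  exact wordE_flatten_mem fun a ha => subset_closure
    ⟨(five_item h ha).1, (five_item h ha).2.1, (five_item h ha).2.2 c List.mem_cons_self⟩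

theorem five_two {c d tgt : List ℕ} {fs : List (List ℕ)} (h : fiveB [c, d] tgt fs = true) :
    wordE tgt ∈ Five2 MW (wordE c) (wordE d) := by
  have h' := h
  simp only [fiveB, Bool.and_eq_true] at h'
  rw [← of_evB h'.1]
  exact wordE_flatten_mem fun a ha => subset_closure
    ⟨(five_item h ha).1, (five_item h ha).2.1, (five_item h ha).2.2 c List.mem_cons_self,
      (five_item h ha).2.2 d (List.mem_cons_of_mem _ List.mem_cons_self)⟩

/-- Two involutions made from factors of order five centralising two given members. -/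
def twoB (c d : List ℕ) (L : List (List ℕ × List (List ℕ))) : Bool :=
  match L with
  | [(u, fu), (v, fv)] => fiveB [c, d] u fu && fiveB [c, d] v fv && evB (u ++ u) [] && evB (v ++ v) [] &&
      neB u [] && neB v [] && neB u v
  | _ => false

theorem two_invol {c d : List ℕ} {L : List (List ℕ × List (List ℕ))} (h : twoB c d L = true) :
    TwoInvol (Five2 MW (wordE c) (wordE d)) := by
  match L, h with
  | [(u, fu), (v, fv)], h =>
    simp only [twoB, Bool.and_eq_true] at h
    obtain ⟨⟨⟨⟨⟨⟨h1, h2⟩, h3⟩, h4⟩, h5⟩, h6⟩, h7⟩ := h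
    refine ⟨_, five_two h1, _, five_two h2, ?_, ?_, ?_, ?_, of_neB h7⟩
    · rw [← wordE_append, of_evB h3, wordE_nil]
    · rw [← wordE_append, of_evB h4, wordE_nil]
    · exact wordE_nil ▸ of_neB h5
    · exact wordE_nil ▸ of_neB h6

/-- No five points of the list form a pentagon. -/
def pentB (X : List ℕ) : Bool :=
  X.all fun a => X.all fun b => Nat.beq b a || X.all fun c =>
    Nat.beq c a || Nat.beq c b || !Nat.beq (ip b c) (ip a b) || X.all fun d =>
      Nat.beq d a || Nat.beq d b || Nat.beq d c || !Nat.beq (ip c d) (ip a b) || !Nat.beq (ip b d) (ip a c) ||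
        !Nat.beq (ip a d) (ip a c) || X.all fun e =>
          Nat.beq e a || Nat.beq e b || Nat.beq e c || Nat.beq e d || !Nat.beq (ip d e) (ip a b) ||
            !Nat.beq (ip e a) (ip a b) || !Nat.beq (ip c e) (ip a c) || !Nat.beq (ip b e) (ip a c)

theorem fixed_of_pent {X : List ℕ} (hX : pentB X = true) {a : W2} (h5 : a ^ 5 = 1) {P : Fin 240 → Prop}
    (hP : ∀ x, P x → P (a.1 x)) (hPX : ∀ x, P x → x.val ∈ X) {x : Fin 240} (hx : P x) : a.1 x = x := by
  have hA : a.1 ^ 5 = 1 := by rw [← SubgroupClass.coe_pow, h5]; rfl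
  generalize hAa : a.1 = A at hP hA ⊢
  have hAm : A ∈ M2 := hAa ▸ a.2
  have h5x : A (A (A (A (A x)))) = x := by
    have := Equiv.Perm.ext_iff.1 hA x
    simpa [pow_succ, Equiv.Perm.mul_apply] using this
  set x1 := A x with e1
  set x2 := A x1 with e2
  set x3 := A x2 with e3
  set x4 := A x3 with e4
  have s01 : ip x1.val x2.val = ip x.val x1.val := ip_act hAm x x1
  have s12 : ip x2.val x3.val = ip x.val x1.val := (ip_act hAm x1 x2).trans s01
  have s23 : ip x3.val x4.val = ip x.val x1.val := (ip_act hAm x2 x3).trans s12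
  have s34 : ip x4.val x.val = ip x.val x1.val := by
    have := ip_act hAm x3 x4
    rw [← e4, h5x] at this
    exact this.trans s23
  have d13 : ip x1.val x3.val = ip x.val x2.val := ip_act hAm x x2
  have d24 : ip x2.val x4.val = ip x.val x2.val := (ip_act hAm x1 x3).trans d13
  have d30 : ip x3.val x.val = ip x.val x2.val := by
    have := ip_act hAm x2 x4
    rw [← e3, h5x] at this
    exact this.trans d24
  have d41 : ip x4.val x1.val = ip x.val x2.val := by
    have := ip_act hAm x3 x
    rw [← e4, ← e1] at this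
    exact this.trans d30
  have p1 := hP x hx
  rw [← e1] at p1
  have p2 := hP _ p1
  rw [← e2] at p2
  have p3 := hP _ p2
  rw [← e3] at p3
  have p4 := hP _ p3
  rw [← e4] at p4
  by_contra hne
  have inj := A.injective
  have n10 : x1 ≠ x := hne
  have n20 : x2 ≠ x := fun e => hne (by
    have f3 : x3 = x1 := by rw [e3, e, ← e1]
    have f4 : x4 = x2 := by rw [e4, f3, ← e2]
    have f5 : A x4 = x := h5x
    rw [f4, ← e3, f3] at f5
    exact f5)
  have n21 : x2 ≠ x1 := fun e => n10 (inj (by rw [← e2, ← e1, e]))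
  have n32 : x3 ≠ x2 := fun e => n21 (inj (by rw [← e3, ← e2, e]))
  have n31 : x3 ≠ x1 := fun e => n20 (inj (by rw [← e3, ← e1, e]))
  have n30 : x3 ≠ x := fun e => n20 (by
    have f4 : x4 = x1 := by rw [e4, e, ← e1]
    rw [f4, ← e2] at h5x
    exact h5x)
  have n43 : x4 ≠ x3 := fun e => n32 (inj (by rw [← e4, ← e3, e]))
  have n42 : x4 ≠ x2 := fun e => n31 (inj (by rw [← e4, ← e2, e]))
  have n41 : x4 ≠ x1 := fun e => n30 (inj (by rw [← e4, ← e1, e]))
  have n40 : x4 ≠ x := fun e => hne (by rw [e, ← e1] at h5x; exact h5x)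
  have sym : ∀ u v : ℕ, u < 240 → v < 240 → ip u v = ip v u := by
    have hs : ((List.range 240).all fun u => (List.range 240).all fun v => Nat.beq (ip u v) (ip v u)) = true := by
      decide +kernel
    simp only [List.all_eq_true, List.mem_range, Nat.beq_eq] at hs
    exact fun u v hu hv => hs u hu v hv
  have nb : ∀ {u v : Fin 240}, u ≠ v → Nat.beq u.val v.val = false := fun {u v} h => by
    cases hb : Nat.beq u.val v.val
    · rfl
    · exact absurd (Fin.ext (Nat.eq_of_beq_eq_true hb)) h
  simp only [pentB, List.all_eq_true, Bool.or_eq_true, Bool.not_eq_true'] at hX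
  have tb : ∀ {u v : ℕ}, u = v → Nat.beq u v ≠ false := fun {u v} h => by
    have h' : Nat.beq u v = true := Nat.beq_eq ▸ h
    rw [h']; decide
  have h := (hX _ (hPX x hx) _ (hPX _ p1)).resolve_left (by rw [nb n10]; decide)
  have h := h _ (hPX _ p2)
  simp only [nb n20, nb n21, Bool.false_eq_true, false_or] at h
  have h := h.resolve_left (tb s01)
  have h := h _ (hPX _ p3)
  simp only [nb n30, nb n31, nb n32, Bool.false_eq_true, false_or] at h
  have d03 : ip x.val x3.val = ip x.val x2.val := (sym _ _ x.isLt x3.isLt).trans d30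
  have h := ((h.resolve_left (fun e => e.elim (fun e => e.elim (tb s12) (tb d13)) (tb d03))))
  have h := h _ (hPX _ p4)
  simp only [nb n40, nb n41, nb n42, nb n43, Bool.false_eq_true, false_or] at h
  have d14 : ip x1.val x4.val = ip x.val x2.val := (sym _ _ x1.isLt x4.isLt).trans d41
  rcases h with ((e | e) | e) | e
  exacts [tb s23 e, tb s34 e, tb d24 e, tb d14 e]

/-- The points whose sign is changed. -/
def negX (w : List ℕ) : List ℕ := (List.range 240).filter fun i => Nat.beq (evalW w i) (i ^^^ 1)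

/-- The points fixed. -/
def fixX (w : List ℕ) : List ℕ := (List.range 240).filter fun i => Nat.beq (evalW w i) i

/-- The fixed points orthogonal to all others but their opposites. -/
def isoX (w : List ℕ) : List ℕ :=
  (fixX w).filter fun x => (fixX w).all fun y => !Nat.beq (ip x y) 1 && !Nat.beq (ip x y) 3

/-- The fixed points not so. -/
def anisoX (w : List ℕ) : List ℕ :=
  (fixX w).filter fun x => !((fixX w).all fun y => !Nat.beq (ip x y) 1 && !Nat.beq (ip x y) 3)

/-- No pentagons, and the frame is covered. -/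
def botB (w : List ℕ) : Bool :=
  wOk w && pentB (negX w) && pentB (isoX w) && pentB (anisoX w) &&
    (List.range 16).all fun i => Nat.beq (evalW w i) (i ^^^ 1) || Nat.beq (evalW w i) i

theorem bot_ok : botB qaW = true ∧ botB qbW = true ∧ botB kW = true := by decide +kernel

theorem tW_flip (i : Fin 240) : ((wordE tW).1 i).val = i.val ^^^ 1 := by
  rw [tE_val]
  rcases Nat.mod_two_eq_zero_or_one i.val with e | e
  · rw [Nat.xor_one_of_even (Nat.even_iff.2 e)]; omega
  · rw [Nat.xor_one_of_odd (Nat.odd_iff.2 e)]; omega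

theorem comm_apply {g h : W2} (e : Commute g h) (x : Fin 240) : g.1 (h.1 x) = h.1 (g.1 x) :=
  Equiv.Perm.ext_iff.1 (congrArg Subtype.val e.eq) x

theorem bot_of {w : List ℕ} (hw : botB w = true) {a : W2} (h5 : a ^ 5 = 1) (hc : Commute a (wordE w)) : a = 1 := by
  simp only [botB, Bool.and_eq_true, List.all_eq_true, List.mem_range, Bool.or_eq_true, Nat.beq_eq] at hw
  obtain ⟨⟨⟨⟨hok, hn⟩, hi⟩, ha⟩, hfr⟩ := hw
  have hok' := of_wOk hok
  let F : Fin 240 → Prop := fun x => (wordE w).1 x = x
  let Q : Fin 240 → Prop := fun x => ∀ y, F y → ip x.val y.val ≠ 1 ∧ ip x.val y.val ≠ 3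
  have hF : ∀ x, F x → F (a.1 x) := fun x hx => by
    show (wordE w).1 (a.1 x) = a.1 x
    rw [← comm_apply hc, hx]
  have hQ : ∀ x, F x → (Q x ↔ Q (a.1 x)) := fun x _ => by
    constructor
    · intro h y hy
      obtain ⟨y', rfl⟩ := a.1.surjective y
      rw [ip_act a.2]
      refine h y' (a.1.injective ?_)
      rw [comm_apply hc]
      exact hy
    · intro h y hy
      rw [← ip_act a.2 x y]
      exact h _ (hF y hy)
  have mF : ∀ x, F x → x.val ∈ fixX w := fun x hx => by
    simp only [fixX, List.mem_filter, List.mem_range, Nat.beq_eq]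
    exact ⟨x.isLt, by rw [← wordE_val hok', hx]⟩
  have memF : ∀ y ∈ fixX w, ∃ z : Fin 240, z.val = y ∧ F z := fun y hy => by
    simp only [fixX, List.mem_filter, List.mem_range, Nat.beq_eq] at hy
    exact ⟨⟨y, hy.1⟩, rfl, Fin.ext ((wordE_val hok' _).trans hy.2)⟩
  have nb : ∀ {u v : ℕ}, u ≠ v → Nat.beq u v = false := fun {u v} h => by
    cases hb : Nat.beq u v
    · rfl
    · exact absurd (Nat.eq_of_beq_eq_true hb) h
  have fixed : ∀ x, F x → a.1 x = x := by
    intro x hx
    by_cases hq : Q x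
    · refine fixed_of_pent hi h5 (P := fun z => F z ∧ Q z) (fun z hz => ⟨hF z hz.1, (hQ z hz.1).1 hz.2⟩)
        (fun z hz => ?_) ⟨hx, hq⟩
      simp only [isoX, List.mem_filter, List.all_eq_true, Bool.and_eq_true, Bool.not_eq_true']
      refine ⟨mF z hz.1, fun y hy => ?_⟩
      obtain ⟨y', rfl, hy'⟩ := memF y hy
      exact ⟨nb (hz.2 y' hy').1, nb (hz.2 y' hy').2⟩
    · refine fixed_of_pent ha h5 (P := fun z => F z ∧ ¬ Q z) (fun z hz => ⟨hF z hz.1, fun e => hz.2 ((hQ z hz.1).2 e)⟩)
        (fun z hz => ?_) ⟨hx, hq⟩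
      simp only [anisoX, List.mem_filter, Bool.not_eq_true']
      refine ⟨mF z hz.1, ?_⟩
      cases hb : (fixX w).all fun y => !Nat.beq (ip z.val y) 1 && !Nat.beq (ip z.val y) 3
      · rfl
      simp only [List.all_eq_true, Bool.and_eq_true, Bool.not_eq_true'] at hb
      refine absurd (fun y hy => ?_) hz.2
      obtain ⟨e1, e2⟩ := hb y.val (mF y hy)
      refine ⟨fun e => ?_, fun e => ?_⟩
      · rw [e] at e1; exact absurd e1 (by decide)
      · rw [e] at e2; exact absurd e2 (by decide)
  have negd : ∀ x : Fin 240, (wordE w).1 x = (wordE tW).1 x → a.1 x = x := fun x hx => by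
    refine fixed_of_pent hn h5 (P := fun z => (wordE w).1 z = (wordE tW).1 z) (fun z hz => ?_) (fun z hz => ?_) hx
    · rw [← comm_apply hc, hz, comm_apply (tE_central a).symm]
    · simp only [negX, List.mem_filter, List.mem_range, Nat.beq_eq]
      exact ⟨z.isLt, by rw [← wordE_val hok', hz, tW_flip]⟩
  refine Subtype.ext (ext_frame a.2 (one_mem _) fun i hi => ?_)
  show a.1 i = i
  rcases hfr i.val hi with e | e
  · exact negd i (Fin.ext (by rw [wordE_val hok', tW_flip, e]))
  · exact fixed i (Fin.ext (by rw [wordE_val hok', e]))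

theorem five_bot : ∀ w, (w = wordE qaW ∨ w = wordE qbW ∨ w = wordE kW) →
    ∀ a ∈ MW, a ^ 5 = 1 → Commute a w → a = 1 := by
  rintro _ (rfl | rfl | rfl) a - h5 hc
  exacts [bot_of bot_ok.1 h5 hc, bot_of bot_ok.2.1 h5 hc, bot_of bot_ok.2.2 h5 hc]

/-- The negated points of the first two representatives. -/
def negB : Bool :=
  pentB (negX sW) && pentB (negX rW) && Nat.beq (evalW sW 0) 1 && Nat.beq (evalW rW 0) 1

theorem neg_ok : negB = true := by decide +kernel

theorem five_fix {w : List ℕ} (hok : ∀ a ∈ w, a < 240) (hp : pentB (negX w) = true) (h0 : evalW w 0 = 1)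
    {g : W2} (hg : g ∈ Five MW (wordE w)) : g.1 0 = 0 := by
  induction hg using closure_induction with
  | mem a ha =>
    obtain ⟨-, h5, hc⟩ := ha
    refine fixed_of_pent hp h5 (P := fun z => (wordE w).1 z = (wordE tW).1 z) (fun z hz => ?_) (fun z hz => ?_)
      (Fin.ext (by rw [wordE_val hok, tW_flip]; exact h0))
    · rw [← comm_apply hc, hz, comm_apply (tE_central a).symm]
    · simp only [negX, List.mem_filter, List.mem_range, Nat.beq_eq]
      exact ⟨z.isLt, by rw [← wordE_val hok, hz, tW_flip]⟩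
  | one => rfl
  | mul x y _ _ hx hy => rw [Subgroup.coe_mul, Equiv.Perm.mul_apply, hy, hx]
  | inv x _ hx =>
    conv_lhs => rw [← hx]
    exact x.1.symm_apply_apply 0

theorem t_five_s : wordE tW ∉ Five MW (wordE sW) := by
  intro h
  have hb := neg_ok
  simp only [negB, Bool.and_eq_true, Nat.beq_eq] at hb
  have e := congrArg Fin.val (five_fix (by decide) hb.1.1.1 hb.1.2 h)
  rw [tW_flip] at e
  exact absurd e (by decide)

theorem s_five : wordE sW ∉ Five MW (wordE sW) := by
  intro h
  have hb := neg_ok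
  simp only [negB, Bool.and_eq_true, Nat.beq_eq] at hb
  have e := congrArg Fin.val (five_fix (by decide) hb.1.1.1 hb.1.2 h)
  rw [wordE_val (by decide), show ((0 : Fin 240).val) = 0 from rfl, hb.1.2] at e
  exact absurd e (by decide)

theorem t_five_r : wordE tW ∉ Five MW (wordE rW) := by
  intro h
  have hb := neg_ok
  simp only [negB, Bool.and_eq_true, Nat.beq_eq] at hb
  have e := congrArg Fin.val (five_fix (by decide) hb.1.1.2 hb.2 h)
  rw [tW_flip] at e
  exact absurd e (by decide)

/-- The points fixed by all the listed elements of order five. -/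
def candZero : List ℕ := (List.range 240).filter fun c => Cert.fiveGens.all fun g => Nat.beq (evalW g c) c

/-- The points fixed by all the loops. -/
def candFour : List ℕ := (List.range 240).filter fun c => Cert.fiveLoops.all fun l =>
  Nat.beq (evalW (l.map fun j => Cert.fiveGens.getD j []).flatten c) c

/-- A word in the elements of order five. -/
def gW (l : List ℕ) : List ℕ := (l.map fun j => Cert.fiveGens.getD j []).flatten

/-- The image of a frame point. -/
def imgS (a b c i : ℕ) : ℕ :=
  if i < 2 then a ^^^ i else if i < 4 then b ^^^ (i - 2) else evalW (gW (Cert.fiveReach.getD (i - 4) [])) c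

/-- A commuting element squares to one. -/
def centB : Bool :=
  fiveB [sW] Cert.fiveGens.flatten Cert.fiveGens &&
    ((List.range 240).all fun x => Nat.beq (evalW tW x) (x ^^^ 1)) &&
    Cert.fiveGens.all (fun g => Nat.beq (evalW g 0) 0 && Nat.beq (evalW g 2) 2) &&
    Cert.fiveLoops.all (fun l => Nat.beq (evalW (gW l) 4) 4) &&
    ((List.range 12).all fun j => wOk (gW (Cert.fiveReach.getD j [])) &&
      Nat.beq (evalW (gW (Cert.fiveReach.getD j [])) 4) (j + 4)) &&
    candZero.all fun a => candZero.all fun b => candFour.all fun c =>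
      ((List.range 16).any fun i => (List.range 16).any fun j =>
        !Nat.beq (ip (imgS a b c i) (imgS a b c j)) (ip i j)) ||
      ((List.range 240).all fun y => (List.range 16).any fun i =>
        !Nat.beq (ip y (imgS a b c i)) (ip Cert.fiveTest i)) ||
      (Nat.blt a 16 && Nat.blt b 16 && Nat.blt c 16 && Nat.beq (imgS a b c a) 0 && Nat.beq (imgS a b c b) 2 &&
        Nat.beq (imgS a b c c) 4)

theorem cent_ok' : centB = true := by decide +kernel

theorem five_cent : ∀ w : W2, (∀ a ∈ MW, a ^ 5 = 1 → Commute a (wordE sW) → Commute a w) → w * w = 1 := by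
  intro w hw
  have h := cent_ok'
  simp only [centB, Bool.and_eq_true, List.all_eq_true, List.mem_range, Nat.beq_eq, Bool.or_eq_true,
    List.any_eq_true, Bool.not_eq_true', Nat.blt_eq] at h
  obtain ⟨⟨⟨⟨⟨hfive, -⟩, hfix⟩, hloop⟩, hreach⟩, hall⟩ := h
  have hgen : ∀ g ∈ Cert.fiveGens, Commute (wordE g) w ∧ ∀ a ∈ g, a < 240 := by
    intro g hg
    obtain ⟨h1, h2, h3⟩ := five_item hfive hg
    refine ⟨hw _ h1 h2 (h3 sW List.mem_cons_self), ?_⟩
    have h' := hfive
    simp only [fiveB, Bool.and_eq_true, List.all_eq_true] at h'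
    have h'' := (h'.2 g hg).1.2
    simp only [evB, Bool.and_eq_true] at h''
    exact fun a ha => of_wOk h''.1.1 a (List.mem_append_right _ ha)
  have hgj : ∀ j : ℕ, Commute (wordE (Cert.fiveGens.getD j [])) w ∧ ∀ a ∈ Cert.fiveGens.getD j [], a < 240 := by
    intro j
    rcases Nat.lt_or_ge j Cert.fiveGens.length with hj | hj
    · rw [List.getD_eq_getElem _ _ hj]
      exact hgen _ (List.getElem_mem hj)
    · rw [List.getD_eq_default _ _ hj]
      exact ⟨by rw [wordE_nil]; exact Commute.one_left _, by simp⟩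
  have hgW : ∀ l : List ℕ, Commute (wordE (gW l)) w ∧ ∀ a ∈ gW l, a < 240 := by
    intro l
    induction l with
    | nil => exact ⟨by rw [show gW [] = [] from rfl, wordE_nil]; exact Commute.one_left _, by simp [gW]⟩
    | cons j l ih =>
      have e : gW (j :: l) = Cert.fiveGens.getD j [] ++ gW l := by simp [gW]
      rw [e, wordE_append]
      exact ⟨(hgj j).1.mul_left ih.1, fun a ha => (List.mem_append.1 ha).elim ((hgj j).2 a) (ih.2 a)⟩
  have move : ∀ (l : List ℕ) (x : Fin 240), w.1 ((wordE (gW l)).1 x) = (wordE (gW l)).1 (w.1 x) := fun l x =>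
    (comm_apply (hgW l).1 x).symm
  have hT : ∀ x : Fin 240, w.1 ((wordE tW).1 x) = (wordE tW).1 (w.1 x) := fun x => (comm_apply (tE_central w) x).symm
  set a := w.1 (⟨0, by norm_num⟩ : Fin 240) with ha
  set b := w.1 (⟨2, by norm_num⟩ : Fin 240) with hb
  set c := w.1 (⟨4, by norm_num⟩ : Fin 240) with hc
  have fixMem : ∀ (z : ℕ) (hz : z < 240), (∀ g ∈ Cert.fiveGens, evalW g z = z) →
      (w.1 ⟨z, hz⟩).val ∈ candZero := by
    intro z hz hzf
    simp only [candZero, List.mem_filter, List.mem_range, List.all_eq_true, Nat.beq_eq]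
    refine ⟨Fin.isLt _, fun g hg => ?_⟩
    rw [← wordE_val (hgen g hg).2, comm_apply (hgen g hg).1]
    congr 2
    exact Fin.ext ((wordE_val (hgen g hg).2 _).trans (hzf g hg))
  have ma : a.val ∈ candZero := fixMem 0 _ fun g hg => (hfix g hg).1
  have mb : b.val ∈ candZero := fixMem 2 _ fun g hg => (hfix g hg).2
  have mc : c.val ∈ candFour := by
    simp only [candFour, List.mem_filter, List.mem_range, List.all_eq_true, Nat.beq_eq]
    refine ⟨c.isLt, fun l hl => ?_⟩
    show evalW (gW l) c.val = c.val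
    rw [← wordE_val (hgW l).2, hc, ← move]
    congr 2
    exact Fin.ext ((wordE_val (hgW l).2 _).trans (hloop l hl))
  have img : ∀ i : Fin 240, i.val < 16 → (w.1 i).val = imgS a.val b.val c.val i.val := by
    intro i hi
    unfold imgS
    by_cases h2 : i.val < 2
    · rw [if_pos h2]
      rcases (by omega : i.val = 0 ∨ i.val = 1) with e | e
      · rw [e, Nat.xor_zero, show i = ⟨0, by norm_num⟩ from Fin.ext e]
      · rw [e, show i = (wordE tW).1 ⟨0, by norm_num⟩ from Fin.ext (by rw [e, tW_flip]; rfl), hT, tW_flip]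
    rw [if_neg h2]
    by_cases h4 : i.val < 4
    · rw [if_pos h4]
      rcases (by omega : i.val = 2 ∨ i.val = 3) with e | e
      · rw [e, Nat.xor_zero, show i = ⟨2, by norm_num⟩ from Fin.ext e]
      · rw [e, show i = (wordE tW).1 ⟨2, by norm_num⟩ from Fin.ext (by rw [e, tW_flip]; rfl), hT, tW_flip]
    rw [if_neg h4]
    obtain ⟨-, hr⟩ := hreach (i.val - 4) (by omega)
    have hi' : i = (wordE (gW (Cert.fiveReach.getD (i.val - 4) []))).1 ⟨4, by norm_num⟩ :=
      Fin.ext (by rw [wordE_val (hgW _).2, hr]; omega)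
    conv_lhs => rw [hi', move, wordE_val (hgW _).2]
  rcases hall a.val ma b.val mb c.val mc with (⟨i, hi, j, hj, hne⟩ | hno) | hsq
  · exfalso
    have e := ip_act w.2 ⟨i, by omega⟩ ⟨j, by omega⟩
    rw [img ⟨i, by omega⟩ hi, img ⟨j, by omega⟩ hj] at e
    have : Nat.beq (ip (imgS a.val b.val c.val i) (imgS a.val b.val c.val j)) (ip i j) = true := Nat.beq_eq ▸ e
    rw [this] at hne
    exact Bool.noConfusion hne
  · exfalso
    have hz : Cert.fiveTest < 240 := by decide
    obtain ⟨i, hi, hne⟩ := hno (w.1 ⟨_, hz⟩).val (Fin.isLt _)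
    have e := ip_act w.2 ⟨_, hz⟩ ⟨i, by omega⟩
    rw [img ⟨i, by omega⟩ hi] at e
    have : Nat.beq (ip (w.1 ⟨_, hz⟩).val (imgS a.val b.val c.val i)) (ip Cert.fiveTest i) = true := Nat.beq_eq ▸ e
    rw [this] at hne
    exact Bool.noConfusion hne
  · obtain ⟨⟨⟨⟨⟨la, lb⟩, lc'⟩, qa⟩, qb⟩, qc⟩ := hsq
    have ww0 : w.1 (w.1 ⟨0, by norm_num⟩) = ⟨0, by norm_num⟩ := Fin.ext ((img a la).trans qa)
    have ww2 : w.1 (w.1 ⟨2, by norm_num⟩) = ⟨2, by norm_num⟩ := Fin.ext ((img b lb).trans qb)
    have ww4 : w.1 (w.1 ⟨4, by norm_num⟩) = ⟨4, by norm_num⟩ := Fin.ext ((img c lc').trans qc)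
    refine Subtype.ext (ext_frame (mul_mem w.2 w.2) (one_mem _) fun i hi => ?_)
    show w.1 (w.1 i) = i
    rcases (by omega : i.val = 0 ∨ i.val = 1 ∨ i.val = 2 ∨ i.val = 3 ∨ 4 ≤ i.val) with e | e | e | e | e
    · rw [show i = ⟨0, by norm_num⟩ from Fin.ext e, ww0]
    · rw [show i = (wordE tW).1 ⟨0, by norm_num⟩ from Fin.ext (by rw [e, tW_flip]; rfl), hT, hT, ww0]
    · rw [show i = ⟨2, by norm_num⟩ from Fin.ext e, ww2]
    · rw [show i = (wordE tW).1 ⟨2, by norm_num⟩ from Fin.ext (by rw [e, tW_flip]; rfl), hT, hT, ww2]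
    · obtain ⟨-, hr⟩ := hreach (i.val - 4) (by omega)
      rw [show i = (wordE (gW (Cert.fiveReach.getD (i.val - 4) []))).1 ⟨4, by norm_num⟩ from
        Fin.ext (by rw [wordE_val (hgW _).2, hr]; omega), move, move, ww4]

end CfsgLib.OEightStd
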