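import Cfsg.Agent.Lib.OEightStd.Reps
import Cfsg.Agent.Lib.OEightStd.CertData

/-!
# Kernel checks for the frame of eight orthogonal reflections
-/

set_option autoImplicit false
set_option maxRecDepth 100000

namespace CfsgLib.OEightStd

open CfsgLib.Golay CfsgLib.TailsData CfsgLib.Schur.Tails CfsgLib.Schur.Tails.OEight

/-- The generators move the reflections as the points. -/
noncomputable def equivB : Bool :=
  (signedBase ++ [signedRefl]).all fun g => (List.range 120).all fun b =>
    ops240.mul g (reflC (2 * b)) == ops240.mul (reflC (PackPerm.getP g (2 * b))) g &&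
      (PackPerm.getP g (2 * b) / 2 == PackPerm.getP g (2 * b + 1) / 2)

/-- The reflections of two lines differ, and commute only if the lines are orthogonal. -/
def commLineB : Bool :=
  (List.range 120).all fun a => (List.range 120).all fun b => Nat.beq a b ||
    (!Nat.beq (PackPerm.getP (reflC (2 * a)) (2 * b)) (PackPerm.getP (reflC (2 * b)) (2 * b)) &&
      (Nat.beq (ip (2 * a) (2 * b)) 2 ||
        !Nat.beq (evalW [2 * a, 2 * b] (2 * b)) (evalW [2 * b, 2 * a] (2 * b))))

/-- A step moves an orthogonal tuple with a further root into the frame. -/
def stepAtB (T : List ℕ) : Bool :=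
  let es := Cert.frameSteps.filter fun e => e.1 == T
  (List.range 120).all fun b => !(T.all fun a => Nat.beq (ip a (2 * b)) 2) ||
    es.any fun e => Nat.beq e.2.1 (2 * b) && e.2.2.1.all (fun a => Nat.blt a 240) &&
      Nat.beq (e.2.2.1.length % 2) 0 && ((T ++ [2 * b]).map fun a => 2 * (evalW e.2.2.1 a / 2)) == e.2.2.2

/-- The keys of the steps. -/
def stepKeys : List (List ℕ) := ([] :: Cert.frameSteps.map fun e => e.2.2.2).eraseDups

/-- All keys short of seven have all steps and the full ones lie in the frame. -/
def stepsB : Bool :=
  stepKeys.all fun T => T.all (fun a => Nat.blt a 240) &&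
    if Nat.blt T.length 7 then stepAtB T else T.all fun a => Nat.blt a 16

/-- The conjugators to the frame points, the pairs and the relations of the frame. -/
def frameB : Bool :=
  ((List.range 8).all fun i => (List.range 8).all fun j => (List.range 16).all fun x =>
    Nat.beq (evalW [2 * i, 2 * j] x) (evalW [2 * j, 2 * i] x)) &&
  ((List.range 8).all fun i =>
    let n := Cert.frReflConj.getD i []
    n.all (fun a => Nat.blt a 240) && Nat.beq (n.length % 2) 0 &&
      (List.range 16).all fun x => Nat.beq (evalW (n ++ rW) x) (evalW (2 * i :: n) x)) &&
  (List.range 8).all fun i => (List.range 8).all fun j => Nat.beq i j ||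
    let n := Cert.frPairConj.getD (7 * i + if Nat.blt j i then j else j - 1) []
    n.all (fun a => Nat.blt a 240) && Nat.beq (n.length % 2) 0 &&
      (List.range 16).all fun x => Nat.beq (evalW (n ++ sW) x) (evalW (2 * i :: 2 * j :: n) x)

/-- An element of order five commuting with two reflections. -/
def fiveOkB (i j : ℕ) (a : List ℕ) : Bool :=
  a.all (fun x => Nat.blt x 240) && Nat.beq (a.length % 2) 0 && (List.range 16).all fun x =>
    Nat.beq (evalW (a ++ a ++ a ++ a ++ a) x) x && Nat.beq (evalW (a ++ [i]) x) (evalW (i :: a) x) &&
      Nat.beq (evalW (a ++ [j]) x) (evalW (j :: a) x)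

/-- Two involutions in the span of the elements of order five for each pair. -/
def pairFiveB : Bool :=
  (List.range 7).all fun j =>
    let es := Cert.pairFive.getD j []
    Nat.beq es.length 2 &&
      (es.all fun e => e.1.all (fun x => Nat.blt x 240) && e.2.all (fiveOkB 0 (2 * (j + 1))) &&
        ((List.range 16).all fun x => Nat.beq (evalW e.2.flatten x) (evalW e.1 x) && Nat.beq (evalW (e.1 ++ e.1) x) x) &&
        (List.range 16).any fun x => !Nat.beq (evalW e.1 x) x) &&
      (List.range 16).any fun x => !Nat.beq (evalW (es.getD 0 ([], [])).1 x) (evalW (es.getD 1 ([], [])).1 x)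

/-- The linear map of the images of one, two and four. -/
def linVal (a b c x : ℕ) : ℕ :=
  (if x.testBit 0 then a else 0) ^^^ (if x.testBit 1 then b else 0) ^^^ (if x.testBit 2 then c else 0)

/-- Every affine permutation of the frame is induced. -/
def realiseB : Bool :=
  (List.range 8).all fun a => (List.range 8).all fun b => (List.range 8).all fun c =>
    (List.range 8).any (fun x => (List.range 8).any fun y =>
      !Nat.beq x y && Nat.beq (linVal a b c x) (linVal a b c y)) ||
    Cert.linWords.any fun e => e.1 == [a, b, c] && (List.range 8).all fun d =>
      let n := Cert.traWords.getD d [] ++ e.2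
      n.all (fun u => Nat.blt u 240) && Nat.beq (n.length % 2) 0 &&
        (List.range 8).all fun x => Nat.beq (evalW n (2 * x) / 2) (d ^^^ linVal a b c x)

/-- The frame points met by a point. -/
def supp (p : ℕ) : List ℕ := (List.range 8).filter fun i => !Nat.beq (ip (2 * i) p) 2

/-- The sets of four met by points are the planes. -/
def quadB : Bool :=
  ((List.range 8).all fun a => (List.range 8).all fun b => (List.range 8).all fun c =>
    Nat.beq a b || Nat.beq a c || Nat.beq b c ||
      (List.range 240).any fun p =>
        supp p == (List.range 8).filter fun i => [a, b, c, a ^^^ b ^^^ c].contains i) &&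
  (List.range 240).all fun p => !Nat.beq (supp p).length 4 || Nat.beq ((supp p).foldr (· ^^^ ·) 0) 0

/-- A reflection times the change of all signs is no reflection. -/
def noTwistB : Bool :=
  (List.range 120).all fun a => (List.range 8).all fun b =>
    (List.range 16).any fun x => !Nat.beq (evalW [2 * a] x) (evalW (tW ++ [2 * b]) x)

theorem equiv_ok : equivB = true := by decide +kernel

theorem commLine_ok : commLineB = true := by decide +kernel

theorem steps_ok : stepsB = true := by decide +kernel

theorem frame_ok : frameB = true := by decide +kernel

theorem pairFive_ok : pairFiveB = true := by decide +kernel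

theorem realise_ok : realiseB = true := by decide +kernel

theorem quad_ok : quadB = true ∧ noTwistB = true := by constructor <;> decide +kernel

end CfsgLib.OEightStd
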