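import Cfsg.Agent.Lib.OEightStd.FrameChecks
import Cfsg.Agent.Lib.OEightStd.Classes

/-!
# The frame of eight orthogonal reflections
-/

set_option autoImplicit false
set_option maxRecDepth 100000

namespace CfsgLib.OEightStd

open CfsgLib.Golay CfsgLib.TailsData CfsgLib.Schur.Tails CfsgLib.Schur.Tails.OEight Subgroup

attribute [local irreducible] signedBase signedRefl reflTab ipTab Cert.frameSteps Cert.frPairConj Cert.frReflConj
  Cert.pairFive Cert.linWords Cert.traWords PackPerm.getP PackPerm.toL PackPerm.pack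

theorem reflC_line (a : ℕ) : reflC (2 * (a / 2)) = reflC a := by
  unfold reflC
  rw [Nat.mul_div_cancel_left _ (by norm_num : 0 < 2)]

theorem beq_of_eq {a b : ℕ} (h : a = b) : Nat.beq a b = true := h ▸ Nat.beq_refl a

/-- The generators of the group. -/
theorem base_ok {c : ℕ} (hc : c ∈ signedBase ++ [signedRefl]) : PackPerm.okP 240 c = true :=
  (List.mem_append.1 hc).elim (signed_ok c) fun h => List.mem_singleton.1 h ▸ refl_checks'.1

/-- The conjugate of a reflection is the reflection of the image. -/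
theorem reflP_conj {g : Equiv.Perm (Fin 240)} (hg : g ∈ M2) (a : Fin 240) :
    g * reflP a.val * g⁻¹ = reflP (g a).val := by
  induction hg using closure_induction generalizing a with
  | mem x hx =>
    obtain ⟨c, hc, rfl⟩ := hx
    have h := equiv_ok
    simp only [equivB, Bool.and_eq_true, List.all_eq_true, List.mem_range, beq_iff_eq] at h
    obtain ⟨h1, h2⟩ := h c hc (a.val / 2) (by omega)
    have hok := base_ok hc
    have hl : PackPerm.getP c a.val / 2 = PackPerm.getP c (2 * (a.val / 2)) / 2 := by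
      rcases Nat.mod_two_eq_zero_or_one a.val with e | e
      · rw [show 2 * (a.val / 2) = a.val by omega]
      · rw [h2, show 2 * (a.val / 2) + 1 = a.val by omega]
    have hl' : reflC (PackPerm.getP c a.val) = reflC (PackPerm.getP c (2 * (a.val / 2))) := by
      unfold reflC
      rw [hl]
    rw [mul_inv_eq_iff_eq_mul, reflP, reflP, permC_apply hok, hl', ← reflC_line a.val]
    have hi : PackPerm.getP c (2 * (a.val / 2)) < 240 :=
      PackPerm.getP_lt (PackPerm.validL_of_okP hok) (by omega)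
    have e := congrArg ops240.val h1
    rw [ops240.val_mul _ _ hok (reflC_ok (by omega)), ops240.val_mul _ _ (reflC_ok hi) hok] at e
    exact e
  | one => simp
  | mul x y _ _ hx hy =>
    rw [show x * y * reflP a.val * (x * y)⁻¹ = x * (y * reflP a.val * y⁻¹) * x⁻¹ by group, hy, hx,
      Equiv.Perm.mul_apply]
  | inv x _ hx =>
    have e := hx (x⁻¹ a)
    rw [show x (x⁻¹ a) = a from x.apply_symm_apply a] at e
    rw [← e]
    group

theorem reflE_val {a : ℕ} (ha : a < 240) : ((wordE [a] : W2) : Equiv.Perm (Fin 240)) = reflP a := by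
  rw [coe_wordE (by simpa using ha)]
  simp [wordP]

theorem reflE_line {a : ℕ} (ha : a < 240) : wordE [2 * (a / 2)] = wordE [a] := by
  refine Subtype.ext ?_
  rw [reflE_val ha, reflE_val (by omega), reflP, reflP, reflC_line]

theorem reflE_conj (g : W2) {a : ℕ} (ha : a < 240) :
    g * wordE [a] * g⁻¹ = wordE [2 * ((g.1 ⟨a, ha⟩).val / 2)] := by
  rw [reflE_line (Fin.isLt _)]
  refine Subtype.ext ?_
  rw [Subgroup.coe_mul, Subgroup.coe_mul, Subgroup.coe_inv, reflE_val ha, reflE_val (Fin.isLt _)]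
  exact reflP_conj g.2 ⟨a, ha⟩

/-- A conjugate of the first reflection is the reflection of a line. -/
theorem mc_refl {w : W2} (h : MC MW (wordE rW) w) : ∃ b < 120, w = wordE [2 * b] := by
  obtain ⟨m, -, rfl⟩ := h
  exact ⟨(m.1 ⟨0, by norm_num⟩).val / 2, by omega, reflE_conj m (a := 0) (by norm_num)⟩

theorem line_ne {a b : ℕ} (ha : a < 120) (hb : b < 120) (h : a ≠ b) : wordE [2 * a] ≠ wordE [2 * b] := by
  intro e
  have hc := commLine_ok
  simp only [commLineB, Bool.and_eq_true, List.all_eq_true, List.mem_range, Bool.or_eq_true, Nat.beq_eq,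
    Bool.not_eq_true'] at hc
  have h1 := ((hc a ha b hb).resolve_left h).1
  have e1 := wordE_val (w := [2 * a]) (by simp; omega) ⟨2 * b, by omega⟩
  rw [e, wordE_val (w := [2 * b]) (by simp; omega)] at e1
  simp only [evalW, List.foldr_cons, List.foldr_nil] at e1
  rw [beq_of_eq e1.symm] at h1
  exact Bool.noConfusion h1

theorem line_orth {a b : ℕ} (ha : a < 120) (hb : b < 120) (h : a ≠ b)
    (hc : Commute (wordE [2 * a]) (wordE [2 * b])) : ip (2 * a) (2 * b) = 2 := by
  have hd := commLine_ok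
  simp only [commLineB, Bool.and_eq_true, List.all_eq_true, List.mem_range, Bool.or_eq_true, Nat.beq_eq,
    Bool.not_eq_true'] at hd
  refine ((hd a ha b hb).resolve_left h).2.resolve_right fun h1 => ?_
  have e : wordE [2 * a, 2 * b] = wordE [2 * b, 2 * a] := by
    rw [show [2 * a, 2 * b] = [2 * a] ++ [2 * b] from rfl, show [2 * b, 2 * a] = [2 * b] ++ [2 * a] from rfl,
      wordE_append, wordE_append]
    exact hc.eq
  have e1 := wordE_val (w := [2 * a, 2 * b]) (by simp; omega) ⟨2 * b, by omega⟩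
  rw [e, wordE_val (w := [2 * b, 2 * a]) (by simp; omega)] at e1
  rw [beq_of_eq e1.symm] at h1
  exact Bool.noConfusion h1

/-- The frame. -/
noncomputable def frame (i : Fin 8) : W2 := wordE [2 * i.val]

theorem frame_mc (i : Fin 8) : MC MW (wordE rW) (frame i) := by
  have h := frame_ok
  simp only [frameB, Bool.and_eq_true, List.all_eq_true, List.mem_range, Nat.blt_eq, Nat.beq_eq] at h
  obtain ⟨⟨hl, he⟩, hv⟩ := h.1.2 i.val i.isLt
  refine ⟨wordE _, (wordE_mem_iff hl).2 (Nat.even_iff.2 he), ?_⟩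
  rw [frame, mul_inv_eq_iff_eq_mul, ← wordE_append, ← wordE_append]
  refine wordE_eq (fun a ha => (List.mem_append.1 ha).elim (hl a) ?_) (fun a ha => ?_) hv
  · intro ha
    rw [List.mem_singleton.1 ha]
    norm_num
  · rcases List.mem_cons.1 ha with rfl | ha
    · omega
    · exact hl a ha

theorem frame_comm (i j : Fin 8) : Commute (frame i) (frame j) := by
  have h := frame_ok
  simp only [frameB, Bool.and_eq_true, List.all_eq_true, List.mem_range, Nat.beq_eq] at h
  show wordE [2 * i.val] * wordE [2 * j.val] = wordE [2 * j.val] * wordE [2 * i.val]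
  rw [← wordE_append, ← wordE_append]
  exact wordE_eq (by simp; omega) (by simp; omega) (h.1.1 i.val i.isLt j.val j.isLt)

theorem frame_prod : (List.ofFn frame).prod = wordE tW := by
  simp [List.ofFn_succ, frame, wordE, tW]

theorem frame_pair (i j : Fin 8) (hij : i ≠ j) : MC MW (wordE sW) (frame i * frame j) := by
  have h := frame_ok
  simp only [frameB, Bool.and_eq_true, List.all_eq_true, List.mem_range, Nat.blt_eq, Nat.beq_eq,
    Bool.or_eq_true] at h
  obtain ⟨⟨hl, he⟩, hv⟩ := (h.2 i.val i.isLt j.val j.isLt).resolve_left fun e => hij (Fin.ext e)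
  refine ⟨wordE _, (wordE_mem_iff hl).2 (Nat.even_iff.2 he), ?_⟩
  rw [frame, frame, mul_inv_eq_iff_eq_mul, ← wordE_append, ← wordE_append, ← wordE_append]
  refine wordE_eq (fun a ha => (List.mem_append.1 ha).elim (hl a) ?_) (fun a ha => ?_) hv
  · intro ha
    simp only [sW, List.mem_cons, List.not_mem_nil, or_false] at ha
    omega
  · simp only [List.cons_append, List.nil_append, List.mem_cons] at ha
    rcases ha with rfl | rfl | ha
    · omega
    · omega
    · exact hl a ha

theorem five_mem {i j : ℕ} {a : List ℕ} (hi : i < 240) (hj : j < 240) (h : fiveOkB i j a = true) :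
    (∀ x ∈ a, x < 240) ∧ wordE a ∈ MW ∧ wordE a ^ 5 = 1 ∧ Commute (wordE a) (wordE [i]) ∧
      Commute (wordE a) (wordE [j]) := by
  simp only [fiveOkB, Bool.and_eq_true, List.all_eq_true, List.mem_range, Nat.blt_eq, Nat.beq_eq] at h
  obtain ⟨⟨hl, he⟩, hv⟩ := h
  have hcons : ∀ u, u < 240 → ∀ x ∈ u :: a, x < 240 := fun u hu x hx =>
    (List.mem_cons.1 hx).elim (fun e => e ▸ hu) (hl x)
  have happ : ∀ u, u < 240 → ∀ x ∈ a ++ [u], x < 240 := fun u hu x hx =>
    (List.mem_append.1 hx).elim (hl x) fun e => List.mem_singleton.1 e ▸ hu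
  refine ⟨hl, (wordE_mem_iff hl).2 (Nat.even_iff.2 he), ?_, ?_, ?_⟩
  · rw [show (5 : ℕ) = 1 + 1 + 1 + 1 + 1 from rfl, pow_add, pow_add, pow_add, pow_add, pow_one, ← wordE_append,
      ← wordE_append, ← wordE_append, ← wordE_append]
    refine wordE_eq (w := []) ?_ (by simp) fun x hx => (hv x hx).1.1
    simpa [or_assoc] using hl
  · show _ * _ = _ * _
    rw [← wordE_append, ← wordE_append]
    exact wordE_eq (happ i hi) (hcons i hi) fun x hx => (hv x hx).1.2
  · show _ * _ = _ * _
    rw [← wordE_append, ← wordE_append]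
    exact wordE_eq (happ j hj) (hcons j hj) fun x hx => (hv x hx).2

theorem frame_pair_five (j : Fin 8) (hj : j ≠ 0) : TwoInvol (Five2 MW (wordE rW) (frame j)) := by
  have hj1 : j.val ≠ 0 := fun e => hj (Fin.ext e)
  have h := pairFive_ok
  simp only [pairFiveB, Bool.and_eq_true, List.all_eq_true, List.any_eq_true, List.mem_range, Nat.blt_eq,
    Nat.beq_eq, Bool.not_eq_true'] at h
  obtain ⟨⟨hlen, hes⟩, hne⟩ := h (j.val - 1) (by omega)
  rw [show 2 * (j.val - 1 + 1) = 2 * j.val by omega] at hes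
  generalize Cert.pairFive.getD (j.val - 1) [] = es at hlen hes hne
  match es, hlen with
  | [e₀, e₁], _ =>
    have key : ∀ e ∈ [e₀, e₁], (∀ x ∈ e.1, x < 240) ∧ wordE e.1 ∈ Five2 MW (wordE rW) (frame j) ∧
        wordE e.1 * wordE e.1 = 1 ∧ wordE e.1 ≠ 1 := by
      intro e he
      obtain ⟨⟨⟨hl, hf⟩, hv⟩, x, hx, hx1⟩ := hes e he
      have hfl : ∀ x ∈ e.2.flatten, x < 240 := fun x hx => by
        obtain ⟨a, ha, hxa⟩ := List.mem_flatten.1 hx
        exact (five_mem (by norm_num) (by omega) (hf a ha)).1 x hxa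
      refine ⟨hl, ?_, ?_, fun h1 => ?_⟩
      · rw [wordE_eq hl hfl fun y hy => (hv y hy).1.symm]
        have hp : ∀ l : List (List ℕ), wordE l.flatten = (l.map wordE).prod := fun l => by
          induction l with
          | nil => rfl
          | cons a l ih => rw [List.flatten_cons, wordE_append, ih, List.map_cons, List.prod_cons]
        rw [hp]
        refine list_prod_mem fun g hg => ?_
        obtain ⟨a, ha, rfl⟩ := List.mem_map.1 hg
        obtain ⟨-, h1, h2, h3, h4⟩ := five_mem (by norm_num) (by omega) (hf a ha)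
        exact subset_closure ⟨h1, h2, h3, h4⟩
      · rw [← wordE_append]
        exact wordE_eq (w := []) (fun a ha => (List.mem_append.1 ha).elim (hl a) (hl a)) (by simp)
          fun y hy => (hv y hy).2
      · have e1 := wordE_val hl ⟨x, by omega⟩
        rw [h1] at e1
        exact Nat.ne_of_beq_eq_false hx1 e1.symm
    obtain ⟨l₀, m₀, q₀, n₀⟩ := key e₀ List.mem_cons_self
    obtain ⟨l₁, m₁, q₁, n₁⟩ := key e₁ (List.mem_cons_of_mem _ List.mem_cons_self)
    refine ⟨_, m₀, _, m₁, q₀, q₁, n₀, n₁, fun e => ?_⟩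
    obtain ⟨x, hx, hx1⟩ := hne
    simp only [List.getD_cons_zero, List.getD_cons_succ] at hx1
    have e1 := wordE_val l₀ ⟨x, by omega⟩
    rw [e, wordE_val l₁] at e1
    rw [beq_of_eq e1.symm] at hx1
    exact Bool.noConfusion hx1

theorem frame_complete (w : Fin 7 → W2) (hinj : Function.Injective w) (hr : ∀ i, MC MW (wordE rW) (w i))
    (hc : ∀ i j, Commute (w i) (w j)) :
    ∃ n ∈ MW, ∃ π : Fin 7 → Fin 8, Function.Injective π ∧ ∀ i, n * w i * n⁻¹ = frame (π i) := by
  have hs := steps_ok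
  simp only [stepsB, List.all_eq_true, Bool.and_eq_true, Nat.blt_eq] at hs
  have key : ∀ k ≤ 7, ∃ n ∈ MW, ∃ T ∈ stepKeys, T.length = k ∧
      ∀ i : Fin 7, i.val < k → n * w i * n⁻¹ = wordE [T.getD i.val 0] ∧ T.getD i.val 0 % 2 = 0 := by
    intro k
    induction k with
    | zero =>
      exact fun _ => ⟨1, one_mem _, [], by rw [stepKeys, List.mem_eraseDups]; exact List.mem_cons_self, rfl,
        fun i hi => absurd hi (Nat.not_lt_zero _)⟩
    | succ k ih =>
      intro hk
      obtain ⟨n, hn, T, hT, hlen, hi⟩ := ih (by omega)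
      obtain ⟨hTl, hstep⟩ := hs T hT
      rw [if_pos (by omega)] at hstep
      obtain ⟨m, hm, he⟩ := hr ⟨k, by omega⟩
      obtain ⟨b, hb, hwb⟩ := mc_refl (w := n * w ⟨k, by omega⟩ * n⁻¹)
        ⟨n * m, mul_mem hn hm, by rw [← he]; group⟩
      simp only [stepAtB, List.all_eq_true, List.mem_range, Bool.or_eq_true, Bool.not_eq_true', List.all_eq_false,
        Nat.beq_eq, List.any_eq_true, Bool.and_eq_true, beq_iff_eq, Nat.blt_eq, List.mem_filter] at hstep
      rcases hstep b hb with ⟨a, ha, hne⟩ | ⟨e, ⟨hef, -⟩, ⟨⟨hex, hel⟩, hev⟩, hec⟩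
      · exfalso
        obtain ⟨j, hj, rfl⟩ := List.getElem_of_mem ha
        obtain ⟨hw1, hpar⟩ := hi ⟨j, by omega⟩ (by show j < k; omega)
        simp only [List.getD_eq_getElem _ _ hj] at hw1 hpar
        have hlt := hTl _ ha
        rw [show T[j] = 2 * (T[j] / 2) by omega] at hw1 hne
        refine hne (line_orth (by omega) hb (fun e => ?_) ?_)
        · rw [e] at hw1
          have h2 := hinj (mul_left_cancel (mul_right_cancel (hw1.trans hwb.symm)))
          exact absurd (congrArg Fin.val h2) (by simp only; omega)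
        · rw [← hw1, ← hwb]
          exact (Commute.conj_iff n).2 (hc _ _)
      · refine ⟨wordE e.2.2.1 * n, mul_mem ((wordE_mem_iff hel).2 (Nat.even_iff.2 hev)) hn, e.2.2.2, ?_, ?_, ?_⟩
        · rw [stepKeys, List.mem_eraseDups]
          exact List.mem_cons_of_mem _ (List.mem_map.2 ⟨e, hef, rfl⟩)
        · rw [← hec, List.length_map, List.length_append, hlen]
          rfl
        · intro i hik
          have hsrc : ∃ a < 240, n * w i * n⁻¹ = wordE [a] ∧ (T ++ [2 * b]).getD i.val 0 = a := by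
            by_cases hlt : i.val < k
            · refine ⟨_, ?_, (hi i hlt).1, ?_⟩
              · rw [List.getD_eq_getElem _ _ (by omega)]
                exact hTl _ (List.getElem_mem _)
              · rw [List.getD_append _ _ _ _ (by omega)]
            · have hik' : i = ⟨k, by omega⟩ := Fin.ext (by show i.val = k; omega)
              refine ⟨2 * b, by omega, hik' ▸ hwb, ?_⟩
              rw [List.getD_append_right _ _ _ _ (by omega), show i.val - T.length = 0 by omega]
              rfl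
          obtain ⟨a, ha, hwa, hget⟩ := hsrc
          have hcv : e.2.2.2.getD i.val 0 = 2 * (evalW e.2.2.1 a / 2) := by
            rw [← hec, List.getD_eq_getElem _ _ (by simp [hlen]; omega), List.getElem_map,
              ← List.getD_eq_getElem _ 0 (by simp [hlen]; omega), hget]
          rw [hcv, show wordE e.2.2.1 * n * w i * (wordE e.2.2.1 * n)⁻¹ =
            wordE e.2.2.1 * (n * w i * n⁻¹) * (wordE e.2.2.1)⁻¹ by group, hwa, reflE_conj _ ha, wordE_val hel]
          exact ⟨rfl, by omega⟩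
  obtain ⟨n, hn, T, hT, hlen, hi⟩ := key 7 le_rfl
  obtain ⟨hTl, hlast⟩ := hs T hT
  rw [if_neg (by omega)] at hlast
  simp only [List.all_eq_true, Nat.blt_eq] at hlast
  have hb : ∀ i : Fin 7, T.getD i.val 0 < 16 := fun i => by
    rw [List.getD_eq_getElem _ _ (by omega)]
    exact hlast _ (List.getElem_mem _)
  have hfr : ∀ i : Fin 7, n * w i * n⁻¹ = frame ⟨T.getD i.val 0 / 2, by have := hb i; omega⟩ := fun i => by
    obtain ⟨e, hp⟩ := hi i i.isLt
    rw [e, frame]
    congr 2
    show T.getD i.val 0 = 2 * (T.getD i.val 0 / 2)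
    omega
  refine ⟨n, hn, fun i => ⟨T.getD i.val 0 / 2, by have := hb i; omega⟩, fun i j e => ?_, hfr⟩
  refine hinj (mul_left_cancel (a := n) (mul_right_cancel (b := n⁻¹) ?_))
  rw [hfr i, hfr j]
  exact congrArg frame e

theorem linVal_affine {σ : Fin 8 → Fin 8} (hσ : Affine σ) (x : Fin 8) :
    (σ x).val = (σ 0).val ^^^ linVal ((σ 1).val ^^^ (σ 0).val) ((σ 2).val ^^^ (σ 0).val)
      ((σ 4).val ^^^ (σ 0).val) x.val := by
  have h3 : (σ 3).val = (σ 1).val ^^^ (σ 2).val ^^^ (σ 0).val := hσ 1 2 0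
  have h5 : (σ 5).val = (σ 1).val ^^^ (σ 4).val ^^^ (σ 0).val := hσ 1 4 0
  have h6 : (σ 6).val = (σ 2).val ^^^ (σ 4).val ^^^ (σ 0).val := hσ 2 4 0
  have h7 : (σ 7).val = (σ 3).val ^^^ (σ 4).val ^^^ (σ 0).val := hσ 3 4 0
  have key : ∀ a b c d : Fin 8,
      d.val = d.val ^^^ linVal (a.val ^^^ d.val) (b.val ^^^ d.val) (c.val ^^^ d.val) 0 ∧
      a.val = d.val ^^^ linVal (a.val ^^^ d.val) (b.val ^^^ d.val) (c.val ^^^ d.val) 1 ∧
      b.val = d.val ^^^ linVal (a.val ^^^ d.val) (b.val ^^^ d.val) (c.val ^^^ d.val) 2 ∧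
      a.val ^^^ b.val ^^^ d.val = d.val ^^^ linVal (a.val ^^^ d.val) (b.val ^^^ d.val) (c.val ^^^ d.val) 3 ∧
      c.val = d.val ^^^ linVal (a.val ^^^ d.val) (b.val ^^^ d.val) (c.val ^^^ d.val) 4 ∧
      a.val ^^^ c.val ^^^ d.val = d.val ^^^ linVal (a.val ^^^ d.val) (b.val ^^^ d.val) (c.val ^^^ d.val) 5 ∧
      b.val ^^^ c.val ^^^ d.val = d.val ^^^ linVal (a.val ^^^ d.val) (b.val ^^^ d.val) (c.val ^^^ d.val) 6 ∧
      a.val ^^^ b.val ^^^ d.val ^^^ c.val ^^^ d.val =
        d.val ^^^ linVal (a.val ^^^ d.val) (b.val ^^^ d.val) (c.val ^^^ d.val) 7 := by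
    decide +kernel
  obtain ⟨k0, k1, k2, k3, k4, k5, k6, k7⟩ := key (σ 1) (σ 2) (σ 4) (σ 0)
  fin_cases x
  · exact k0
  · exact k1
  · exact k2
  · exact h3.trans k3
  · exact k4
  · exact h5.trans k5
  · exact h6.trans k6
  · exact (h7.trans (by rw [h3])).trans k7

theorem frame_realise (σ : Fin 8 → Fin 8) (hσ : Function.Bijective σ) (ha : Affine σ) :
    ∃ n ∈ MW, ∀ i, n * frame i * n⁻¹ = frame (σ i) := by
  have hr := realise_ok
  simp only [realiseB, List.all_eq_true, List.mem_range, Bool.or_eq_true, List.any_eq_true, Bool.and_eq_true,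
    Bool.not_eq_true', Nat.beq_eq, Nat.blt_eq, beq_iff_eq] at hr
  have hlt : ∀ x : Fin 8, (σ x).val ^^^ (σ 0).val < 8 := fun x =>
    Nat.xor_lt_two_pow (n := 3) (σ x).isLt (σ 0).isLt
  rcases hr _ (hlt 1) _ (hlt 2) _ (hlt 4) with ⟨x, hx, y, hy, hne, he⟩ | ⟨e, -, -, hd⟩
  · exfalso
    have h1 := linVal_affine ha ⟨x, hx⟩
    rw [show linVal _ _ _ x = linVal _ _ _ y from he, ← linVal_affine ha ⟨y, hy⟩] at h1
    have := hσ.1 (Fin.ext h1)
    rw [show x = y from congrArg Fin.val this] at hne
    simp at hne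
  · obtain ⟨⟨hl, hev⟩, hv⟩ := hd (σ 0).val (σ 0).isLt
    refine ⟨wordE _, (wordE_mem_iff hl).2 (Nat.even_iff.2 hev), fun i => ?_⟩
    rw [frame, reflE_conj _ (show 2 * i.val < 240 by omega), wordE_val hl, hv i.val i.isLt,
      ← linVal_affine ha i]
    rfl

theorem supp_mem {p i : ℕ} : i ∈ supp p ↔ i < 8 ∧ ip (2 * i) p ≠ 2 := by
  simp only [supp, List.mem_filter, List.mem_range, Bool.not_eq_true']
  refine and_congr_right fun _ => ⟨fun h e => ?_, fun h => ?_⟩
  · rw [beq_of_eq e] at h
    exact Bool.noConfusion h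
  · exact Bool.eq_false_iff.2 fun e => h (Nat.eq_of_beq_eq_true e)

theorem frame_affine (w : W2) (σ : Fin 8 → Fin 8)
    (h : ∀ i, w * frame i * w⁻¹ = frame (σ i) ∨ w * frame i * w⁻¹ = wordE tW * frame (σ i)) : Affine σ := by
  have hq := quad_ok
  simp only [quadB, noTwistB, Bool.and_eq_true, List.all_eq_true, List.mem_range, Bool.or_eq_true,
    List.any_eq_true, Bool.not_eq_true', Nat.beq_eq, beq_iff_eq] at hq
  obtain ⟨⟨hplane, hsum⟩, htw⟩ := hq
  have hline : ∀ i : Fin 8, (w.1 ⟨2 * i.val, by omega⟩).val / 2 = (σ i).val := by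
    intro i
    have e := reflE_conj w (show 2 * i.val < 240 by omega)
    rcases h i with h' | h'
    · rw [frame, frame, e] at h'
      by_contra hne
      exact line_ne (by omega) (by omega) hne h'
    · rw [frame, frame, e, ← wordE_append] at h'
      obtain ⟨x, hx, hx1⟩ := htw ((w.1 ⟨2 * i.val, by omega⟩).val / 2) (by omega) (σ i).val (σ i).isLt
      have e1 := wordE_val (w := [2 * ((w.1 ⟨2 * i.val, by omega⟩).val / 2)]) (by simp; omega) ⟨x, by omega⟩
      rw [h', wordE_val (w := tW ++ [2 * (σ i).val]) (fun a ha => (List.mem_append.1 ha).elim (tW_lt a)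
        fun e => by rw [List.mem_singleton.1 e]; omega)] at e1
      rw [beq_of_eq e1.symm] at hx1
      exact Bool.noConfusion hx1
  have hopp : ∀ i : Fin 8, w.1 ⟨2 * i.val + 1, by omega⟩ = (wordE tW).1 (w.1 ⟨2 * i.val, by omega⟩) := fun i => by
    have e := DFunLike.congr_fun (congrArg Subtype.val (tE_central w).eq) ⟨2 * i.val, by omega⟩
    rw [Subgroup.coe_mul, Subgroup.coe_mul, Equiv.Perm.mul_apply, Equiv.Perm.mul_apply] at e
    rw [e]
    refine congrArg _ (Fin.ext ?_)
    rw [tE_val]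
    show 2 * i.val + 1 = 2 * (2 * i.val / 2) + (1 - 2 * i.val % 2)
    omega
  have hinj : Function.Injective σ := by
    intro a b e
    have ea := hline a
    have eb := hline b
    rw [e] at ea
    rcases Nat.mod_two_eq_zero_or_one ((w.1 ⟨2 * a.val, by omega⟩).val) with p | p <;>
      rcases Nat.mod_two_eq_zero_or_one ((w.1 ⟨2 * b.val, by omega⟩).val) with q | q
    all_goals first
      | (have := w.1.injective (a₁ := ⟨2 * a.val, by omega⟩) (a₂ := ⟨2 * b.val, by omega⟩) (Fin.ext (by omega))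
         exact Fin.ext (by have := congrArg Fin.val this; simp only at this; omega))
      | (have := w.1.injective (a₁ := ⟨2 * a.val + 1, by omega⟩) (a₂ := ⟨2 * b.val, by omega⟩) (by
           rw [hopp a]; exact Fin.ext (by rw [tE_val]; omega))
         exact absurd (congrArg Fin.val this) (by simp only; omega))
  have hsupp : ∀ (p : Fin 240) (i : Fin 8), (σ i).val ∈ supp (w.1 p).val ↔ i.val ∈ supp p.val := by
    intro p i
    rw [supp_mem, supp_mem, and_iff_right (σ i).isLt, and_iff_right i.isLt]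
    rcases Nat.mod_two_eq_zero_or_one ((w.1 ⟨2 * i.val, by omega⟩).val) with q | q
    · rw [← ip_act w.2 ⟨2 * i.val, by omega⟩ p,
        show (w.1 ⟨2 * i.val, by omega⟩).val = 2 * (σ i).val by have := hline i; omega]
    · have e : (w.1 ⟨2 * i.val + 1, by omega⟩).val = 2 * (σ i).val := by
        rw [hopp i, tE_val]; have := hline i; omega
      have hop2 : ∀ j : Fin 8, ∀ p : Fin 240, (ip (2 * j.val + 1) p.val = 2 ↔ ip (2 * j.val) p.val = 2) := by
        decide +kernel
      rw [ne_eq, ne_eq, ← hop2 i p, ← ip_act w.2 ⟨2 * i.val + 1, by omega⟩ p, e]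
  intro a b c
  have hxlt : a.val ^^^ b.val ^^^ c.val < 8 :=
    Nat.xor_lt_two_pow (n := 3) (Nat.xor_lt_two_pow (n := 3) a.isLt b.isLt) c.isLt
  rw [show (⟨(a.val ^^^ b.val ^^^ c.val) % 8, Nat.mod_lt _ (by norm_num)⟩ : Fin 8) =
    ⟨a.val ^^^ b.val ^^^ c.val, hxlt⟩ from Fin.ext (Nat.mod_eq_of_lt hxlt)]
  by_cases hab : a = b
  · subst hab
    rw [show (⟨a.val ^^^ a.val ^^^ c.val, hxlt⟩ : Fin 8) = c from Fin.ext (by simp), Nat.xor_self, Nat.zero_xor]
  by_cases hac : a = c
  · subst hac
    rw [show (⟨a.val ^^^ b.val ^^^ a.val, hxlt⟩ : Fin 8) = b from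
      Fin.ext (by simp [Nat.xor_comm a.val b.val]),
      Nat.xor_comm (σ a).val (σ b).val, Nat.xor_assoc, Nat.xor_self, Nat.xor_zero]
  by_cases hbc : b = c
  · subst hbc
    rw [show (⟨a.val ^^^ b.val ^^^ b.val, hxlt⟩ : Fin 8) = a from Fin.ext (by simp),
      Nat.xor_assoc, Nat.xor_self, Nat.xor_zero]
  obtain ⟨p, hp, hps⟩ := (hplane a.val a.isLt b.val b.isLt c.val c.isLt).resolve_left
    (by rintro ((e | e) | e); exacts [hab (Fin.ext e), hac (Fin.ext e), hbc (Fin.ext e)])
  set d : Fin 8 := ⟨a.val ^^^ b.val ^^^ c.val, hxlt⟩ with hd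
  have hda : d ≠ a := fun e => hbc (Fin.ext (by
    have e' : a.val ^^^ b.val ^^^ c.val = a.val := congrArg Fin.val e
    rw [Nat.xor_assoc] at e'
    exact Nat.xor_eq_zero_iff.1 (Nat.xor_right_injective (x := a.val) (e'.trans (Nat.xor_zero _).symm))))
  have hdb : d ≠ b := fun e => hac (Fin.ext (by
    have e' : a.val ^^^ b.val ^^^ c.val = b.val := congrArg Fin.val e
    rw [Nat.xor_comm a.val b.val, Nat.xor_assoc] at e'
    exact Nat.xor_eq_zero_iff.1 (Nat.xor_right_injective (x := b.val) (e'.trans (Nat.xor_zero _).symm))))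
  have hdc : d ≠ c := fun e => hab (Fin.ext (by
    have e' : a.val ^^^ b.val ^^^ c.val = c.val := congrArg Fin.val e
    rw [Nat.xor_comm _ c.val] at e'
    exact Nat.xor_eq_zero_iff.1 (Nat.xor_right_injective (x := c.val) (e'.trans (Nat.xor_zero _).symm))))
  have hperm : (supp (w.1 ⟨p, hp⟩).val).Perm [(σ a).val, (σ b).val, (σ c).val, (σ d).val] := by
    refine (List.perm_ext_iff_of_nodup (show (supp (w.1 ⟨p, hp⟩).val).Nodup from (List.nodup_range).filter _) ?_).2
      fun v => ?_
    · simp [Fin.val_inj, hinj.eq_iff, hab, hac, hbc, hda.symm, hdb.symm, hdc.symm]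
    · constructor
      · intro hv
        obtain ⟨i, hi⟩ := (Finite.injective_iff_surjective.1 hinj) ⟨v, (supp_mem.1 hv).1⟩
        have hv' : v = (σ i).val := by rw [hi]
        rw [hv', hsupp, show supp p = _ from hps] at hv
        simp only [List.mem_filter, List.contains_iff_mem, List.mem_cons, List.not_mem_nil, or_false] at hv
        rw [hv']
        rcases hv.2 with e | e | e | e
        · simp [show i = a from Fin.ext e]
        · simp [show i = b from Fin.ext e]
        · simp [show i = c from Fin.ext e]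
        · simp [show i = d from Fin.ext e]
      · intro hv
        simp only [List.mem_cons, List.not_mem_nil, or_false] at hv
        rcases hv with rfl | rfl | rfl | rfl <;>
          (rw [hsupp, show supp p = _ from hps]; simp [d, hxlt])
  have hs := (hsum (w.1 ⟨p, hp⟩).val (Fin.isLt _)).resolve_left fun e => by
    rw [hperm.length_eq] at e
    simp at e
  rw [hperm.foldr_eq (f := (· ^^^ ·))] at hs
  simp only [List.foldr_cons, List.foldr_nil, Nat.xor_zero] at hs
  have key : ∀ x y z u : ℕ, x ^^^ (y ^^^ (z ^^^ u)) = 0 → u = x ^^^ y ^^^ z := fun x y z u e => by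
    rw [← Nat.xor_assoc, ← Nat.xor_assoc] at e
    exact (Nat.xor_eq_zero_iff.1 e).symm
  exact key _ _ _ _ hs

theorem frame_facts : Frame MW (wordE tW) (wordE sW) (wordE rW) frame where
  zero := rfl
  refl := frame_mc
  comm := frame_comm
  prod := frame_prod
  pair := frame_pair
  pair_five := frame_pair_five
  complete := frame_complete
  realise := frame_realise
  affine := frame_affine

end CfsgLib.OEightStd
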