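import Cfsg.Agent.Lib.OEightStd.Lift
import Cfsg.Agent.Lib.OEightStd.AffineCheck
import Cfsg.Prelude.Def_Local
import Cfsg.Prelude.Def_TwoFusion

/-!
# The central involution is isolated

An outer involution of reflection type in the class would move a frame of eight of its conjugates and the central
involution in a way not compatible with the affine structure of the frame; the other types fail on a commuting triple.
-/

set_option autoImplicit false

namespace CfsgLib.OEightStd

variable {W : Type*} [Group W] {M : Subgroup W} {t s qa qb R r k : W}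
variable {G : Type*} [Group G]

namespace Facts

variable (F : Facts M t s qa qb R r k)
include F

/-- Commuting modulo `t` reflections commute. -/
theorem refl_commute {v w : W} (hv : MC M r v) (hw : MC M r w) (h : v * w = w * v ∨ v * w = t * (w * v)) :
    Commute v w := by
  rcases h with h | h
  · exact h
  exfalso
  obtain ⟨m, hm, rfl⟩ := hv
  obtain ⟨n, hn, rfl⟩ := hw
  refine F.no_anti ((m⁻¹ * n) * r * (m⁻¹ * n)⁻¹) ⟨_, mul_mem (inv_mem hm) hn, rfl⟩ ?_
  set a := m * r * m⁻¹ with ha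
  set c := n * r * n⁻¹ with hc
  have e : r * ((m⁻¹ * n) * r * (m⁻¹ * n)⁻¹) = m⁻¹ * (a * c) * m := by rw [ha, hc]; group
  have h' : a * c * (a * c) = t := by
    nth_rw 1 [h]
    rw [show t * (c * a) * (a * c) = t * (c * (a * a) * c) by group,
      show a * a = m * (r * r) * m⁻¹ by rw [ha]; group, F.r2, mul_one, mul_inv_cancel, mul_one,
      show c * c = n * (r * r) * n⁻¹ by rw [hc]; group, F.r2, mul_one, mul_inv_cancel, mul_one]
  rw [e, show m⁻¹ * (a * c) * m * (m⁻¹ * (a * c) * m) = m⁻¹ * (a * c * (a * c)) * m by group, h', ← F.tc m⁻¹,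
    inv_mul_cancel_right]

theorem mc_sq {a c : W} (ha : a * a = 1) (h : MC M a c) : c * c = 1 := by
  obtain ⟨m, -, rfl⟩ := h
  rw [show m * a * m⁻¹ * (m * a * m⁻¹) = m * (a * a) * m⁻¹ by group, ha, mul_one, mul_inv_cancel]

end Facts

namespace Setting

variable {ι : M →* G} (D : Setting M t s qa qb R r k ι)

local notation "T" => io ι t
local notation "K" => Subgroup.centralizer (ι.range : Set G)
local notation "InX" => IsConj (io ι t)

/-- The image of a frame point or of the ninth point. -/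
noncomputable def pt (ι : M →* G) (t : W) (v : G) (r : W) (fr : Fin 8 → W) : Option (Fin 8) → G
  | none => io ι t
  | some i => lift ι v r (fr i)

variable {fr : Fin 8 → W}

include D

section

variable {v : G}

theorem pt_io (Fr : Frame M t s r fr) (B : Base M ι v r) {σ : Fin 8 → Fin 8} {n : W} (hn : n ∈ M)
    (h : ∀ i, n * fr i * n⁻¹ = fr (σ i)) (x : Option (Fin 8)) :
    io ι n * pt ι t v r fr x * (io ι n)⁻¹ = pt ι t v r fr (x.map σ) := by
  cases x with
  | none => show io ι n * T * (io ι n)⁻¹ = T; rw [(D.comm_T_io hn).eq, mul_inv_cancel_right]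
  | some i =>
    show io ι n * lift ι v r (fr i) * (io ι n)⁻¹ = lift ι v r (fr (σ i))
    rw [← h i, D.lift_mul B, D.lift_mul B, lift_in hn, lift_in (inv_mem hn), io_inv ι hn]

theorem affine_of_fix (Fr : Frame M t s r fr) (B : Base M ι v r) {f : G} {σ : Fin 8 → Fin 8}
    (h0 : f * pt ι t v r fr none * f⁻¹ = pt ι t v r fr none)
    (h : ∀ i, f * pt ι t v r fr (some i) * f⁻¹ = pt ι t v r fr (some (σ i))) : Affine σ := by
  obtain ⟨w, hw⟩ := D.act f (mul_inv_eq_iff_eq_mul.1 h0)
  refine Fr.affine w σ fun i => ?_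
  have h1 := D.acts_conj hw (D.acts_lift B (fr i))
  rw [show f * lift ι v r (fr i) * f⁻¹ = lift ι v r (fr (σ i)) from h i] at h1
  exact D.acts_unique h1 (D.acts_lift B (fr (σ i)))

end

variable [Finite G]

theorem not_q_of_r {a : W} (h : MC M s a) (hX : InX (io ι a)) : InX (io ι s) :=
  hX.trans (D.conj_io D.facts.s_mem h).symm

/-- The images of the frame. -/
theorem images (Fr : Frame M t s r fr) {v : G} (B : Base M ι v r) (hv : InX v) {g : G} (hg : g * v * g⁻¹ = T)
    (j : Fin 8) (hj : j ≠ 0) :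
    let y := g * lift ι v r (fr j) * g⁻¹
    InX y ∧ Commute y T ∧ (InX (T * y) ↔ InX (io ι s)) ∧ ∃ w, MC M r w ∧ Acts ι y w := by
  intro y
  have hM : fr 0 * fr j ∈ M := D.facts.mc_mem D.facts.s_mem (Fr.pair 0 j hj.symm)
  have hv0 : lift ι v r (fr 0) = v := by rw [Fr.zero, D.lift_base B]
  have hX : InX y := x_conj g (D.lift_x B hv (Fr.refl j))
  have hc : Commute y T := by
    have := (D.lift_commute B (Fr.comm j 0)).conj g
    rwa [hv0, hg] at this
  have hprod : T * y = g * io ι (fr 0 * fr j) * g⁻¹ := by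
    rw [← hg, ← D.lift_mem B hM, hv0]; simp only [y]; group
  have hTy : InX (T * y) ↔ InX (io ι s) := by
    rw [hprod]
    refine ⟨fun h => ?_, fun h => x_conj g (h.trans (D.conj_io D.facts.s_mem (Fr.pair 0 j hj.symm)))⟩
    exact h.trans ((isConj_iff.2 ⟨g, rfl⟩).symm.trans (D.conj_io D.facts.s_mem (Fr.pair 0 j hj.symm)).symm)
  have hne : y ≠ T := fun e => by
    rw [e, D.tt] at hprod
    obtain ⟨m, -, hm⟩ := Fr.pair 0 j hj.symm
    have h1 : fr 0 * fr j = 1 := D.io_inj hM (one_mem M) ((conj_eq_one_iff.1 hprod.symm).trans (io_one ι).symm)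
    rw [h1] at hm
    exact D.facts.s_ne (conj_eq_one_iff.1 hm)
  refine ⟨hX, hc, hTy, ?_⟩
  obtain ⟨u₁, hu₁, u₂, hu₂, e1, e2, n1, n2, n12⟩ := Fr.pair_five j hj
  have hin : ∀ {u}, u ∈ Five2 M r (fr j) → g * io ι u * g⁻¹ ∈ Gam T y := fun {u} hu => by
    have := conj_gam g (D.io_gam (a := v) (b := lift ι v r (fr j)) _ rfl (fun x hx => ⟨hx.1, hx.2.1,
      by
        have := D.lift_commute B hx.2.2.1
        rwa [lift_in hx.1, D.lift_base B] at this,
      by
        have := D.lift_commute B hx.2.2.2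
        rwa [lift_in hx.1] at this⟩) hu)
    rwa [hg] at this
  have hm : ∀ {u}, u ∈ Five2 M r (fr j) → u ∈ M := fun h => five2_le _ _ h
  rcases D.two_type hX hc hne ⟨_, hin hu₁, _, hin hu₂,
      by rw [show g * io ι u₁ * g⁻¹ * (g * io ι u₁ * g⁻¹) = g * (io ι u₁ * io ι u₁) * g⁻¹ by group,
        ← io_mul ι (hm hu₁) (hm hu₁), e1, io_one, mul_one, mul_inv_cancel],
      by rw [show g * io ι u₂ * g⁻¹ * (g * io ι u₂ * g⁻¹) = g * (io ι u₂ * io ι u₂) * g⁻¹ by group,
        ← io_mul ι (hm hu₂) (hm hu₂), e2, io_one, mul_one, mul_inv_cancel],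
      fun e => n1 (D.io_inj (hm hu₁) (one_mem M) ((conj_eq_one_iff.1 e).trans (io_one ι).symm)),
      fun e => n2 (D.io_inj (hm hu₂) (one_mem M) ((conj_eq_one_iff.1 e).trans (io_one ι).symm)),
      fun e => n12 (D.io_inj (hm hu₁) (hm hu₂) (mul_left_cancel (mul_right_cancel e)))⟩ with
    ⟨a, ha, e, hmc⟩ | h
  · exfalso
    have hs : InX (io ι s) := (e ▸ hX).trans (D.conj_io D.facts.s_mem hmc).symm
    have := hTy.2 hs
    rw [e, D.tmul ha] at this
    exact D.no_ts (D.facts.mc_t hmc) this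
  · exact h

/-- No element of reflection type. -/
theorem no_r (Fr : Frame M t s r fr) {y₀ : G} {w₀ : W} (hy₀ : InX y₀) (hw₀ : MC M r w₀) :
    ¬ Acts ι y₀ w₀ := by
  intro hact
  obtain ⟨v, hv, B, -⟩ := D.exists_base hy₀ hw₀ D.facts.r2 D.facts.r_out hact
  have hv0 : lift ι v r (fr 0) = v := by rw [Fr.zero, D.lift_base B]
  obtain ⟨g₀, hg₀⟩ := isConj_iff.1 hv.symm
  obtain ⟨-, -, -, w₁, ⟨m, hm, rfl⟩, hw₁⟩ := D.images Fr B hv hg₀ 1 (by decide)
  -- normalise the first image
  let g := io ι m⁻¹ * g₀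
  have hg : g * v * g⁻¹ = T := by
    rw [show g * v * g⁻¹ = io ι m⁻¹ * (g₀ * v * g₀⁻¹) * (io ι m⁻¹)⁻¹ by simp only [g]; group, hg₀,
      (D.comm_T_io (inv_mem hm)).eq, mul_inv_cancel_right]
  let U : Fin 8 → G := fun i => g * lift ι v r (fr i) * g⁻¹
  let V := U 1
  have hVX : InX V := (D.images Fr B hv hg 1 (by decide)).1
  have B' : Base M ι V r := by
    refine ⟨?_, D.x_sq hVX, D.facts.r2, D.facts.r_out⟩
    have h := D.acts_conj (acts_io (ι := ι) (inv_mem hm)) hw₁
    rw [show m⁻¹ * (m * r * m⁻¹) * m⁻¹⁻¹ = r by group,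
      show io ι m⁻¹ * (g₀ * lift ι v r (fr 1) * g₀⁻¹) * (io ι m⁻¹)⁻¹ = V by simp only [V, U, g]; group] at h
    exact h
  have himg : ∀ j : Fin 7, ∃ w, MC M r w ∧ Acts ι (U j.succ) w ∧ (j = 0 → w = r) := fun j => by
    obtain ⟨-, -, -, w, hw, hw'⟩ := D.images Fr B hv hg j.succ (Fin.succ_ne_zero j)
    by_cases hj : j = 0
    · subst hj
      exact ⟨r, ⟨1, one_mem _, by group⟩, B'.acts, fun _ => rfl⟩
    · exact ⟨w, hw, hw', fun h => absurd h hj⟩
  choose w hw hwa hw0 using himg
  -- the actions commute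
  have hcomm : ∀ i j, Commute (w i) (w j) := fun i j => by
    refine D.facts.refl_commute (hw i) (hw j) ?_
    have h1 := D.acts_mul (hwa i) (hwa j)
    have hUc : Commute (U i.succ) (U j.succ) := (D.lift_commute B (Fr.comm _ _)).conj g
    rw [hUc.eq] at h1
    exact D.acts_unique h1 (D.acts_mul (hwa j) (hwa i))
  have hU2 : ∀ j, U j * U j = 1 := fun j => by
    show g * lift ι v r (fr j) * g⁻¹ * (g * lift ι v r (fr j) * g⁻¹) = 1
    rw [show g * lift ι v r (fr j) * g⁻¹ * (g * lift ι v r (fr j) * g⁻¹) =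
      g * (lift ι v r (fr j) * lift ι v r (fr j)) * g⁻¹ by group, ← D.lift_mul B,
      D.facts.mc_sq D.facts.r2 (Fr.refl j), D.lift_one B, mul_one, mul_inv_cancel]
  have hw2 : ∀ j, w j * w j = 1 := fun j => D.facts.mc_sq D.facts.r2 (hw j)
  have hout : ∀ j, w j ∉ M := fun j => D.facts.mc_out D.facts.r_out (hw j)
  -- the images are lifts, up to `T`
  have hsign : ∀ j, U j.succ = lift ι V r (w j) ∨ U j.succ = T * lift ι V r (w j) := fun j => by
    set L := lift ι V r (w j)
    have hL2 : L * L = 1 := by rw [← D.lift_mul B', hw2, D.lift_one B']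
    obtain ⟨x, hx, hxe⟩ := D.inner_eq (one_mem M) (hw2 j ▸ D.acts_mul (hwa j) (D.acts_lift B' (w j)))
    rw [io_one, one_mul] at hxe
    have hcomm' : Commute (U j.succ) L := by
      have h0 := hcomm 0 j
      rw [hw0 0 rfl] at h0
      have hLe : L = io ι (w j * r) * V := lift_out (hout j)
      have hV : Commute (U j.succ) V := (D.lift_commute B (Fr.comm _ _)).conj g
      have hio : Commute (U j.succ) (io ι (w j * r)) := by
        refine mul_inv_eq_iff_eq_mul.1 ?_
        rw [hwa j _ (D.facts.out_mul _ _ (hout j) D.facts.r_out)]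
        congr 1
        rw [← mul_assoc (w j) (w j), hw2, one_mul, inv_eq_of_mul_eq_one_right (hw2 j), h0.eq]
      rw [hLe]; exact hio.mul_right hV
    have hx2 : x * x = 1 := by
      rw [← hxe, hcomm'.symm.mul_mul_mul_comm, hU2, hL2, mul_one]
    rcases D.invol_K hx hx2 with rfl | rfl
    · exact Or.inl (by rw [← mul_one (U j.succ), ← hL2, ← mul_assoc, hxe, one_mul])
    · exact Or.inr (by rw [← hxe, mul_assoc, hL2, mul_one])
  -- the actions are distinct
  have hinj : Function.Injective w := fun i j e => by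
    by_contra hij
    have hij' : (i.succ : Fin 8) ≠ j.succ := fun h => hij (Fin.succ_injective _ h)
    have hM : fr i.succ * fr j.succ ∈ M := D.facts.mc_mem D.facts.s_mem (Fr.pair _ _ hij')
    have hprod : U i.succ * U j.succ = g * io ι (fr i.succ * fr j.succ) * g⁻¹ := by
      rw [← D.lift_mem B hM]; simp only [U]; group
    have hne : fr i.succ * fr j.succ ≠ 1 := fun h => by
      obtain ⟨n, -, hn⟩ := Fr.pair _ _ hij'
      rw [h] at hn; exact D.facts.s_ne (conj_eq_one_iff.1 hn)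
    have h1 : U i.succ * U j.succ = 1 ∨ U i.succ * U j.succ = T := by
      have hL2 : lift ι V r (w j) * lift ι V r (w j) = 1 := by rw [← D.lift_mul B', hw2, D.lift_one B']
      have hT' : T * lift ι V r (w j) = lift ι V r (w j) * T := (D.comm_of_acts (D.acts_lift B' (w j))).eq.symm
      rcases hsign i with a | a <;> rcases hsign j with c | c <;> rw [a, c, e]
      · exact Or.inl hL2
      · exact Or.inr (by rw [← mul_assoc, ← hT', mul_assoc, hL2, mul_one])
      · exact Or.inr (by rw [mul_assoc, hL2, mul_one])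
      · exact Or.inl (by rw [show ∀ a b : G, a * b * (a * b) = a * (b * a) * b from fun a b => by group,
          ← hT', ← mul_assoc, D.tt, one_mul, hL2])
    rw [hprod] at h1
    rcases h1 with h1 | h1
    · exact hne (D.io_inj hM (one_mem M) ((conj_eq_one_iff.1 h1).trans (io_one ι).symm))
    · have hv' : v = io ι (fr i.succ * fr j.succ) := mul_left_cancel (mul_right_cancel (hg.trans h1.symm))
      rcases D.acts_unique B.acts (hv' ▸ acts_io hM) with e' | e'
      · exact D.facts.r_out (e' ▸ hM)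
      · exact D.facts.r_out (e' ▸ mul_mem D.facts.t_mem hM)
  obtain ⟨n, hn, π, hπ, hnπ⟩ := Fr.complete w hinj hw hcomm
  -- the signs vanish
  have heq : ∀ j, U j.succ = lift ι V r (w j) := fun j => by
    rcases hsign j with h | h
    · exact h
    exfalso
    have hs : InX (io ι s) := by
      refine (D.images Fr B hv hg j.succ (Fin.succ_ne_zero j)).2.2.1.1 ?_
      show InX (T * U j.succ)
      rw [h, ← mul_assoc, D.tt, one_mul]
      exact D.lift_x B' hVX (hw j)
    by_cases hj : j = 0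
    · subst hj
      have hV1 : U (Fin.succ 0) = V := rfl
      rw [hw0 0 rfl, D.lift_base B', hV1] at h
      exact D.tne (mul_eq_right.1 h.symm)
    · have hm' : MC M s (r * w j) := by
        obtain ⟨n', hn', hn''⟩ := Fr.pair _ _ (hπ.ne (Ne.symm hj) : π 0 ≠ π j)
        refine ⟨n⁻¹ * n', mul_mem (inv_mem hn) hn', ?_⟩
        rw [show n⁻¹ * n' * s * (n⁻¹ * n')⁻¹ = n⁻¹ * (n' * s * n'⁻¹) * n by group, hn'', ← hnπ, ← hnπ, hw0 0 rfl]
        group
      have h01 : (1 : Fin 8) ≠ j.succ := fun e => hj (Fin.succ_injective _ (show (Fin.succ 0 : Fin 8) = j.succ from e)).symm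
      have hX' : InX (V * U j.succ) := by
        have e : V * U j.succ = g * io ι (fr 1 * fr j.succ) * g⁻¹ := by
          rw [← D.lift_mem B (D.facts.mc_mem D.facts.s_mem (Fr.pair _ _ h01))]; simp only [V, U]; group
        rw [e]
        exact x_conj g (hs.trans (D.conj_io D.facts.s_mem (Fr.pair _ _ h01)))
      have e : V * U j.succ = io ι (t * (r * w j)) := by
        rw [h, ← mul_assoc, show V * T = T * V from (D.comm_of_acts B'.acts).eq, mul_assoc,
          io_mul ι D.facts.t_mem (D.facts.mc_mem D.facts.s_mem hm'), ← D.lift_mem B' (D.facts.mc_mem D.facts.s_mem hm'),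
          D.lift_base B']
      exact D.no_ts (D.facts.mc_t hm') (e ▸ hX')
  -- the configuration
  obtain ⟨m₀, hm₀⟩ : ∃ m₀, ∀ i, π i ≠ m₀ := by
    by_contra hno
    push_neg at hno
    simpa using Fintype.card_le_of_surjective π hno
  set P₀ : Fin 8 → Fin 8 := Fin.cons m₀ π with hP₀
  have hP₀b : Function.Bijective P₀ := Finite.injective_iff_bijective.1
    (Fin.cons_injective_iff.2 ⟨fun ⟨i, hi⟩ => hm₀ i hi, hπ⟩)
  let g₂ := io ι n * g
  have hg2s : ∀ i : Fin 7, g₂ * lift ι v r (fr i.succ) * g₂⁻¹ = lift ι V r (fr (π i)) := fun i => by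
    rw [show g₂ * lift ι v r (fr i.succ) * g₂⁻¹ = io ι n * U i.succ * (io ι n)⁻¹ by simp only [g₂, U]; group,
      heq i, ← hnπ i, D.lift_mul B', D.lift_mul B', lift_in hn, lift_in (inv_mem hn), io_inv ι hn]
  have hg20 : g₂ * lift ι v r (fr 0) * g₂⁻¹ = T := by
    rw [hv0, show g₂ * v * g₂⁻¹ = io ι n * (g * v * g⁻¹) * (io ι n)⁻¹ by simp only [g₂]; group, hg,
      (D.comm_T_io hn).eq, mul_inv_cancel_right]
  have hg2T : g₂ * T * g₂⁻¹ = lift ι V r (fr m₀) := by
    have hprod : (List.ofFn fun i => fr (π i)).prod = fr m₀ * t := by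
      have hperm : (List.ofFn (fr ∘ P₀)).prod = t := by
        refine Eq.trans ?_ Fr.prod
        exact List.Perm.prod_eq' (Equiv.Perm.ofFn_comp_perm (Equiv.ofBijective P₀ hP₀b) fr)
          (List.pairwise_ofFn.2 fun i j _ => Fr.comm _ _)
      rw [List.ofFn_succ, List.prod_cons] at hperm
      have e : (fun i : Fin 7 => (fr ∘ P₀) i.succ) = fun i => fr (π i) := funext fun i => by simp [hP₀]
      rw [e, show (fr ∘ P₀) 0 = fr m₀ from rfl] at hperm
      conv_rhs => rw [← hperm]
      rw [← mul_assoc, D.facts.mc_sq D.facts.r2 (Fr.refl m₀), one_mul]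
    have hT : T = lift ι v r (fr 0) * ((List.ofFn fun i : Fin 7 => fr i.succ).map (lift ι v r)).prod := by
      rw [← lift_in (ι := ι) (v := v) (b := r) D.facts.t_mem]
      conv_lhs => rw [← Fr.prod, List.ofFn_succ, List.prod_cons, D.lift_mul B, D.lift_prod B]
    rw [hT, show g₂ * (lift ι v r (fr 0) * ((List.ofFn fun i : Fin 7 => fr i.succ).map (lift ι v r)).prod) * g₂⁻¹ =
      g₂ * lift ι v r (fr 0) * g₂⁻¹ * MulAut.conj g₂ ((List.ofFn fun i : Fin 7 => fr i.succ).map (lift ι v r)).prod by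
        rw [MulAut.conj_apply]; group, hg20, map_list_prod, List.map_map, List.map_ofFn,
      show ((⇑(MulAut.conj g₂) ∘ lift ι v r) ∘ fun i : Fin 7 => fr i.succ) = lift ι V r ∘ fun i => fr (π i) from
        funext fun i => hg2s i,
      ← List.map_ofFn, ← D.lift_prod B', hprod, D.lift_mul B', lift_in D.facts.t_mem, ← mul_assoc,
      ← (D.comm_of_acts (D.acts_lift B' (fr m₀))).eq, mul_assoc, D.tt, mul_one]
  -- move the missing point to the origin
  obtain ⟨haff, hmm, -⟩ := addPt_affine m₀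
  obtain ⟨n₃, hn₃, hn₃f⟩ := Fr.realise _ (addPt_bijective m₀) haff
  let e : Equiv.Perm (Fin 8) := Equiv.ofBijective (addPt m₀ ∘ P₀) ((addPt_bijective m₀).comp hP₀b)
  have he0 : e 0 = 0 := hmm
  have hcfg : ∃ h : G, h * T * h⁻¹ = pt ι t V r fr (some 0) ∧
      h * pt ι t v r fr (some 0) * h⁻¹ = T ∧
      ∀ i, i ≠ 0 → h * pt ι t v r fr (some i) * h⁻¹ = pt ι t V r fr (some (e i)) := by
    refine ⟨io ι n₃ * g₂, ?_, ?_, fun i hi => ?_⟩
    · rw [show io ι n₃ * g₂ * T * (io ι n₃ * g₂)⁻¹ = io ι n₃ * (g₂ * T * g₂⁻¹) * (io ι n₃)⁻¹ by group, hg2T]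
      have := D.pt_io Fr B' hn₃ hn₃f (some m₀)
      rw [Option.map_some, hmm] at this
      exact this
    · show io ι n₃ * g₂ * lift ι v r (fr 0) * (io ι n₃ * g₂)⁻¹ = T
      rw [show io ι n₃ * g₂ * lift ι v r (fr 0) * (io ι n₃ * g₂)⁻¹ =
        io ι n₃ * (g₂ * lift ι v r (fr 0) * g₂⁻¹) * (io ι n₃)⁻¹ by group, hg20, (D.comm_T_io hn₃).eq,
        mul_inv_cancel_right]
    · obtain ⟨j, rfl⟩ := Fin.exists_succ_eq.2 hi
      show io ι n₃ * g₂ * lift ι v r (fr j.succ) * (io ι n₃ * g₂)⁻¹ = _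
      rw [show io ι n₃ * g₂ * lift ι v r (fr j.succ) * (io ι n₃ * g₂)⁻¹ =
        io ι n₃ * (g₂ * lift ι v r (fr j.succ) * g₂⁻¹) * (io ι n₃)⁻¹ by group, hg2s]
      exact D.pt_io Fr B' hn₃ hn₃f (some (π j))
  obtain ⟨h, hT, h0, hi⟩ := hcfg
  -- a linear map conjugated back is affine
  have hlin : Affine e := by
    rcases affine_or e he0 with ha | ⟨σ, hσ, hna⟩
    · exact ha
    exfalso
    have hσ' : Affine σ ∧ Function.Bijective σ ∧ σ 0 = 0 := by
      rcases hσ with rfl | rfl
      exacts [⟨lin_ok.1, lin_ok.2.2.1, lin_ok.2.2.2.2.1⟩, ⟨lin_ok.2.1, lin_ok.2.2.2.1, lin_ok.2.2.2.2.2⟩]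
    obtain ⟨nσ, hnσ, hnσf⟩ := Fr.realise σ hσ'.2.1 hσ'.1
    have hpt := D.pt_io Fr B' hnσ hnσf
    refine hna (D.affine_of_fix Fr B (f := h⁻¹ * io ι nσ * h) ?_ fun i => ?_)
    · show h⁻¹ * io ι nσ * h * T * (h⁻¹ * io ι nσ * h)⁻¹ = T
      rw [show h⁻¹ * io ι nσ * h * T * (h⁻¹ * io ι nσ * h)⁻¹ =
        h⁻¹ * (io ι nσ * (h * T * h⁻¹) * (io ι nσ)⁻¹) * h by group, hT, hpt, Option.map_some, hσ'.2.2, ← hT]
      group
    · rw [show h⁻¹ * io ι nσ * h * pt ι t v r fr (some i) * (h⁻¹ * io ι nσ * h)⁻¹ =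
        h⁻¹ * (io ι nσ * (h * pt ι t v r fr (some i) * h⁻¹) * (io ι nσ)⁻¹) * h by group]
      by_cases hi0 : i = 0
      · subst hi0
        rw [h0, show io ι nσ * T * (io ι nσ)⁻¹ = T by rw [(D.comm_T_io hnσ).eq, mul_inv_cancel_right],
          show (e.symm ∘ σ ∘ e) 0 = 0 by simp [he0, hσ'.2.2, Equiv.symm_apply_eq], ← h0]
        group
      · have hne : e.symm (σ (e i)) ≠ 0 := fun h' => hi0 (by
          have h'' : σ (e i) = σ 0 := by
            have := congrArg e h'
            rw [Equiv.apply_symm_apply, he0] at this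
            rw [this, hσ'.2.2]
          exact e.injective ((hσ'.2.1.1 h'').trans he0.symm))
        rw [hi i hi0, hpt, Option.map_some,
          show pt ι t V r fr (some (σ (e i))) = pt ι t V r fr (some (e (e.symm (σ (e i))))) by
            rw [Equiv.apply_symm_apply], ← hi _ hne, Function.comp_apply, Function.comp_apply]
        group
  -- undo it
  have hsymm : Affine e.symm := fun a b c => by
    have key := hlin (e.symm a) (e.symm b) (e.symm c)
    simp only [Equiv.apply_symm_apply] at key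
    have hlt : a.val ^^^ b.val ^^^ c.val < 8 :=
      Nat.xor_lt_two_pow (n := 3) (Nat.xor_lt_two_pow (n := 3) a.2 b.2) c.2
    have hlt' : (e.symm a).val ^^^ (e.symm b).val ^^^ (e.symm c).val < 8 :=
      Nat.xor_lt_two_pow (n := 3) (Nat.xor_lt_two_pow (n := 3) (e.symm a).2 (e.symm b).2) (e.symm c).2
    simp only [Nat.mod_eq_of_lt hlt, Nat.mod_eq_of_lt hlt'] at key ⊢
    have h2 : e ⟨_, hlt'⟩ = ⟨_, hlt⟩ := Fin.ext key
    rw [← h2, Equiv.symm_apply_apply]
  obtain ⟨n₄, hn₄, hn₄f⟩ := Fr.realise _ e.symm.bijective hsymm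
  have hes : e.symm 0 = 0 := by rw [Equiv.symm_apply_eq, he0]
  let h₂ := io ι n₄ * h
  have htau : ∀ x, h₂ * pt ι t v r fr x * h₂⁻¹ = pt ι t V r fr (tau x) := fun x => by
    rw [show h₂ * pt ι t v r fr x * h₂⁻¹ = io ι n₄ * (h * pt ι t v r fr x * h⁻¹) * (io ι n₄)⁻¹ by
      simp only [h₂]; group]
    cases x with
    | none =>
      rw [show pt ι t v r fr none = T from rfl, hT, D.pt_io Fr B' hn₄ hn₄f, Option.map_some, hes]
      rfl
    | some i =>
      by_cases hi0 : i = 0
      · subst hi0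
        rw [h0, (D.comm_T_io hn₄).eq, mul_inv_cancel_right]
        rfl
      · rw [hi i hi0, D.pt_io Fr B' hn₄ hn₄f, Option.map_some, Equiv.symm_apply_apply, tau, if_neg hi0]
  have hback : ∀ x, h₂⁻¹ * pt ι t V r fr x * h₂ = pt ι t v r fr (tau x) := fun x => by
    have hinv : tau (tau x) = x := (by decide : ∀ x, tau (tau x) = x) x
    conv_lhs => rw [← hinv, ← htau]
    group
  obtain ⟨hX, hY, hF, hXb, hYb⟩ := word_maps
  obtain ⟨nX, hnX, hnXf⟩ := Fr.realise _ hXb hX
  obtain ⟨nY, hnY, hnYf⟩ := Fr.realise _ hYb hY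
  have hstep : ∀ x, h₂⁻¹ * io ι nX * h₂ * io ι nY * h₂⁻¹ * io ι nX * h₂ * pt ι t v r fr x *
      (h₂⁻¹ * io ι nX * h₂ * io ι nY * h₂⁻¹ * io ι nX * h₂)⁻¹ =
      pt ι t v r fr (tau ((tau ((tau ((tau x).map wordX)).map wordY)).map wordX)) := fun x => by
    rw [← hback, ← D.pt_io Fr B' hnX hnXf, ← htau, ← D.pt_io Fr B hnY hnYf, ← hback, ← D.pt_io Fr B' hnX hnXf,
      ← htau]
    group
  refine hF (D.affine_of_fix Fr B (f := h₂⁻¹ * io ι nX * h₂ * io ι nY * h₂⁻¹ * io ι nX * h₂) ?_ fun i => ?_)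
  · rw [hstep, word_ok.1]
  · rw [hstep, word_ok.2]

/-- Two commuting triples. -/
theorem triple {a b c : G} (Fr : Frame M t s r fr) (ha : InX a) (hb : InX b) (hc : InX c) (hab : Commute a b)
    (hac : Commute a c) (hbc : Commute b c) (nab : a ≠ b) (nac : a ≠ c) (nbc : b ≠ c) (cab : ¬ InX (a * b))
    (cac : ¬ InX (a * c)) : InX (b * c) ↔ InX (a * b * c) := by
  obtain ⟨g, hg⟩ := isConj_iff.1 ha.symm
  set y := g * b * g⁻¹ with hy
  set z := g * c * g⁻¹ with hz
  have hyX : InX y := x_conj g hb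
  have hzX : InX z := x_conj g hc
  have hyT : Commute y T := by
    have := hab.symm.conj g; rwa [hg] at this
  have hzT : Commute z T := by
    have := hac.symm.conj g; rwa [hg] at this
  have hyne : y ≠ T := fun e => nab (mul_left_cancel (mul_right_cancel (hg.trans e.symm)))
  have hzne : z ≠ T := fun e => nac (mul_left_cancel (mul_right_cancel (hg.trans e.symm)))
  have hTy : T * y = g * (a * b) * g⁻¹ := by rw [← hg, hy]; group
  have hTz : T * z = g * (a * c) * g⁻¹ := by rw [← hg, hz]; group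
  have hyz : y * z = g * (b * c) * g⁻¹ := by rw [hy, hz]; group
  have hTyz : T * (y * z) = g * (a * b * c) * g⁻¹ := by rw [← hg, hyz]; group
  have hiff : ∀ x : G, InX (g * x * g⁻¹) ↔ InX x := fun x =>
    ⟨fun h => h.trans (isConj_iff.2 ⟨g, rfl⟩).symm, fun h => x_conj g h⟩
  have houter : ∀ {x}, InX x → Commute x T → x ≠ T → ¬ InX (T * x) → ∃ w, w ∉ M ∧ Acts ι x w := by
    intro x hx hxT hxne hcol
    rcases D.cases_x hx hxT hxne with ⟨e, he, rfl, hcl⟩ | ⟨w, hw, hwx⟩
    · exfalso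
      rcases hcl with h | h | h | h
      · obtain ⟨y', w', hy', -, hw', hact, -⟩ := D.s_gives_r (hx.trans (D.conj_io D.facts.s_mem h).symm)
        exact D.no_r Fr hy' hw' hact
      · exact D.no_ts h hx
      · refine hcol ?_
        rw [D.tmul he]
        exact hx.trans ((D.conj_io D.facts.qa_mem h).symm.trans ((D.conj_io D.facts.qa_mem D.facts.qa_twist).trans
          (D.conj_io (mul_mem D.facts.t_mem D.facts.qa_mem) (D.facts.mc_t h))))
      · refine hcol ?_
        rw [D.tmul he]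
        exact hx.trans ((D.conj_io D.facts.qb_mem h).symm.trans ((D.conj_io D.facts.qb_mem D.facts.qb_twist).trans
          (D.conj_io (mul_mem D.facts.t_mem D.facts.qb_mem) (D.facts.mc_t h))))
    · refine ⟨w, ?_, hwx⟩
      rcases hw with h | h
      exacts [D.facts.mc_out D.facts.r_out h, D.facts.mc_out D.facts.k_out h]
  obtain ⟨wy, hwy, hay⟩ := houter hyX hyT hyne (fun h => cab ((hiff _).1 (hTy ▸ h)))
  obtain ⟨wz, hwz, haz⟩ := houter hzX hzT hzne (fun h => cac ((hiff _).1 (hTz ▸ h)))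
  have hyzne : y * z ≠ T := fun e => cab ((hiff _).1 (by
    rw [← hTy]
    have : T * y = z := by
      rw [← hyT.eq, ← e, ← mul_assoc, D.x_sq hyX, one_mul]
    rw [this]; exact hzX))
  have hyz1 : y * z ≠ 1 := fun e => nbc (mul_left_cancel (mul_right_cancel
    (show g * b * g⁻¹ = g * c * g⁻¹ from (eq_inv_of_mul_eq_one_left e).trans
      (inv_eq_of_mul_eq_one_right (D.x_sq hzX)))))
  have hyzc : Commute y z := hbc.conj g
  have hTyz1 : T * (y * z) ≠ T := fun e => hyz1 (mul_eq_left.1 e)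
  have hsq : y * z * (y * z) = 1 := by rw [hyzc.symm.mul_mul_mul_comm, D.x_sq hyX, D.x_sq hzX, mul_one]
  rw [← hiff (b * c), ← hiff (a * b * c), ← hyz, ← hTyz]
  -- an inner involution in the class is twisted by `T`
  have key : ∀ {x : G} {e : W}, e ∈ M → Acts ι x e → InX x → x ≠ T → InX (T * x) := by
    intro x e he hact hx hxne
    rcases D.cases_x hx (D.comm_of_acts hact) hxne with ⟨d, hd, rfl, hcl⟩ | ⟨w, hw, hwx⟩
    · rw [D.tmul hd]
      rcases hcl with h | h | h | h
      · exfalso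
        obtain ⟨y', w', hy', -, hw', hact', -⟩ := D.s_gives_r (hx.trans (D.conj_io D.facts.s_mem h).symm)
        exact D.no_r Fr hy' hw' hact'
      · exact absurd hx (D.no_ts h)
      · exact hx.trans ((D.conj_io D.facts.qa_mem h).symm.trans ((D.conj_io D.facts.qa_mem D.facts.qa_twist).trans
          (D.conj_io (mul_mem D.facts.t_mem D.facts.qa_mem) (D.facts.mc_t h))))
      · exact hx.trans ((D.conj_io D.facts.qb_mem h).symm.trans ((D.conj_io D.facts.qb_mem D.facts.qb_twist).trans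
          (D.conj_io (mul_mem D.facts.t_mem D.facts.qb_mem) (D.facts.mc_t h))))
    · exfalso
      have hwout : w ∉ M := by
        rcases hw with h | h
        exacts [D.facts.mc_out D.facts.r_out h, D.facts.mc_out D.facts.k_out h]
      rcases D.acts_unique hwx hact with e' | e' <;> rw [e'] at hwout
      · exact hwout he
      · exact hwout (mul_mem D.facts.t_mem he)
  have hprodM := D.facts.out_mul _ _ hwy hwz
  refine ⟨fun h => key hprodM (D.acts_mul hay haz) h hyzne, fun h => ?_⟩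
  have := key (mul_mem D.facts.t_mem hprodM) (D.acts_mul (acts_io (ι := ι) D.facts.t_mem) (D.acts_mul hay haz)) h hTyz1
  rwa [← mul_assoc, D.tt, one_mul] at this

theorem no_s (Fr : Frame M t s r fr) {a : W} (h : MC M s a) : ¬ InX (io ι a) := fun hX => by
  obtain ⟨y, w, hy, -, hw, hact, -⟩ := D.s_gives_r (hX.trans (D.conj_io D.facts.s_mem h).symm)
  exact D.no_r Fr hy hw hact

/-- The two classes of products of four reflections avoid the class. -/
theorem no_q (Fr : Frame M t s r fr) {q a : W} (hq : q = qa ∨ q = qb) (h : MC M q a) : ¬ InX (io ι a) := by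
  intro hX
  have hqM : q ∈ M := by rcases hq with rfl | rfl; exacts [D.facts.qa_mem, D.facts.qb_mem]
  have hqX : InX (io ι q) := hX.trans (D.conj_io hqM h).symm
  obtain ⟨q', c, hq', hqq, hs, hc, hqc, hq'c, hr, hk, htk⟩ := D.facts.q_witness q hq
  have hq'M := D.facts.mc_mem hqM hq'
  have hq'X : InX (io ι q') := hqX.trans (D.conj_io hqM hq')
  have hne1 : q * q' ≠ 1 := fun e => by
    rw [e] at hs
    rcases hs with ⟨n, -, hn⟩ | ⟨n, -, hn⟩
    · exact D.facts.s_ne (conj_eq_one_iff.1 hn)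
    · exact D.facts.s_ne_t (by rw [← D.facts.tt_mul s, conj_eq_one_iff.1 hn, mul_one])
  have cab : ¬ InX (io ι (q * q')) := by
    rcases hs with h | h
    exacts [D.no_s Fr h, D.no_ts h]
  -- an element of colour zero gives the outer base
  obtain ⟨g, hg⟩ := isConj_iff.1 hqX.symm
  set y := g * io ι q' * g⁻¹ with hy
  have hyX : InX y := x_conj g hq'X
  have hyT : Commute y T := by
    have := (D.io_commute hqM hq'M hqq).symm.conj g
    rwa [hg] at this
  have hTy : ¬ InX (T * y) := fun h => cab (by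
    rw [io_mul ι hqM hq'M]
    refine h.trans (isConj_iff.2 ⟨g⁻¹, ?_⟩)
    rw [← hg, hy]; group)
  have hyne : y ≠ T := fun e => hne1 (by
    have h1 : q' = q := D.io_inj hq'M hqM (mul_left_cancel (mul_right_cancel (e.trans hg.symm)))
    rw [h1]; exact D.facts.mc_sq (a := q) (by
      have h2 := D.x_sq hqX
      rw [← io_mul ι hqM hqM] at h2
      exact D.io_inj (mul_mem hqM hqM) (one_mem M) (h2.trans (io_one ι).symm)) ⟨1, one_mem _, by group⟩)
  obtain ⟨v, hv, B, hTv⟩ : ∃ v, InX v ∧ Base M ι v k ∧ ¬ InX (T * v) := by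
    rcases D.cases_x hyX hyT hyne with ⟨d, hd, e, hcl⟩ | ⟨w, hw, hwy⟩
    · exfalso
      rw [e] at hyX hTy
      rcases hcl with h | h | h | h
      · exact D.no_s Fr h hyX
      · exact D.no_ts h hyX
      all_goals refine hTy ?_; rw [D.tmul hd]
      · exact hyX.trans ((D.conj_io D.facts.qa_mem h).symm.trans ((D.conj_io D.facts.qa_mem D.facts.qa_twist).trans
          (D.conj_io (mul_mem D.facts.t_mem D.facts.qa_mem) (D.facts.mc_t h))))
      · exact hyX.trans ((D.conj_io D.facts.qb_mem h).symm.trans ((D.conj_io D.facts.qb_mem D.facts.qb_twist).trans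
          (D.conj_io (mul_mem D.facts.t_mem D.facts.qb_mem) (D.facts.mc_t h))))
    · rcases hw with h | h
      · exact absurd hwy (D.no_r Fr hyX h)
      · obtain ⟨v, hv, B, hiff⟩ := D.exists_base hyX h D.facts.k2 D.facts.k_out hwy
        exact ⟨v, hv, B, fun h' => hTy (hiff.2 h')⟩
  have hcX : InX (lift ι v k c) := D.lift_x B hv hc
  have hcout := D.facts.mc_out D.facts.k_out hc
  have hio : ∀ {x}, x ∈ M → lift ι v k x = io ι x := fun h => lift_in h
  have e1 : io ι q * lift ι v k c = lift ι v k (q * c) := by rw [D.lift_mul B, hio hqM]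
  have e2 : io ι q' * lift ι v k c = lift ι v k (q' * c) := by rw [D.lift_mul B, hio hq'M]
  have hne : ∀ {x}, x ∈ M → io ι x ≠ lift ι v k c := fun {x} hx e => by
    rcases D.acts_unique (acts_io hx) (e ▸ D.acts_lift B c) with e' | e' <;> rw [e'] at hx
    · exact hcout hx
    · exact hcout (by have := mul_mem D.facts.t_mem hx; rwa [D.facts.tt_mul] at this)
  have hcomm : ∀ {x}, x ∈ M → Commute x c → Commute (io ι x) (lift ι v k c) := fun hx h => by
    have := D.lift_commute B h; rwa [hio hx] at this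
  have hiff := D.triple Fr hqX hq'X hcX (D.io_commute hqM hq'M hqq) (hcomm hqM hqc) (hcomm hq'M hq'c)
    (fun e => hne1 (by rw [D.io_inj hqM hq'M e]; exact D.facts.mc_sq (a := q) (by
      have h2 := D.x_sq hqX
      rw [← io_mul ι hqM hqM] at h2
      exact D.io_inj (mul_mem hqM hqM) (one_mem M) (h2.trans (io_one ι).symm)) hq'))
    (hne hqM) (hne hq'M) (by rwa [← io_mul ι hqM hq'M]) (by
      rw [e1]
      intro h
      rcases hr with h' | h'
      · exact D.no_r Fr h h' (D.acts_lift B _)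
      · have h'' : MC M r (t * (q * c)) := by have := D.facts.mc_t h'; rwa [D.facts.tt_mul] at this
        exact D.no_r Fr h h'' (D.acts_t (D.acts_lift B _)))
  refine hTv ?_
  have h3 := hiff.1 (by rw [e2]; exact D.lift_x B hv hk)
  rw [← io_mul ι hqM hq'M, ← hio (mul_mem hqM hq'M), ← D.lift_mul B] at h3
  obtain ⟨m, hm, hmk⟩ := htk
  rw [← hmk, D.lift_mul B, D.lift_mul B, hio hm, hio (inv_mem hm), D.lift_t B, D.lift_base B, io_inv ι hm] at h3
  exact h3.trans (isConj_iff.2 ⟨(io ι m)⁻¹, by group⟩)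

theorem no_inner (Fr : Frame M t s r fr) {a : W} (h : InnerCl M t s qa qb a) : ¬ InX (io ι a) := by
  rcases h with h | h | h | h
  exacts [D.no_s Fr h, D.no_ts h, D.no_q Fr (Or.inl rfl) h, D.no_q Fr (Or.inr rfl) h]

/-- No element of the type of three orthogonal reflections. -/
theorem no_k (Fr : Frame M t s r fr) {y : G} {w : W} (hy : InX y) (hw : MC M k w) : ¬ Acts ι y w := by
  intro hact
  obtain ⟨v, hv, B, -⟩ := D.exists_base hy hw D.facts.k2 D.facts.k_out hact
  obtain ⟨a, b, c, ha, hb, hc, hab, hac, hbc, iab, iac, ibc, habc⟩ := D.facts.k_witness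
  have hne : ∀ {x z : W}, MC M k x → InnerCl M t s qa qb (x * z) → lift ι v k x ≠ lift ι v k z := by
    intro x z hx hcl e
    have h1 := D.lift_mem B (D.facts.innerCl_mem hcl)
    rw [← e, ← D.lift_mul B, D.facts.mc_sq D.facts.k2 hx, D.lift_one B, ← io_one ι] at h1
    have h2 := D.io_inj (one_mem M) (D.facts.innerCl_mem hcl) h1
    rw [← h2] at hcl
    rcases hcl with ⟨n, -, hn⟩ | ⟨n, -, hn⟩ | ⟨n, -, hn⟩ | ⟨n, -, hn⟩
    · exact D.facts.s_ne (conj_eq_one_iff.1 hn)
    · exact D.facts.s_ne_t (by rw [← D.facts.tt_mul s, conj_eq_one_iff.1 hn, mul_one])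
    · obtain ⟨m, -, hm⟩ := D.facts.qa_twist
      rw [conj_eq_one_iff.1 hn, mul_one, mul_inv_cancel, mul_one] at hm
      exact D.facts.t_ne hm.symm
    · obtain ⟨m, -, hm⟩ := D.facts.qb_twist
      rw [conj_eq_one_iff.1 hn, mul_one, mul_inv_cancel, mul_one] at hm
      exact D.facts.t_ne hm.symm
  have hnx : ∀ {x z : W}, InnerCl M t s qa qb (x * z) → ¬ InX (lift ι v k x * lift ι v k z) := fun {x z} h => by
    rw [D.lift_mem B (D.facts.innerCl_mem h)]; exact D.no_inner Fr h
  have hiff := D.triple Fr (D.lift_x B hv ha) (D.lift_x B hv hb) (D.lift_x B hv hc) (D.lift_commute B hab)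
    (D.lift_commute B hac) (D.lift_commute B hbc) (hne ha iab) (hne ha iac) (hne hb ibc) (hnx iab) (hnx iac)
  refine hnx ibc (hiff.2 ?_)
  rw [← D.lift_mul B, ← D.lift_mul B]
  exact D.lift_x B hv habc

/-- The central involution is isolated. -/
theorem isolated (Fr : Frame M t s r fr) : Cfsg.IsIsolatedInvolution T := by
  refine ⟨orderOf_eq_prime (hp := ⟨Nat.prime_two⟩) (by rw [pow_two, D.tt]) D.tne, fun g hg => ?_⟩
  by_contra hne
  have hX : InX (g * T * g⁻¹) := isConj_iff.2 ⟨g, rfl⟩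
  rcases D.cases_x hX hg.symm hne with ⟨a, ha, e, hcl⟩ | ⟨w, hw, hact⟩
  · exact D.no_inner Fr hcl (e ▸ hX)
  · rcases hw with h | h
    exacts [D.no_r Fr hX h hact, D.no_k Fr hX h hact]

end Setting

end CfsgLib.OEightStd
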