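import Cfsg.Agent.Lib.OEightStd.Twist

/-!
# A perfect double cover of the orthogonal group of plus type in dimension eight over two elements is the model
-/

set_option autoImplicit false
set_option maxRecDepth 100000

namespace CfsgLib.OEightStd

open CfsgLib.Golay CfsgLib.TailsData CfsgLib.Schur.Tails CfsgLib.Schur.Tails.OEight Subgroup

/-- Each member of the kernel other than one is killed by a map onto the double cover. -/
theorem exists_kill {v : ↥BigO} (hv : toH v = 1) (hne : v ≠ 1) :
    ∃ π : ↥BigO →* ↥M, Function.Surjective π ∧ π v = 1 := by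
  have key : ∀ z : ZMod 2 × ZMod 2, z ≠ 0 →
      z = (toZ false, toZ true) ∨ z = (toZ true, toZ false) ∨ z = (toZ true, toZ true) := by decide
  have hne0 : sgn v ≠ 0 := fun h => hne (sgn_inj hv (map_one _) (h.trans sgn_one.symm))
  rcases key _ hne0 with h | h | h
  · refine ⟨psiM, psiM_surjective, Subtype.ext (Equiv.ext fun i => ?_)⟩
    obtain ⟨⟨x, k⟩, rfl⟩ := sgnPts.surjective i
    obtain ⟨-, cA, -⟩ := ker_facts hv
    have hA : phaseA v = 0 := congrArg Prod.fst h
    rw [psiM_val, psi_apply, cA, hA, add_zero]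
    rfl
  · obtain ⟨θ, π, -, hs, u, hu, hus, hu1⟩ := exists_projA
    exact ⟨π, hs, sgn_inj hu hv (hus.trans h.symm) ▸ hu1⟩
  · obtain ⟨θ, π, -, hs, u, hu, hus, hu1⟩ := exists_projB
    exact ⟨π, hs, sgn_inj hu hv (hus.trans h.symm) ▸ hu1⟩

/-- A stem extension of order twice the group is the double cover. -/
theorem exists_iso_stem {L : Type} [Group L] [Finite L] {τ : L →* ↥H8} (hτ : Cfsg.IsStemExtension τ)
    (h2 : Nat.card τ.ker = 2) : Nonempty (L ≃* ↥M) := by
  obtain ⟨π₀, hπ₀, hs₀⟩ := universal_BigO hτ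
  have hcardL : Nat.card L = 348364800 := by
    rw [← τ.ker.card_mul_index, index_ker, MonoidHom.range_eq_top.2 hτ.1, card_top, h2, card_H8]
  have hker : ∀ {X : Type} [Group X] (f : ↥BigO →* X), Function.Surjective f → Nat.card X = 348364800 →
      Nat.card f.ker = 2 := by
    intro X _ f hf hX
    have h := f.ker.card_mul_index
    rw [index_ker, MonoidHom.range_eq_top.2 hf, card_top, hX, card_BigO] at h
    exact Nat.eq_of_mul_eq_mul_right (by norm_num : 0 < 348364800) (h.trans (by norm_num))
  have h0 := hker π₀ hs₀ hcardL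
  have hne : π₀.ker ≠ ⊥ := fun h => by rw [h, Subgroup.card_bot] at h0; omega
  obtain ⟨⟨v, hv⟩, hv1⟩ := (Subgroup.ne_bot_iff_exists_ne_one).1 hne
  obtain ⟨π, hπs, hπv⟩ := exists_kill (v := v) (by
    rw [← hπ₀, MonoidHom.comp_apply, MonoidHom.mem_ker.1 hv, map_one])
    fun e => hv1 (Subtype.ext e)
  have hk : π₀.ker = π.ker := by
    have h1 : zpowers v = π₀.ker := by
      refine Subgroup.eq_of_le_of_card_ge (zpowers_le.2 hv) ?_
      rw [h0, Nat.card_zpowers]
      refine (Nat.two_le_iff _).2 ⟨(orderOf_pos _).ne', fun e => hv1 (Subtype.ext (orderOf_eq_one_iff.1 e))⟩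
    rw [← h1]
    refine Subgroup.eq_of_le_of_card_ge (zpowers_le.2 hπv) ?_
    rw [hker π hπs card_M, h1, h0]
  exact ⟨(QuotientGroup.quotientKerEquivOfSurjective π₀ hs₀).symm.trans
    ((QuotientGroup.quotientMulEquivOfEq hk).trans (QuotientGroup.quotientKerEquivOfSurjective π hπs))⟩

universe u w

/-- A perfect group with centre of order two over the simple group is the double cover. -/
theorem exists_iso {L : Type u} [Group L] [Finite L] (hperf : commutator L = ⊤)
    (hZ : Nat.card (center L) = 2) {F : Type w} [Field F] [Fintype F] (hF : Fintype.card F = 2)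
    (hLX : Nonempty ((L ⧸ center L) ≃* Cfsg.POmega F (Cfsg.quadFormPlus 4 F))) :
    Nonempty (L ≃* ↥M) := by
  obtain ⟨e⟩ := hLX
  obtain ⟨d⟩ := pomega_equiv hF
  have : Small.{0} L := Countable.toSmall L
  have : Finite (Shrink.{0} L) := Finite.of_equiv _ (equivShrink L)
  let S : Shrink.{0} L ≃* L := Shrink.mulEquiv
  let τ : Shrink.{0} L →* ↥H8 :=
    (e.trans d.symm).toMonoidHom.comp ((QuotientGroup.mk' (center L)).comp S.toMonoidHom)
  have hk : τ.ker = (center L).comap S.toMonoidHom := by
    ext x
    simp [τ, MonoidHom.mem_ker]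
  have hperf' : commutator (Shrink.{0} L) = ⊤ := by
    refine Subgroup.map_injective (f := S.toMonoidHom) S.injective ?_
    rw [map_top_of_surjective _ S.surjective, _root_.commutator_def, map_commutator,
      map_top_of_surjective _ S.surjective, ← _root_.commutator_def, hperf]
  have hτ : Cfsg.IsStemExtension τ :=
    ⟨(e.trans d.symm).surjective.comp ((QuotientGroup.mk'_surjective _).comp S.surjective),
      fun x hx => mem_center_iff.2 fun y => S.injective (by
        rw [map_mul, map_mul]
        exact mem_center_iff.1 (hk.le hx) (S y)), le_top.trans hperf'.ge⟩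
  obtain ⟨E⟩ := exists_iso_stem hτ (by
    rw [hk, ← hZ]
    exact Nat.card_congr (S.toEquiv.subtypeEquiv fun x => Iff.rfl))
  exact ⟨S.symm.trans E⟩

end CfsgLib.OEightStd
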