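import Cfsg.Agent.Lib.OEightStd.Small

/-!
# An outer involution lifts the whole group acting on the component
-/

set_option autoImplicit false

namespace CfsgLib.OEightStd

variable {W : Type*} [Group W] {M : Subgroup W} {t s qa qb R r k : W}
variable {G : Type*} [Group G]

/-- An involution acting as an outer involution of `W`. -/
structure Base (M : Subgroup W) (ι : M →* G) (v : G) (b : W) : Prop where
  acts : Acts ι v b
  v2 : v * v = 1
  b2 : b * b = 1
  out : b ∉ M

/-- The lift. -/
noncomputable def lift (ι : M →* G) (v : G) (b : W) (w : W) : G := by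
  classical exact if w ∈ M then io ι w else io ι (w * b) * v

namespace Setting

variable {ι : M →* G} (D : Setting M t s qa qb R r k ι)

local notation "T" => io ι t
local notation "InX" => IsConj (io ι t)

variable {v : G} {b : W}

omit D in
theorem lift_in {a : W} (ha : a ∈ M) : lift ι v b a = io ι a := by unfold lift; rw [if_pos ha]

omit D in
theorem lift_out {w : W} (hw : w ∉ M) : lift ι v b w = io ι (w * b) * v := by unfold lift; rw [if_neg hw]

include D

theorem lift_base (B : Base M ι v b) : lift ι v b b = v := by rw [lift_out B.out, B.b2, io_one, one_mul]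

theorem lift_mul (B : Base M ι v b) (x y : W) : lift ι v b (x * y) = lift ι v b x * lift ι v b y := by
  have hv : ∀ a ∈ M, v * io ι a = io ι (b * a * b) * v := fun a ha => by
    have h := B.acts a ha
    rw [inv_eq_of_mul_eq_one_right B.v2, inv_eq_of_mul_eq_one_right B.b2] at h
    rw [← h, mul_assoc (v * io ι a), B.v2, mul_one]
  by_cases hx : x ∈ M <;> by_cases hy : y ∈ M
  · rw [lift_in (mul_mem hx hy), lift_in hx, lift_in hy, io_mul ι hx hy]
  · rw [lift_out (D.facts.mul_out hx hy), lift_in hx, lift_out hy, mul_assoc x,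
      io_mul ι hx (D.facts.out_mul _ _ hy B.out), mul_assoc]
  · have hxy : x * y ∉ M := fun h => hx (by
      have := mul_mem h (inv_mem hy); rwa [mul_inv_cancel_right] at this)
    have h3 : b * y * b ∈ M := by
      have := D.facts.conj_mem b hy; rwa [inv_eq_of_mul_eq_one_right B.b2] at this
    rw [lift_out hxy, lift_out hx, lift_in hy, mul_assoc _ v, hv y hy, ← mul_assoc,
      ← io_mul ι (D.facts.out_mul _ _ hx B.out) h3,
      show x * b * (b * y * b) = x * (b * b) * (y * b) by group, B.b2, mul_one, mul_assoc]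
  · have h1 := D.facts.out_mul _ _ hx B.out
    have h2 := D.facts.out_mul _ _ hy B.out
    have h3 : b * (y * b) * b ∈ M := by
      have := D.facts.conj_mem b h2; rwa [inv_eq_of_mul_eq_one_right B.b2] at this
    rw [lift_in (D.facts.out_mul _ _ hx hy), lift_out hx, lift_out hy,
      show io ι (x * b) * v * (io ι (y * b) * v) = io ι (x * b) * (v * io ι (y * b)) * v by group, hv _ h2,
      show io ι (x * b) * (io ι (b * (y * b) * b) * v) * v = io ι (x * b) * io ι (b * (y * b) * b) * (v * v) by
        group, B.v2, mul_one, ← io_mul ι h1 h3,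
      show x * b * (b * (y * b) * b) = x * (b * b) * y * (b * b) by group, B.b2, mul_one, mul_one]

theorem lift_one (B : Base M ι v b) : lift ι v b 1 = 1 := by rw [lift_in (one_mem M), io_one]

theorem lift_commute (B : Base M ι v b) {x y : W} (h : Commute x y) :
    Commute (lift ι v b x) (lift ι v b y) := by
  show _ * _ = _ * _
  rw [← D.lift_mul B, ← D.lift_mul B, h.eq]

theorem lift_prod (B : Base M ι v b) : ∀ l : List W, lift ι v b l.prod = (l.map (lift ι v b)).prod
  | [] => by simpa using D.lift_one B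
  | a :: l => by rw [List.prod_cons, D.lift_mul B, lift_prod B l, List.map_cons, List.prod_cons]

theorem acts_lift (B : Base M ι v b) (w : W) : Acts ι (lift ι v b w) w := by
  by_cases hw : w ∈ M
  · rw [lift_in hw]; exact acts_io hw
  · rw [lift_out hw]
    have h := D.acts_mul (acts_io (ι := ι) (D.facts.out_mul _ _ hw B.out)) B.acts
    rwa [mul_assoc, B.b2, mul_one] at h

theorem lift_conj (B : Base M ι v b) {w : W} (h : MC M b w) : IsConj v (lift ι v b w) := by
  obtain ⟨m, hm, rfl⟩ := h
  refine isConj_iff.2 ⟨io ι m, ?_⟩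
  rw [D.lift_mul B, D.lift_mul B, D.lift_base B, lift_in hm, lift_in (inv_mem hm), io_inv ι hm]

theorem lift_x (B : Base M ι v b) (hv : InX v) {w : W} (h : MC M b w) : InX (lift ι v b w) :=
  hv.trans (D.lift_conj B h)

theorem lift_t (B : Base M ι v b) (w : W) : lift ι v b (t * w) = T * lift ι v b w := by
  rw [D.lift_mul B, lift_in D.facts.t_mem]

theorem lift_mem {x y : W} (B : Base M ι v b) (h : x * y ∈ M) :
    lift ι v b x * lift ι v b y = io ι (x * y) := by rw [← D.lift_mul B, lift_in h]

/-- An outer element of the class gives a base. -/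
theorem exists_base {y : G} {c w : W} (hX : InX y) (hc : MC M c w) (hc2 : c * c = 1) (hout : c ∉ M)
    (h : Acts ι y w) : ∃ v, InX v ∧ Base M ι v c ∧ (InX (T * y) ↔ InX (T * v)) := by
  obtain ⟨m, hm, rfl⟩ := hc
  have hmi : io ι m⁻¹ = (io ι m)⁻¹ := io_inv ι hm
  refine ⟨io ι m⁻¹ * y * (io ι m⁻¹)⁻¹, x_conj _ hX, ⟨?_, D.x_sq (x_conj _ hX), hc2, hout⟩, ?_⟩
  · have h' := D.acts_conj (acts_io (ι := ι) (inv_mem hm)) h
    rwa [show m⁻¹ * (m * c * m⁻¹) * m⁻¹⁻¹ = c by group] at h'
  · have e : T * (io ι m⁻¹ * y * (io ι m⁻¹)⁻¹) = io ι m⁻¹ * (T * y) * (io ι m⁻¹)⁻¹ := by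
      rw [← mul_assoc (io ι m⁻¹) T, (D.comm_T_io (inv_mem hm)).eq]; group
    rw [e]
    exact ⟨fun h => x_conj _ h, fun h => by
      have := x_conj (ι := ι) (io ι m⁻¹)⁻¹ h
      simpa [mul_assoc] using this⟩

end Setting

end CfsgLib.OEightStd
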