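import Cfsg.Agent.Lib.OEightStd.Fusion
import Cfsg.Agent.Lib.Invol.ZStarFinal
import Cfsg.Prelude.Def_Local

/-!
# A standard component of the type of the double cover is normal once the facts are known

`ι` identifies `M` with the standard subgroup and every element normalising it acts as an element of `W`.  The
centraliser of the component being tightly embedded, the central involution `io ι t` has its centraliser in the
normaliser of the component; it is isolated, so central.
-/

set_option autoImplicit false

namespace CfsgLib.OEightStd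

variable {W : Type*} [Group W] {M : Subgroup W} {t s qa qb R r k : W} {fr : Fin 8 → W}

/-- The standard subgroup is normal. -/
theorem normal_of_facts {G : Type*} [Group G] [Finite G] (hO : Cfsg.oddCore G = ⊥) (L : Subgroup G)
    (hL : Cfsg.IsStandardSubgroup L) (ι : M →* G) (hinj : Function.Injective ι) (hιL : ι.range = L)
    (hact : ∀ g ∈ Subgroup.normalizer (L : Set G), ∃ w : W, Acts ι g w)
    (F : Facts M t s qa qb R r k) (Fr : Frame M t s r fr)
    (hR : ∀ P : Sylow 2 ↥(Subgroup.centralizer (L : Set G)),
      IsCyclic ↥(P : Subgroup ↥(Subgroup.centralizer (L : Set G)))) : L.Normal := by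
  obtain ⟨-, ⟨-, hodd⟩, -, hnorm⟩ := hL
  have hmem : ∀ a : W, a ∈ M → io ι a ∈ L := fun a ha => by
    rw [← hιL, io_eq ι ha]
    exact ⟨⟨a, ha⟩, rfl⟩
  have hcent : ∀ g : G, Commute g (io ι t) → g ∈ Subgroup.normalizer (L : Set G) := by
    intro g hg
    rw [hnorm]
    by_contra hgn
    have h := hodd g hgn
    have htK : io ι t ∈ Subgroup.centralizer (L : Set G) := Subgroup.mem_centralizer_iff.2 fun x hx => by
      rw [SetLike.mem_coe, ← hιL] at hx
      obtain ⟨⟨a, ha⟩, rfl⟩ := hx
      rw [← io_eq ι ha, ← io_mul ι ha F.t_mem, ← io_mul ι F.t_mem ha, F.tc]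
    have htt : io ι t * io ι t = 1 := by rw [← io_mul ι F.t_mem F.t_mem, F.t2, io_one]
    have htne : io ι t ≠ 1 := fun h' => F.t_ne (by
      rw [io_eq ι F.t_mem, ← map_one ι] at h'
      exact congrArg Subtype.val (hinj h'))
    have hT : io ι t ∈ Subgroup.centralizer (L : Set G) ⊓
        (Subgroup.centralizer (L : Set G)).map (MulAut.conj g).toMonoidHom :=
      ⟨htK, io ι t, htK, show g * io ι t * g⁻¹ = io ι t by rw [hg.eq, mul_inv_cancel_right]⟩
    have h2 : orderOf (⟨io ι t, hT⟩ : ↥(Subgroup.centralizer (L : Set G) ⊓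
        (Subgroup.centralizer (L : Set G)).map (MulAut.conj g).toMonoidHom)) = 2 :=
      orderOf_eq_prime (hp := ⟨Nat.prime_two⟩) (by rw [pow_two]; exact Subtype.ext htt) fun h' =>
        htne (congrArg Subtype.val h')
    exact (Nat.not_even_iff_odd.2 h) (even_iff_two_dvd.2 (h2 ▸ orderOf_dvd_natCard _))
  have D : Setting M t s qa qb R r k ι :=
    ⟨hinj, F, fun g hg => hact g (hcent g hg), by rw [hιL]; exact hR⟩
  have hz := Invol.zstar_center (D.isolated Fr) hO
  refine ⟨fun x hx g => ?_⟩
  exact (Subgroup.mem_normalizer_iff.1 (hcent g (Subgroup.mem_center_iff.1 hz g)) x).1 hx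

end CfsgLib.OEightStd
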