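import Cfsg.Agent.Lib.Tails.Combine

/-!
# A stem extension with the largest kernel covers every other one
-/

set_option autoImplicit false

namespace CfsgLib.OEightStd

open Subgroup CfsgLib.Schur.Tails
open scoped commutatorElement

variable {G : Type} [Group G]

/-- A homomorphism into a stem extension that is onto below is onto. -/
theorem surjective_of_stem (hG : commutator G = ⊤) {D L : Type} [Group D] [Group L] {τ : L →* G}
    (hτ : Cfsg.IsStemExtension τ) (f : D →* L) (hf : Function.Surjective (τ.comp f)) :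
    Function.Surjective f := by
  have key : ∀ x : L, ∃ r ∈ f.range, r⁻¹ * x ∈ center L := fun x => by
    obtain ⟨d, hd⟩ := hf (τ x)
    refine ⟨f d, ⟨d, rfl⟩, hτ.2.1 ?_⟩
    rw [MonoidHom.mem_ker, map_mul, map_inv, show τ (f d) = τ x from hd, inv_mul_cancel]
  have hle : commutator L ≤ f.range := by
    rw [_root_.commutator_def, commutator_le]
    intro a _ b _
    obtain ⟨a', ha', hza⟩ := key a
    obtain ⟨b', hb', hzb⟩ := key b
    obtain ⟨za, rfl⟩ : ∃ z, a = a' * z := ⟨_, (mul_inv_cancel_left a' a).symm⟩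
    obtain ⟨zb, rfl⟩ : ∃ z, b = b' * z := ⟨_, (mul_inv_cancel_left b' b).symm⟩
    rw [inv_mul_cancel_left] at hza hzb
    have e : ⁅a' * za, b' * zb⁆ = ⁅a', b'⁆ := by
      have h1 := mem_center_iff.1 hza
      have h2 := mem_center_iff.1 hzb
      rw [commutatorElement_def, commutatorElement_def,
        show a' * za * (b' * zb) * (a' * za)⁻¹ * (b' * zb)⁻¹ = a' * (za * (b' * zb) * za⁻¹) * a'⁻¹ * zb⁻¹ * b'⁻¹ by group,
        ← h1 (b' * zb), mul_inv_cancel_right,
        show a' * (b' * zb) * a'⁻¹ * zb⁻¹ * b'⁻¹ = a' * b' * (zb * a'⁻¹ * zb⁻¹) * b'⁻¹ by group,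
        ← h2 a'⁻¹, mul_inv_cancel_right]
    rw [e, commutatorElement_def]
    exact mul_mem (mul_mem (mul_mem ha' hb') (inv_mem ha')) (inv_mem hb')
  exact fun x => hle ((stem_perfect hG hτ).ge (mem_top x))

/-- A stem extension whose kernel is as large as possible maps onto each stem extension. -/
theorem universal [Finite G] (hG : commutator G = ⊤) {Γ L : Type} [Group Γ] [Finite Γ] [Group L]
    [Finite L] {σ : Γ →* G} (hσ : Cfsg.IsStemExtension σ) {τ : L →* G} (hτ : Cfsg.IsStemExtension τ)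
    (hb : ∀ (Δ : Type) [Group Δ] [Finite Δ] (ρ : Δ →* G), Cfsg.IsStemExtension ρ →
      Nat.card ρ.ker ≤ Nat.card σ.ker) :
    ∃ π : Γ →* L, τ.comp π = σ ∧ Function.Surjective π := by
  let P : Subgroup (Γ × L) :=
    (σ.comp (MonoidHom.fst Γ L)).eqLocus (τ.comp (MonoidHom.snd Γ L))
  let f : P →* G := (σ.comp (MonoidHom.fst Γ L)).comp P.subtype
  have hfs : Function.Surjective f := fun g => by
    obtain ⟨a, ha⟩ := hσ.1 g
    obtain ⟨b, hb⟩ := hτ.1 g
    exact ⟨⟨(a, b), ha.trans hb.symm⟩, ha⟩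
  have hfc : f.ker ≤ center ↥P := fun x hx => mem_center_iff.2 fun y => by
    have h1 : x.1.1 ∈ center Γ := hσ.2.1 hx
    have h2 : x.1.2 ∈ center L := hτ.2.1 ((x.2.symm.trans hx :))
    exact Subtype.ext (Prod.ext (mem_center_iff.1 h1 _) (mem_center_iff.1 h2 _))
  let ρ : ↥(commutator ↥P) →* G := f.comp (commutator ↥P).subtype
  have hperf := derived_perfect hG hfs hfc
  have hρ : Cfsg.IsStemExtension ρ := by
    refine ⟨fun g => ?_, fun x hx => mem_center_iff.2 fun y =>
      Subtype.ext (mem_center_iff.1 (hfc (show f x.1 = 1 from hx)) y.1), le_top.trans hperf.ge⟩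
    obtain ⟨y, hy, e⟩ := (commutator_mul_ker hG hfs).ge (mem_top g)
    exact ⟨⟨y, hy⟩, e⟩
  let p : ↥(commutator ↥P) →* Γ := (MonoidHom.fst Γ L).comp (P.subtype.comp (commutator ↥P).subtype)
  let q : ↥(commutator ↥P) →* L := (MonoidHom.snd Γ L).comp (P.subtype.comp (commutator ↥P).subtype)
  have hpq : ∀ x, σ (p x) = τ (q x) := fun x => x.1.2
  have hps : Function.Surjective p := surjective_of_stem hG hσ p fun g => hρ.1 g
  have hqs : Function.Surjective q := surjective_of_stem hG hτ q fun g => by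
    obtain ⟨x, hx⟩ := hρ.1 g
    exact ⟨x, (hpq x).symm.trans hx⟩
  have hcard : Nat.card ↥(commutator ↥P) ≤ Nat.card Γ := by
    rw [← ρ.ker.card_mul_index, ← σ.ker.card_mul_index, Subgroup.index_ker, Subgroup.index_ker,
      MonoidHom.range_eq_top.2 hρ.1, MonoidHom.range_eq_top.2 hσ.1]
    exact Nat.mul_le_mul_right _ (hb _ ρ hρ)
  have hbij : Function.Bijective p :=
    hps.bijective_of_nat_card_le hcard
  let e := MulEquiv.ofBijective p hbij
  refine ⟨q.comp e.symm.toMonoidHom, MonoidHom.ext fun a => ?_, hqs.comp e.symm.surjective⟩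
  show τ (q (e.symm a)) = σ a
  rw [← hpq]
  exact congrArg σ (e.apply_symm_apply a)

end CfsgLib.OEightStd
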