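import Cfsg.Agent.Lib.OEightStd.ModelChecks
import Cfsg.Agent.Lib.OEightStd.Universal
import Cfsg.Agent.Lib.Tails.OEightCover
import Cfsg.Agent.Lib.Tails.OEightBound

/-!
# The double cover of the orthogonal group on 240 signed points as a quotient of the full cover
-/

set_option autoImplicit false
set_option maxRecDepth 100000

namespace CfsgLib.OEightStd

open CfsgLib.Golay CfsgLib.TailsData CfsgLib.Schur.Tails CfsgLib.Schur.Tails.OEight Subgroup

attribute [local irreducible] oEightLowBase oEightHighBase oEightSignsA oEightSignsB signedBase signedRefl reflLow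
  signedSlp signedConj reflLevels reflSlp PackPerm.getP PackPerm.pack PackPerm.toL

/-- The double cover. -/
noncomputable abbrev M : Subgroup (Equiv.Perm (Fin 240)) := gen 240 signedBase

/-- The double cover with a reflection. -/
noncomputable abbrev M2 : Subgroup (Equiv.Perm (Fin 240)) := gen 240 (signedBase ++ [signedRefl])

theorem signed_len : signedBase.length = 6 := by
  have h := signed_checks.1
  simp only [signedB, Bool.and_eq_true, decide_eq_true_eq] at h
  exact h.1.1

theorem signed_ok : ∀ b ∈ signedBase, PackPerm.okP 240 b = true := by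
  have h := signed_checks.1
  simp only [signedB, Bool.and_eq_true, List.all_eq_true] at h
  exact h.1.2

theorem signed_mem {r : ℕ} (hr : r ∈ signedBase ++ signedSlp.map (·.1)) :
    PackPerm.okP 240 r = true ∧ permC 240 r ∈ M := by
  have h := fix_checks
  simp only [fixB, Bool.and_eq_true] at h
  exact Bsgs.slp_sound ops240 M h.1.1.1
    (fun b hb => ⟨signed_ok b hb, Subgroup.subset_closure ⟨b, hb, rfl⟩⟩) r hr

theorem M_le_M2 : M ≤ M2 :=
  Subgroup.closure_mono fun _ ⟨b, hb, e⟩ => ⟨b, List.mem_append_left _ hb, e⟩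

/-- The signed points in a row. -/
def sgnPts : Fin 120 × ZMod 2 ≃ Fin 240 where
  toFun p := ⟨2 * p.1.val + p.2.val, by have := p.1.isLt; have := ZMod.val_lt p.2; omega⟩
  invFun i := (⟨i.val / 2, by have := i.isLt; omega⟩, (i.val % 2 : ℕ))
  left_inv p := by
    obtain ⟨x, k⟩ := p
    have hk := ZMod.val_lt k
    refine Prod.ext (Fin.ext ?_) ?_
    · show (2 * x.val + k.val) / 2 = x.val
      omega
    · show (((2 * x.val + k.val) % 2 : ℕ) : ZMod 2) = k
      rw [show (2 * x.val + k.val) % 2 = k.val by omega, ZMod.natCast_zmod_val]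
  right_inv i := by
    refine Fin.ext ?_
    show 2 * (i.val / 2) + (((i.val % 2 : ℕ)) : ZMod 2).val = i.val
    rw [ZMod.val_natCast, Nat.mod_mod]
    omega

theorem sgnPts_val (x : Fin 120) (k : ZMod 2) : (sgnPts (x, k)).val = 2 * x.val + k.val := rfl

/-- The action of the cover on the signed points of the first sheet. -/
noncomputable def psi : ↥BigO →* Equiv.Perm (Fin 240) :=
  sgnPts.permCongrHom.toMonoidHom.comp
    ((MonoidHom.fst _ _).comp ((MonoidHom.snd Two (Signed × Signed)).comp BigO.subtype))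

theorem psi_apply (g : ↥BigO) (p : Fin 120 × ZMod 2) : psi g (sgnPts p) = sgnPts (g.1.2.1 p) := by
  show sgnPts (g.1.2.1 (sgnPts.symm (sgnPts p))) = _
  rw [Equiv.symm_apply_apply]

theorem psi_lift {k : ℕ} (hk : k < 6) :
    psi ⟨liftO k, subset_closure ⟨k, hk, rfl⟩⟩ = permC 240 (signedBase.getD k 0) := by
  refine Equiv.ext fun i => ?_
  obtain ⟨⟨x, j⟩, rfl⟩ := sgnPts.surjective i
  rw [psi_apply]
  refine Fin.ext ?_
  have hlen := signed_len
  have hok : PackPerm.okP 240 (signedBase.getD k 0) = true := by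
    rw [List.getD_eq_getElem _ _ (by omega)]
    exact signed_ok _ (List.getElem_mem _)
  rw [permC_apply hok, sgnPts_val, sgnPts_val]
  have h := signed_checks.1
  simp only [signedB, Bool.and_eq_true, List.all_eq_true, List.mem_range, beq_iff_eq] at h
  have hj := ZMod.val_lt j
  rw [h.2 k hk (2 * x.val + j.val) (by have := x.isLt; omega),
    show (2 * x.val + j.val) / 2 = x.val by omega, show (2 * x.val + j.val) % 2 = j.val by omega]
  show 2 * ((twoOf k).1 x).val + (j + toZ (sheetA.flip k x.val)).val = _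
  rw [(img_eq hk x).1]
  refine congrArg _ ?_
  cases sheetA.flip k x.val <;> revert j <;> decide

theorem range_psi : psi.range = M := by
  have hlen := signed_len
  refine le_antisymm ?_ ((closure_le _).2 ?_)
  · rintro _ ⟨⟨g, hg⟩, rfl⟩
    induction hg using closure_induction with
    | mem x hx =>
      obtain ⟨k, hk, rfl⟩ := hx
      rw [psi_lift hk]
      refine subset_closure ⟨_, ?_, rfl⟩
      rw [List.getD_eq_getElem _ _ (show k < signedBase.length by omega)]
      exact List.getElem_mem _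
    | one => exact (map_one psi).symm ▸ one_mem M
    | mul a b ha hb iha ihb => exact (map_mul psi ⟨a, ha⟩ ⟨b, hb⟩).symm ▸ mul_mem iha ihb
    | inv a ha iha => exact (map_inv psi ⟨a, ha⟩).symm ▸ inv_mem iha
  · rintro _ ⟨b, hb, rfl⟩
    obtain ⟨k, hk, rfl⟩ := List.getElem_of_mem hb
    exact ⟨⟨liftO k, subset_closure ⟨k, hlen ▸ hk, rfl⟩⟩, by
      rw [psi_lift (hlen ▸ hk), List.getD_eq_getElem _ _ hk]⟩

/-- The two signs of a member of the cover. -/
noncomputable def sgn (g : ↥BigO) : ZMod 2 × ZMod 2 := (phaseA g, phaseB g)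

theorem sgn_mul {a b : ↥BigO} (ha : toH a = 1) (hb : toH b = 1) : sgn (a * b) = sgn a + sgn b := by
  obtain ⟨-, aA, aB⟩ := ker_facts ha
  obtain ⟨-, bA, bB⟩ := ker_facts hb
  refine Prod.ext ?_ ?_
  · show (a.1.2.1 (b.1.2.1 (0, 0))).2 = _
    rw [bA, aA, zero_add, add_comm]
    rfl
  · show (a.1.2.2 (b.1.2.2 (0, 0))).2 = _
    rw [bB, aB, zero_add, add_comm]
    rfl

theorem sgn_inj {a b : ↥BigO} (ha : toH a = 1) (hb : toH b = 1) (h : sgn a = sgn b) : a = b := by
  obtain ⟨a1, aA, aB⟩ := ker_facts ha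
  obtain ⟨b1, bA, bB⟩ := ker_facts hb
  refine Subtype.ext (Prod.ext (a1.trans b1.symm)
    (Prod.ext (Equiv.ext fun ⟨x, k⟩ => ?_) (Equiv.ext fun ⟨x, k⟩ => ?_)))
  · rw [aA, bA, (Prod.mk.injEq .. ▸ h : phaseA a = phaseA b ∧ phaseB a = phaseB b).1]
  · rw [aB, bB, (Prod.mk.injEq .. ▸ h : phaseA a = phaseA b ∧ phaseB a = phaseB b).2]

theorem sgn_one : sgn 1 = 0 := rfl

theorem exists_sgn (v : ZMod 2 × ZMod 2) :
    ∃ g : ↥BigO, toH g = 1 ∧ g ∈ commutator ↥BigO ∧ sgn g = v := by
  obtain ⟨hw, dA1, dB1, dA2, dB2⟩ := word_checks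
  simp only [wordsB, Bool.and_eq_true, List.all_eq_true, List.mem_range, Nat.blt_eq, beq_iff_eq] at hw
  obtain ⟨⟨hlt, e1⟩, e2⟩ := hw
  obtain ⟨a, ha⟩ := signs_of_words (hlt 0 (by norm_num)) (hlt 1 (by norm_num)) e1
  obtain ⟨b, hb⟩ := signs_of_words (hlt 2 (by norm_num)) (hlt 3 (by norm_num)) e2
  rw [dA1, dB1] at ha
  rw [dA2, dB2] at hb
  have hA : toH a.1.1 = 1 := a.2
  have hB : toH b.1.1 = 1 := b.2
  have key : ∀ z : ZMod 2 × ZMod 2, z = 0 ∨ z = (toZ true, toZ false) ∨ z = (toZ false, toZ true) ∨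
      z = (toZ true, toZ false) + (toZ false, toZ true) := by decide
  rcases key v with h | h | h | h
  · exact ⟨1, map_one _, one_mem _, sgn_one.trans h.symm⟩
  · exact ⟨a.1.1, hA, a.1.2, ha.trans h.symm⟩
  · exact ⟨b.1.1, hB, b.1.2, hb.trans h.symm⟩
  · refine ⟨a.1.1 * b.1.1, by rw [map_mul, hA, hB, one_mul], mul_mem a.1.2 b.1.2, ?_⟩
    rw [sgn_mul hA hB, h]
    exact congrArg₂ (· + ·) ha hb

theorem commutator_BigO : commutator ↥BigO = ⊤ := by
  refine eq_top_iff.2 fun x _ => ?_
  obtain ⟨y, hy, e⟩ := (commutator_mul_ker H8_simple.2 toH_surjective).ge (mem_top (toH x))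
  have h : toH (y⁻¹ * x) = 1 := by rw [map_mul, map_inv, e, inv_mul_cancel]
  obtain ⟨g, g1, g2, g3⟩ := exists_sgn (sgn (y⁻¹ * x))
  rw [← mul_inv_cancel_left y x, ← sgn_inj g1 h g3]
  exact mul_mem hy g2

theorem stem_toH : Cfsg.IsStemExtension toH :=
  ⟨toH_surjective, toH_ker, le_top.trans commutator_BigO.ge⟩

theorem card_ker_toH : Nat.card toH.ker = 4 := by
  rw [Nat.card_eq_of_bijective (fun g : toH.ker => sgn g.1)
    ⟨fun a b h => Subtype.ext (sgn_inj a.2 b.2 h), fun v => by
      obtain ⟨g, g1, -, g3⟩ := exists_sgn v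
      exact ⟨⟨g, g1⟩, g3⟩⟩]
  simp

theorem universal_BigO {L : Type} [Group L] [Finite L] {τ : L →* ↥H8} (hτ : Cfsg.IsStemExtension τ) :
    ∃ π : ↥BigO →* L, τ.comp π = toH ∧ Function.Surjective π :=
  universal H8_simple.2 stem_toH hτ fun Δ _ _ ρ hρ => by
    obtain ⟨π, hπ⟩ := bound ρ hρ
    rw [card_ker_toH]
    refine (Nat.card_le_card_of_surjective π hπ).trans (le_of_eq ?_)
    rw [Nat.card_congr Multiplicative.toAdd]
    simp

/-- The cover onto the double cover. -/
noncomputable def psiM : ↥BigO →* ↥M := (MulEquiv.subgroupCongr range_psi).toMonoidHom.comp psi.rangeRestrict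

theorem psiM_val (g : ↥BigO) : ((psiM g : ↥M) : Equiv.Perm (Fin 240)) = psi g := rfl

theorem psiM_surjective : Function.Surjective psiM :=
  (MulEquiv.subgroupCongr range_psi).surjective.comp psi.rangeRestrict_surjective

theorem ker_psiM_le : psiM.ker ≤ toH.ker := fun g hg => by
  obtain ⟨⟨s, e, -⟩, -, -⟩ := goodO_of_mem g.2
  refine Subtype.ext (Equiv.ext fun x => ?_)
  have h1 : psi g (sgnPts (x, 0)) = sgnPts (x, 0) := by
    rw [← psiM_val, MonoidHom.mem_ker.1 hg]
    rfl
  rw [psi_apply, e] at h1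
  exact congrArg Prod.fst (sgnPts.injective h1)

/-- The double cover onto the simple group. -/
noncomputable def projM : ↥M →* ↥H8 := psiM.liftOfSurjective psiM_surjective ⟨toH, ker_psiM_le⟩

theorem projM_psiM (g : ↥BigO) : projM (psiM g) = toH g := psiM.liftOfRightInverse_comp_apply _ _ _ g

theorem projM_apply (m : ↥M) (i : Fin 240) :
    (((projM m : ↥H8) : Equiv.Perm (Fin 120)) ⟨i.val / 2, by omega⟩).val =
      ((m : Equiv.Perm (Fin 240)) i).val / 2 := by
  obtain ⟨g, rfl⟩ := psiM_surjective m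
  obtain ⟨⟨s, e, -⟩, -, -⟩ := goodO_of_mem g.2
  obtain ⟨⟨x, k⟩, rfl⟩ := sgnPts.surjective i
  have h1 := ZMod.val_lt (k + s x)
  have h2 := ZMod.val_lt k
  have hx : (⟨(sgnPts (x, k)).val / 2, by omega⟩ : Fin 120) = x :=
    Fin.ext (show (sgnPts (x, k)).val / 2 = x.val by rw [sgnPts_val]; omega)
  rw [hx, projM_psiM, psiM_val, psi_apply, e, toH_val, sgnPts_val]
  omega

theorem stem_projM : Cfsg.IsStemExtension projM := by
  refine ⟨fun h => ?_, fun m hm => mem_center_iff.2 fun y => ?_, le_top.trans ?_⟩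
  · obtain ⟨g, hg⟩ := toH_surjective h
    exact ⟨psiM g, (projM_psiM g).trans hg⟩
  · obtain ⟨g, rfl⟩ := psiM_surjective m
    obtain ⟨h, rfl⟩ := psiM_surjective y
    rw [← map_mul, ← map_mul, mem_center_iff.1 (toH_ker ((projM_psiM g).symm.trans hm)) h]
  · rw [← map_top_of_surjective _ psiM_surjective, ← commutator_BigO, _root_.commutator_def,
      map_commutator, map_top_of_surjective _ psiM_surjective]
    rfl

theorem commutator_M : commutator ↥M = ⊤ := stem_perfect H8_simple.2 stem_projM

theorem card_ker_psiM : Nat.card psiM.ker = 2 := by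
  have hA : ∀ g : ↥BigO, g ∈ psiM.ker → toH g = 1 ∧ phaseA g = 0 := fun g hg => by
    have ht : toH g = 1 := ker_psiM_le hg
    refine ⟨ht, ?_⟩
    have h1 : psi g (sgnPts (0, 0)) = sgnPts (0, 0) := by
      rw [← psiM_val, MonoidHom.mem_ker.1 hg]
      rfl
    rw [psi_apply, (ker_facts ht).2.1] at h1
    simpa using congrArg Prod.snd (sgnPts.injective h1)
  rw [Nat.card_eq_of_bijective (fun g : psiM.ker => phaseB g.1) ⟨fun a b h => ?_, fun v => ?_⟩]
  · simp
  · obtain ⟨a1, a2⟩ := hA _ a.2
    obtain ⟨b1, b2⟩ := hA _ b.2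
    exact Subtype.ext (sgn_inj a1 b1 (Prod.ext (a2.trans b2.symm) h))
  · obtain ⟨g, g1, -, g3⟩ := exists_sgn (0, v)
    have hgA : phaseA g = 0 := congrArg Prod.fst g3
    refine ⟨⟨g, MonoidHom.mem_ker.2 (Subtype.ext (Equiv.ext fun i => ?_))⟩, congrArg Prod.snd g3⟩
    obtain ⟨⟨x, k⟩, rfl⟩ := sgnPts.surjective i
    rw [psiM_val, psi_apply, (ker_facts g1).2.1, hgA, add_zero]
    rfl

theorem card_BigO : Nat.card ↥BigO = 4 * 174182400 := by
  rw [← toH.ker.card_mul_index, index_ker, MonoidHom.range_eq_top.2 toH_surjective, card_top, card_ker_toH,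
    card_H8]

theorem card_M : Nat.card M = 348364800 := by
  have h := psiM.ker.card_mul_index
  rw [index_ker, MonoidHom.range_eq_top.2 psiM_surjective, card_top, card_ker_psiM, card_BigO] at h
  exact Nat.eq_of_mul_eq_mul_left (by norm_num : 0 < 2) (h.trans (by norm_num))

theorem card_ker_projM : Nat.card projM.ker = 2 := by
  have h := projM.ker.card_mul_index
  rw [index_ker, MonoidHom.range_eq_top.2 stem_projM.1, card_top, card_M, card_H8] at h
  exact Nat.eq_of_mul_eq_mul_right (by norm_num : 0 < 174182400) (h.trans (by norm_num))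

theorem refl_checks' :
    PackPerm.okP 240 signedRefl = true ∧
      permC 240 signedRefl * permC 240 signedRefl = 1 ∧
      (∀ k < 6, permC 240 signedRefl * permC 240 (signedBase.getD k 0) * permC 240 signedRefl ∈ M) ∧
      PackPerm.okP 120 reflLow = true ∧
      ∀ i < 240, PackPerm.getP signedRefl i / 2 = PackPerm.getP reflLow (i / 2) := by
  have h := signed_checks.2
  simp only [reflectB, Bool.and_eq_true, decide_eq_true_eq, List.all_eq_true, List.mem_range, beq_iff_eq,
    List.contains_iff_mem] at h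
  obtain ⟨⟨⟨⟨⟨⟨hR, hr⟩, hRR⟩, hconj⟩, hmem⟩, hlen⟩, hlow⟩ := h
  refine ⟨hR, ?_, fun k hk => ?_, hr, hlow⟩
  · rw [show permC 240 signedRefl = ops240.val signedRefl from rfl, ← ops240.val_mul _ _ hR hR, hRR, ops240.val_one]
  · have hb : PackPerm.okP 240 (signedBase.getD k 0) = true := by
      rw [List.getD_eq_getElem _ _ (by rw [signed_len]; exact hk)]
      exact signed_ok _ (List.getElem_mem _)
    have hm : signedConj.getD k 0 ∈ signedBase ++ signedSlp.map (·.1) := by
      rw [List.getD_eq_getElem _ _ (by rw [hlen]; exact hk)]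
      exact hmem _ (List.getElem_mem _)
    show ops240.val signedRefl * ops240.val (signedBase.getD k 0) * ops240.val signedRefl ∈ M
    rw [mul_assoc, ← ops240.val_mul _ _ hb hR, ← ops240.val_mul _ _ hR (ops240.ok_mul _ _ hb hR), hconj k hk]
    exact (signed_mem hm).2

theorem refl_conj {m : Equiv.Perm (Fin 240)} (hm : m ∈ M) :
    permC 240 signedRefl * m * permC 240 signedRefl ∈ M := by
  obtain ⟨-, hRR, hgen, -, -⟩ := refl_checks'
  induction hm using closure_induction with
  | mem x hx =>
    obtain ⟨b, hb, rfl⟩ := hx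
    obtain ⟨k, hk, rfl⟩ := List.getElem_of_mem hb
    have h := hgen k (signed_len ▸ hk)
    rwa [List.getD_eq_getElem _ _ hk] at h
  | one => rw [mul_one, hRR]; exact one_mem M
  | mul a b _ _ ha hb =>
    have e : permC 240 signedRefl * (a * b) * permC 240 signedRefl =
        permC 240 signedRefl * a * (permC 240 signedRefl * permC 240 signedRefl) * b * permC 240 signedRefl := by
      rw [hRR]; group
    rw [e, show permC 240 signedRefl * a * (permC 240 signedRefl * permC 240 signedRefl) * b * permC 240 signedRefl =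
      permC 240 signedRefl * a * permC 240 signedRefl * (permC 240 signedRefl * b * permC 240 signedRefl) by group]
    exact mul_mem ha hb
  | inv a _ ha =>
    have e : permC 240 signedRefl * a⁻¹ * permC 240 signedRefl =
        (permC 240 signedRefl * a * permC 240 signedRefl)⁻¹ := by
      rw [mul_inv_rev, mul_inv_rev, inv_eq_of_mul_eq_one_right hRR, mul_assoc]
    rw [e]
    exact inv_mem ha

theorem refl_notMem : permC 240 signedRefl ∉ M := by
  intro hm
  obtain ⟨hR, -, -, hr, hlow⟩ := refl_checks'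
  have hle : gen 120 (oEightLowBase ++ [reflLow]) ≤ H8 := by
    refine (closure_le _).2 ?_
    rintro _ ⟨b, hb, rfl⟩
    rcases List.mem_append.1 hb with hb | hb
    · exact subset_closure ⟨b, hb, rfl⟩
    · rw [List.mem_singleton.1 hb]
      have e : permC 120 reflLow = (projM ⟨_, hm⟩ : Equiv.Perm (Fin 120)) := Equiv.ext fun x => Fin.ext (by
        have hb2 : 2 * x.val < 240 := by have := x.isLt; omega
        have h := projM_apply ⟨_, hm⟩ ⟨2 * x.val, hb2⟩
        have hx : (⟨(⟨2 * x.val, hb2⟩ : Fin 240).val / 2, by omega⟩ : Fin 120) = x :=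
          Fin.ext (show 2 * x.val / 2 = x.val by omega)
        rw [hx, permC_apply hR, hlow _ hb2, show 2 * x.val / 2 = x.val by omega] at h
        rw [permC_apply hr]
        exact h.symm)
      rw [e]
      exact SetLike.coe_mem _
  have h := Subgroup.card_le_of_le hle
  rw [(chain_spec refl_chain).1, card_H8] at h
  omega

theorem mem_M2 {g : Equiv.Perm (Fin 240)} (hg : g ∈ M2) : g ∈ M ∨ permC 240 signedRefl * g ∈ M := by
  obtain ⟨-, hRR, -, -, -⟩ := refl_checks'
  refine Bsgs.closure_le_of_left_mul (X := {g | g ∈ M ∨ permC 240 signedRefl * g ∈ M}) (Or.inl (one_mem M))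
    ?_ hg
  rintro _ ⟨b, hb, rfl⟩ x hx
  rcases List.mem_append.1 hb with hb | hb
  · have hs : permC 240 b ∈ M := subset_closure ⟨b, hb, rfl⟩
    rcases hx with hx | hx
    · exact Or.inl (mul_mem hs hx)
    · refine Or.inr ?_
      have e : permC 240 signedRefl * (permC 240 b * x) =
          permC 240 signedRefl * permC 240 b * permC 240 signedRefl * (permC 240 signedRefl * x) := by
        rw [show permC 240 signedRefl * permC 240 b * permC 240 signedRefl * (permC 240 signedRefl * x) =
          permC 240 signedRefl * permC 240 b * (permC 240 signedRefl * permC 240 signedRefl) * x by group, hRR,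
          mul_one, mul_assoc]
      rw [e]
      exact mul_mem (refl_conj hs) hx
  · rw [List.mem_singleton.1 hb]
    rcases hx with hx | hx
    · refine Or.inr ?_
      rw [← mul_assoc, hRR, one_mul]
      exact hx
    · exact Or.inl hx

theorem card_M2 : Nat.card M2 = 696729600 := by
  have hRR := refl_checks'.2.1
  have hR : permC 240 signedRefl ∈ M2 :=
    subset_closure ⟨signedRefl, List.mem_append_right _ (List.mem_singleton_self _), rfl⟩
  let f : M ⊕ M → M2 := Sum.elim (fun m => ⟨m.1, M_le_M2 m.2⟩)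
    fun m => ⟨permC 240 signedRefl * m.1, mul_mem hR (M_le_M2 m.2)⟩
  have hf : Function.Bijective f := by
    refine ⟨?_, fun g => ?_⟩
    · rintro (a | a) (b | b) h <;> have h := congrArg Subtype.val h
      · exact congrArg Sum.inl (Subtype.ext h)
      · refine absurd ?_ refl_notMem
        rw [show permC 240 signedRefl = a.1 * b.1⁻¹ from eq_mul_inv_of_mul_eq h.symm]
        exact mul_mem a.2 (inv_mem b.2)
      · refine absurd ?_ refl_notMem
        rw [show permC 240 signedRefl = b.1 * a.1⁻¹ from eq_mul_inv_of_mul_eq h]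
        exact mul_mem b.2 (inv_mem a.2)
      · exact congrArg Sum.inr (Subtype.ext (mul_left_cancel h))
    · rcases mem_M2 g.2 with hg | hg
      · exact ⟨Sum.inl ⟨_, hg⟩, Subtype.ext rfl⟩
      · exact ⟨Sum.inr ⟨_, hg⟩, Subtype.ext (by
          show permC 240 signedRefl * (permC 240 signedRefl * g.1) = g.1
          rw [← mul_assoc, hRR, one_mul])⟩
  rw [← Nat.card_eq_of_bijective f hf, Nat.card_sum, card_M]

end CfsgLib.OEightStd
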