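import Cfsg.Agent.Lib.OEightStd.ModelData
import Cfsg.Agent.Lib.Tails.OEightCoverChecks
import Cfsg.Agent.Lib.Tails.PermCover

/-!
# Kernel checks of the model on 240 signed points and of the two twists
-/

set_option autoImplicit false
set_option maxRecDepth 100000

namespace CfsgLib.OEightStd

open CfsgLib.Golay CfsgLib.TailsData CfsgLib.Schur.Tails CfsgLib.Schur.Tails.OEight

/-- Coded permutations of the signed points. -/
noncomputable abbrev ops240 : Bsgs.Ops (Equiv.Perm (Fin 240)) (Fin 240) :=
  PermCover.ops 240 (by norm_num)

/-- The first sheet is the signed action. -/
def signedB : Bool :=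
  decide (signedBase.length = 6) && signedBase.all (PackPerm.okP 240) &&
    (List.range 6).all fun k => (List.range 240).all fun i =>
      PackPerm.getP (signedBase.getD k 0) i ==
        2 * sheetA.img k (i / 2) + cond (sheetA.flip k (i / 2)) (1 - i % 2) (i % 2)

/-- The reflection squares to one, normalises by the listed conjugates and acts below as listed. -/
noncomputable def reflectB : Bool :=
  PackPerm.okP 240 signedRefl && PackPerm.okP 120 reflLow &&
    (ops240.mul signedRefl signedRefl == ops240.one) &&
    ((List.range 6).all fun k =>
      ops240.mul signedRefl (ops240.mul (signedBase.getD k 0) signedRefl) == signedConj.getD k 0) &&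
    signedConj.all (fun c => (signedBase ++ signedSlp.map (·.1)).contains c) &&
    decide (signedConj.length = 6) &&
    (List.range 240).all fun i =>
      PackPerm.getP signedRefl i / 2 == PackPerm.getP reflLow (i / 2)

/-- The program is right, the listed members fix the first signed point and only its two copies,
and the generators reach every signed point from it. -/
noncomputable def fixB : Bool :=
  Bsgs.slpCheck ops240 signedBase signedSlp &&
    (signedFix.all fun r => (signedBase ++ signedSlp.map (·.1)).contains r && PackPerm.getP r 0 == 0) &&
    ((List.range 240).all fun i => Nat.blt i 2 || signedFix.any fun r => !(PackPerm.getP r i == i)) &&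
    (List.range 240).all fun i => Nat.beq i 0 ||
      let c := signedTree.getD i (0, 0, 0)
      Nat.blt c.1 6 && Nat.blt c.2.1 240 && Nat.blt (signedTree.getD c.2.1 (0, 0, 0)).2.2 c.2.2 &&
        PackPerm.getP (signedBase.getD c.1 0) c.2.1 == i

/-- The data of a twist. -/
structure Twist where
  /-- The generators on the other class. -/
  base : List ℕ
  /-- The labelling. -/
  rho : ℕ
  /-- The images of the generators. -/
  img : List ℕ
  /-- Their indices in the chain. -/
  idx : List (List ℕ)
  /-- A word with central square. -/
  word : List ℕ
  /-- An involution over its image. -/
  invol : ℕ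

/-- The twist to the second class. -/
def twistA : Twist :=
  ⟨oEightHighBase, twistOneRho, twistOneImg, twistOneIdx, twistOneWord, twistOneInvol⟩

/-- The twist to the third class. -/
def twistB : Twist :=
  ⟨oEightThirdBase, twistTwoRho, twistTwoImg, twistTwoIdx, twistTwoWord, twistTwoInvol⟩

/-- The images are the relabelled generators and lie in the group. -/
noncomputable def Twist.imgB (T : Twist) : Bool :=
  decide (T.img.length = 6) && decide (T.base.length = 6) && PackPerm.okP 120 T.rho &&
    (List.range 6).all fun k =>
      PackPerm.okP 120 (T.img.getD k 0) && PackPerm.okP 120 (T.base.getD k 0) &&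
        ((List.range 120).all fun x =>
          PackPerm.getP (T.img.getD k 0) (PackPerm.getP T.rho x) == PackPerm.getP T.rho (PackPerm.getP (T.base.getD k 0) x)) &&
        (T.img.getD k 0 == Bsgs.prodReps ops120 oEightLowLevels (T.idx.getD k []))

/-- The word has central square below and its image lifts to an involution. -/
noncomputable def Twist.witB (T : Twist) (va vb : Bool) : Bool :=
  let y := Coded.evO ops120 T.img T.word
  (T.word.all fun k => Nat.blt k 6) &&
    (Coded.evO ops120 oEightLowBase (T.word ++ T.word) == ops120.one) &&
    (sheetA.walk (T.word ++ T.word) (0, false)).2 == va &&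
    (sheetB.walk (T.word ++ T.word) (0, false)).2 == vb &&
    !((List.range 120).all fun i => PackPerm.getP (T.img.getD 0 0) i == i) &&
    (signedBase ++ signedSlp.map (·.1)).contains T.invol &&
    (ops240.mul T.invol T.invol == ops240.one) &&
    (List.range 240).all fun i => PackPerm.getP T.invol i / 2 == PackPerm.getP y (i / 2)

theorem signed_checks : signedB = true ∧ reflectB = true := by
  constructor <;> decide +kernel

theorem fix_checks : fixB = true := by
  decide +kernel

theorem refl_chain :
    chainB 120 (by norm_num) (oEightLowBase ++ [reflLow]) reflLevels reflSlp 348364800 = true := by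
  decide +kernel

theorem twistA_checks : twistA.imgB = true ∧ twistA.witB true false = true := by
  constructor <;> decide +kernel

theorem twistB_checks : twistB.imgB = true ∧ twistB.witB true true = true := by
  constructor <;> decide +kernel

end CfsgLib.OEightStd
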