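import Cfsg.Agent.Lib.OEightStd.Classes

/-!
# Checked equalities of words and the conjugates of a reflection
-/

set_option autoImplicit false
set_option maxRecDepth 100000

namespace CfsgLib.OEightStd

open Subgroup

attribute [local irreducible] reflTab ipTab signedBase signedRefl

/-- The roots of a word are signed points. -/
def wOk (w : List ℕ) : Bool := w.all fun a => Nat.blt a 240

/-- Two words agree on the frame. -/
def evB (u w : List ℕ) : Bool :=
  wOk u && wOk w && (List.range 16).all fun i => Nat.beq (evalW u i) (evalW w i)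

/-- Two words differ somewhere on the frame. -/
def neB (u w : List ℕ) : Bool :=
  wOk u && wOk w && (List.range 16).any fun i => !Nat.beq (evalW u i) (evalW w i)

/-- The word `n` takes `c` to `src` and is even. -/
def mcB (c src n : List ℕ) : Bool := evB (n ++ c) (src ++ n) && Nat.beq (n.length % 2) 0

theorem of_wOk {w : List ℕ} (h : wOk w = true) : ∀ a ∈ w, a < 240 := by
  simpa [wOk, List.all_eq_true] using h

theorem of_evB {u w : List ℕ} (h : evB u w = true) : wordE u = wordE w := by
  simp only [evB, Bool.and_eq_true, List.all_eq_true, List.mem_range, Nat.beq_eq] at h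
  exact wordE_eq (of_wOk h.1.1) (of_wOk h.1.2) h.2

theorem of_neB {u w : List ℕ} (h : neB u w = true) : wordE u ≠ wordE w := by
  simp only [neB, Bool.and_eq_true, List.any_eq_true, List.mem_range, Bool.not_eq_true'] at h
  obtain ⟨⟨hu, hw⟩, i, hi, hne⟩ := h
  intro e
  have e' := wordE_val (of_wOk hu) ⟨i, by omega⟩
  rw [e, wordE_val (of_wOk hw)] at e'
  have : Nat.beq (evalW u i) (evalW w i) = true := Nat.beq_eq ▸ e'.symm
  rw [this] at hne
  exact Bool.noConfusion hne

theorem wordE_nil : wordE ([] : List ℕ) = 1 := rfl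

theorem of_mcB {c src n : List ℕ} (h : mcB c src n = true) : MC MW (wordE c) (wordE src) := by
  simp only [mcB, Bool.and_eq_true, Nat.beq_eq] at h
  have hn : ∀ a ∈ n, a < 240 := by
    have := h.1
    simp only [evB, Bool.and_eq_true] at this
    intro a ha
    exact of_wOk this.1.1 a (List.mem_append_left _ ha)
  refine ⟨wordE n, (wordE_mem_iff hn).2 (Nat.even_iff.2 h.2), ?_⟩
  rw [mul_inv_eq_iff_eq_mul, ← wordE_append, ← wordE_append]
  exact of_evB h.1

/-- A reflection fixes the points orthogonal to its root and changes the sign of that. -/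
def reflB : Bool :=
  (List.range 240).all fun b => Nat.beq (evalW [b] b) (b ^^^ 1) &&
    (List.range 240).all fun x => !Nat.beq (ip b x) 2 || Nat.beq (evalW [b] x) x

/-- The frame is orthogonal and consists of pairs of opposite points. -/
def orthB : Bool :=
  (List.range 16).all fun i => Nat.beq (evalW tW i) (i ^^^ 1) &&
    (Nat.blt i 2 || (Nat.beq (ip 0 i) 2 && Nat.beq (evalW [0] i) i))

theorem reflB_ok : reflB = true := by decide +kernel

theorem orth_ok : orthB = true := by decide +kernel

theorem refl_fix {b x : Fin 240} (h : ip b.val x.val = 2) : (wordE [b.val]).1 x = x := by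
  have h' := reflB_ok
  simp only [reflB, List.all_eq_true, List.mem_range, Bool.and_eq_true, Bool.or_eq_true, Bool.not_eq_true',
    Nat.beq_eq] at h'
  refine Fin.ext ?_
  rw [wordE_val (w := [b.val]) (by simp)]
  refine ((h' b.val b.isLt).2 x.val x.isLt).resolve_left fun e => ?_
  have : Nat.beq (ip b.val x.val) 2 = true := Nat.beq_eq ▸ h
  rw [this] at e
  exact Bool.noConfusion e

theorem refl_neg (b : Fin 240) : (wordE [b.val]).1 b = (wordE tW).1 b := by
  have h' := reflB_ok
  simp only [reflB, List.all_eq_true, List.mem_range, Bool.and_eq_true, Nat.beq_eq] at h'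
  refine Fin.ext ?_
  rw [wordE_val (w := [b.val]) (by simp), (h' b.val b.isLt).1, tE_val]
  rcases Nat.mod_two_eq_zero_or_one b.val with e | e
  · rw [Nat.xor_one_of_even (Nat.even_iff.2 e)]; omega
  · rw [Nat.xor_one_of_odd (Nat.odd_iff.2 e)]; omega

/-- Conjugates of the first reflection are the reflections of the images of its root. -/
theorem conj_refl (n : W2) : n * wordE [0] * n⁻¹ = wordE [(n.1 0).val] := by
  suffices h : wordE [0] = n⁻¹ * wordE [(n.1 0).val] * n by rw [h]; group
  refine Subtype.ext (ext_frame (SetLike.coe_mem _) (SetLike.coe_mem _) fun i hi => ?_)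
  show (wordE [0]).1 i = n.1⁻¹ ((wordE [(n.1 0).val]).1 (n.1 i))
  rw [eq_comm, Equiv.Perm.inv_eq_iff_eq]
  have h := orth_ok
  simp only [orthB, List.all_eq_true, List.mem_range, Bool.and_eq_true, Bool.or_eq_true, Nat.beq_eq,
    Nat.blt_eq] at h
  by_cases h2 : i.val < 2
  · have hT : ∀ y : Fin 240, (wordE tW).1 (n.1 y) = n.1 ((wordE tW).1 y) := fun y =>
      Equiv.Perm.ext_iff.1 (congrArg Subtype.val (tE_central n).eq) y
    have h0 : (wordE [0]).1 0 = (wordE tW).1 0 := refl_neg 0
    have h1 : (wordE [(n.1 0).val]).1 (n.1 0) = (wordE tW).1 (n.1 0) := refl_neg _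
    have hi' : i = 0 ∨ i = (wordE tW).1 0 := by
      rcases Nat.lt_or_ge i.val 1 with e | e
      · exact Or.inl (Fin.ext (by show i.val = 0; omega))
      · refine Or.inr (Fin.ext ?_)
        rw [tE_val]
        show i.val = 1
        omega
    have hcm : ∀ (g : W2) (y : Fin 240), g.1 ((wordE tW).1 y) = (wordE tW).1 (g.1 y) := fun g y =>
      (Equiv.Perm.ext_iff.1 (congrArg Subtype.val (tE_central g).eq) y).symm
    rcases hi' with rfl | rfl
    · rw [h1, hT, h0]
    · rw [hcm n 0, hcm (wordE [(n.1 0).val]), h1, hcm (wordE [0]), h0, ← hT, ← hT]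
  · obtain ⟨e1, e2⟩ := (h i.val hi).2.resolve_left h2
    have h0 : (wordE [0]).1 i = i := Fin.ext (by rw [wordE_val (w := [0]) (by simp)]; exact e2)
    rw [h0, refl_fix (by rw [ip_act n.2 0 i]; exact e1)]

end CfsgLib.OEightStd
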