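import Cfsg.Agent.Lib.OEightStd.Model
import Cfsg.Agent.Lib.OEightStd.RootData

/-!
# Inner products and reflections of the signed points; an element is determined by its effect on a frame
-/

set_option autoImplicit false
set_option maxRecDepth 100000

namespace CfsgLib.OEightStd

open CfsgLib.Golay CfsgLib.TailsData CfsgLib.Schur.Tails CfsgLib.Schur.Tails.OEight Subgroup

/-- The inner product plus two. -/
def ip (a b : ℕ) : ℕ := (ipTab.getD a 0 >>> (4 * b)) % 16

/-- The inner products with the frame. -/
def sig (a : ℕ) : ℕ := ipTab.getD a 0 % 2 ^ 64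

/-- The code of the reflection of a point. -/
def reflC (a : ℕ) : ℕ := reflTab.getD (a / 2) 0

/-- The generators respect the inner products. -/
def ipB : Bool :=
  (signedBase ++ [signedRefl]).all fun g => (List.range 240).all fun a => (List.range 240).all fun b =>
    Nat.beq (ip (PackPerm.getP g a) (PackPerm.getP g b)) (ip a b)

/-- A point is determined by its inner products with the frame. -/
def sigB : Bool :=
  (List.range 240).all fun a => (List.range 240).all fun b => Nat.beq a b || !Nat.beq (sig a) (sig b)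

/-- The reflections are the conjugates of the given one. -/
noncomputable def treeB : Bool :=
  (reflTab.getD 0 0 == signedRefl) && (List.range 120).all fun b =>
    PackPerm.okP 240 (reflTab.getD b 0) && (Nat.beq b 0 ||
      let c := reflTree.getD b (0, 0, 0)
      Nat.blt c.1 6 && Nat.blt c.2.1 120 && Nat.blt (reflTree.getD c.2.1 (0, 0, 0)).2.2 c.2.2 &&
        (ops240.mul (reflTab.getD b 0) (signedBase.getD c.1 0) ==
          ops240.mul (signedBase.getD c.1 0) (reflTab.getD c.2.1 0)))

theorem ip_ok : ipB = true := by decide +kernel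

theorem sig_ok : sigB = true := by decide +kernel

theorem tree_ok : treeB = true := by decide +kernel

/-- The reflection of a point. -/
noncomputable def reflP (a : ℕ) : Equiv.Perm (Fin 240) := permC 240 (reflC a)

theorem refl_ok {b : ℕ} (hb : b < 120) : PackPerm.okP 240 (reflTab.getD b 0) = true := by
  have h := tree_ok
  simp only [treeB, Bool.and_eq_true, List.all_eq_true, List.mem_range] at h
  exact (h.2 b hb).1

theorem reflC_ok {a : ℕ} (ha : a < 240) : PackPerm.okP 240 (reflC a) = true := refl_ok (by omega)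

/-- The reflection of the first point. -/
theorem refl_top : permC 240 signedRefl ∈ M2 :=
  subset_closure ⟨signedRefl, List.mem_append_right _ (List.mem_singleton_self _), rfl⟩

theorem gen_mem {k : ℕ} (hk : k < 6) : permC 240 (signedBase.getD k 0) ∈ M := by
  rw [List.getD_eq_getElem _ _ (by rw [signed_len]; exact hk)]
  exact subset_closure ⟨_, List.getElem_mem _, rfl⟩

/-- A member outside the cover times one in it stays outside. -/
theorem mul_notMem {g h : Equiv.Perm (Fin 240)} (hg : g ∉ M) (hh : h ∈ M) : g * h ∉ M ∧ h * g ∉ M :=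
  ⟨fun e => hg (by simpa [mul_assoc] using mul_mem e (inv_mem hh)),
    fun e => hg (by simpa using mul_mem (inv_mem hh) e)⟩

theorem reflTab_mem : ∀ n b : ℕ, b < 120 → (reflTree.getD b (0, 0, 0)).2.2 ≤ n →
    permC 240 (reflTab.getD b 0) ∈ M2 ∧ permC 240 (reflTab.getD b 0) ∉ M := by
  have h := tree_ok
  simp only [treeB, Bool.and_eq_true, List.all_eq_true, List.mem_range, Bool.or_eq_true, Nat.beq_eq, Nat.blt_eq,
    beq_iff_eq] at h
  obtain ⟨h0, h⟩ := h
  intro n
  induction n with
  | zero =>
    intro b hb hd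
    rcases (h b hb).2 with rfl | ⟨⟨⟨hk, hp⟩, hlt⟩, -⟩
    · rw [h0]; exact ⟨refl_top, refl_notMem⟩
    · omega
  | succ n ih =>
    intro b hb hd
    rcases (h b hb).2 with rfl | ⟨⟨⟨hk, hp⟩, hlt⟩, e⟩
    · rw [h0]; exact ⟨refl_top, refl_notMem⟩
    obtain ⟨hm, hn⟩ := ih _ hp (by omega)
    have hg := gen_mem hk
    have hgok : PackPerm.okP 240 (signedBase.getD (reflTree.getD b (0, 0, 0)).1 0) = true := by
      rw [List.getD_eq_getElem _ _ (by rw [signed_len]; exact hk)]
      exact signed_ok _ (List.getElem_mem _)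
    have e' := congrArg ops240.val e
    rw [ops240.val_mul _ _ (refl_ok hb) hgok, ops240.val_mul _ _ hgok (refl_ok hp)] at e'
    have e'' := eq_mul_inv_of_mul_eq e'
    show ops240.val _ ∈ M2 ∧ ops240.val _ ∉ M
    rw [e'']
    exact ⟨mul_mem (mul_mem (M_le_M2 hg) hm) (inv_mem (M_le_M2 hg)),
      (mul_notMem (mul_notMem hn hg).2 (inv_mem hg)).1⟩

theorem reflP_mem {a : ℕ} (ha : a < 240) : reflP a ∈ M2 ∧ reflP a ∉ M :=
  reflTab_mem _ _ (by omega) le_rfl

theorem ip_act {g : Equiv.Perm (Fin 240)} (hg : g ∈ M2) (a b : Fin 240) :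
    ip (g a).val (g b).val = ip a.val b.val := by
  have h := ip_ok
  simp only [ipB, List.all_eq_true, List.mem_range, Nat.beq_eq] at h
  induction hg using closure_induction generalizing a b with
  | mem x hx =>
    obtain ⟨c, hc, rfl⟩ := hx
    have hok : PackPerm.okP 240 c = true := by
      rcases List.mem_append.1 hc with hc | hc
      · exact signed_ok c hc
      · rw [List.mem_singleton.1 hc]; exact refl_checks'.1
    rw [permC_apply hok, permC_apply hok]
    exact h c hc a.val a.isLt b.val b.isLt
  | one => rfl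
  | mul x y _ _ hx hy => rw [Equiv.Perm.mul_apply, Equiv.Perm.mul_apply, hx, hy]
  | inv x _ hx =>
    rw [← hx (x⁻¹ a) (x⁻¹ b)]
    simp [Equiv.Perm.inv_def]

theorem sig_eq {a b : ℕ} (h : ∀ i < 16, ip a i = ip b i) : sig a = sig b := by
  refine Nat.eq_of_testBit_eq fun j => ?_
  simp only [sig, Nat.testBit_mod_two_pow]
  by_cases hj : j < 64
  · have e := congrArg (fun x => Nat.testBit x (j % 4)) (h (j / 4) (by omega))
    simp only [ip, show (16 : ℕ) = 2 ^ 4 from rfl, Nat.testBit_mod_two_pow, Nat.testBit_shiftRight,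
      Nat.mod_lt j (show 4 > 0 by norm_num), decide_true, Bool.true_and,
      show 4 * (j / 4) + j % 4 = j by omega] at e
    rw [e]
  · simp [hj]

/-- An element is determined by its effect on the frame. -/
theorem ext_frame {g g' : Equiv.Perm (Fin 240)} (hg : g ∈ M2) (hg' : g' ∈ M2)
    (h : ∀ i : Fin 240, i.val < 16 → g i = g' i) : g = g' := by
  suffices key : ∀ u ∈ M2, (∀ i : Fin 240, i.val < 16 → u i = i) → u = 1 from
    (inv_mul_eq_one.1 (key (g'⁻¹ * g) (mul_mem (inv_mem hg') hg) fun i hi => by
      rw [Equiv.Perm.mul_apply, h i hi]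
      simp [Equiv.Perm.inv_def])).symm
  intro u hu hfix
  refine Equiv.ext fun a => ?_
  have hs : sig (u a).val = sig a.val := sig_eq fun i hi => by
    have e := ip_act hu a ⟨i, by omega⟩
    rw [hfix ⟨i, by omega⟩ hi] at e
    exact e
  have hb := sig_ok
  simp only [sigB, List.all_eq_true, List.mem_range, Bool.or_eq_true, Bool.not_eq_true', Nat.beq_eq] at hb
  refine Fin.ext ((hb _ (u a).isLt _ a.isLt).resolve_right fun e => ?_)
  have : Nat.beq (sig (u a).val) (sig a.val) = true := Nat.beq_eq ▸ hs
  rw [this] at e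
  exact Bool.noConfusion e

/-- A product of reflections. -/
noncomputable def wordP (w : List ℕ) : Equiv.Perm (Fin 240) := (w.map reflP).prod

/-- Its effect on a point. -/
def evalW (w : List ℕ) (i : ℕ) : ℕ := w.foldr (fun a x => PackPerm.getP (reflC a) x) i

theorem wordP_cons (a : ℕ) (w : List ℕ) : wordP (a :: w) = reflP a * wordP w := rfl

theorem wordP_append (u w : List ℕ) : wordP (u ++ w) = wordP u * wordP w := by
  simp [wordP]

theorem wordP_mem : ∀ {w : List ℕ}, (∀ a ∈ w, a < 240) → wordP w ∈ M2
  | [], _ => one_mem _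
  | a :: _, h => mul_mem (reflP_mem (h a List.mem_cons_self)).1 (wordP_mem fun b hb => h b (List.mem_cons_of_mem _ hb))

theorem wordP_apply : ∀ {w : List ℕ}, (∀ a ∈ w, a < 240) → ∀ i : Fin 240, (wordP w i).val = evalW w i.val
  | [], _, _ => rfl
  | a :: w, h, i => by
    rw [wordP_cons, Equiv.Perm.mul_apply, reflP, permC_apply (reflC_ok (h a List.mem_cons_self)),
      wordP_apply (fun b hb => h b (List.mem_cons_of_mem _ hb)) i]
    rfl

theorem mem_M_mul {g h : Equiv.Perm (Fin 240)} (hg : g ∈ M2) (hh : h ∈ M2) (ng : g ∉ M) (nh : h ∉ M) :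
    g * h ∈ M := by
  obtain ⟨-, hRR, -, -, -⟩ := refl_checks'
  have a := (mem_M2 hh).resolve_left nh
  have b : g * permC 240 signedRefl ∈ M := by
    have := refl_conj ((mem_M2 hg).resolve_left ng)
    rwa [← mul_assoc, hRR, one_mul] at this
  have := mul_mem b a
  rwa [mul_assoc, ← mul_assoc (permC 240 signedRefl), hRR, one_mul] at this

/-- A product of reflections is in the cover just when their number is even. -/
theorem wordP_mem_iff : ∀ {w : List ℕ}, (∀ a ∈ w, a < 240) → (wordP w ∈ M ↔ Even w.length)
  | [], _ => by simpa [wordP] using one_mem M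
  | a :: w, h => by
    have hw : ∀ b ∈ w, b < 240 := fun b hb => h b (List.mem_cons_of_mem _ hb)
    obtain ⟨h1, h2⟩ := reflP_mem (h a List.mem_cons_self)
    rw [wordP_cons, List.length_cons, Nat.even_add_one, ← wordP_mem_iff hw]
    exact ⟨fun e hm => (mul_notMem h2 hm).1 e, fun hn => mem_M_mul h1 (wordP_mem hw) h2 hn⟩

/-- Two products agreeing on the frame are equal. -/
theorem wordP_eq {u w : List ℕ} (hu : ∀ a ∈ u, a < 240) (hw : ∀ a ∈ w, a < 240)
    (h : ∀ i < 16, evalW u i = evalW w i) : wordP u = wordP w :=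
  ext_frame (wordP_mem hu) (wordP_mem hw) fun i hi => Fin.ext (by
    rw [wordP_apply hu, wordP_apply hw, h i.val hi])

end CfsgLib.OEightStd
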