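import Cfsg.Agent.Lib.OEightStd.Basic

/-!
# Roots of the central involution and the class of `t * s` avoid the class of the central involution
-/

set_option autoImplicit false

namespace CfsgLib.OEightStd

variable {W : Type*} [Group W] {M : Subgroup W} {t s qa qb R r k : W}
variable {G : Type*} [Group G]

theorem five_le (w : W) : Five M w ≤ M := (Subgroup.closure_le _).2 fun _ h => h.1

theorem five2_le (v w : W) : Five2 M v w ≤ M := (Subgroup.closure_le _).2 fun _ h => h.1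

namespace Facts

variable (F : Facts M t s qa qb R r k)
include F

theorem s_ne : s ≠ 1 := fun h => F.s_five (by rw [h]; exact one_mem _)

theorem s_ne_t : s ≠ t := by
  intro h
  obtain ⟨s', ⟨m, -, rfl⟩, -, ⟨n, -, hn⟩, -⟩ := F.s_pair
  refine F.s_ne ?_
  rw [h, ← F.tc m, mul_inv_cancel_right, F.t2, ← F.tc n, mul_inv_cancel_right] at hn
  exact absurd hn F.t_ne

theorem mc_mem {a b : W} (ha : a ∈ M) (h : MC M a b) : b ∈ M := by
  obtain ⟨m, -, rfl⟩ := h
  exact F.conj_mem m ha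

theorem ts_mem : t * s ∈ M := mul_mem F.t_mem F.s_mem

theorem innerCl_mem {a : W} (h : InnerCl M t s qa qb a) : a ∈ M := by
  rcases h with h | h | h | h
  exacts [F.mc_mem F.s_mem h, F.mc_mem F.ts_mem h, F.mc_mem F.qa_mem h, F.mc_mem F.qb_mem h]

theorem mc_out {a b : W} (ha : a ∉ M) (h : MC M a b) : b ∉ M := by
  obtain ⟨m, hm, rfl⟩ := h
  exact fun h => ha (by
    have := mul_mem (mul_mem (inv_mem hm) h) hm
    rwa [show m⁻¹ * (m * a * m⁻¹) * m = a by group] at this)

theorem five_mc_t {a w : W} (h : MC M a w) (ht : t ∈ Five M w) : t ∈ Five M a := by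
  obtain ⟨m, -, -, hx⟩ := F.five_of_mc h ht
  rwa [← F.tc m⁻¹, inv_mul_cancel_right] at hx

end Facts

namespace Setting

variable {ι : M →* G} (D : Setting M t s qa qb R r k ι)

local notation "T" => io ι t
local notation "K" => Subgroup.centralizer (ι.range : Set G)
local notation "InX" => IsConj (io ι t)

include D

theorem x_sq {y : G} (h : InX y) : y * y = 1 := by
  obtain ⟨g, hg⟩ := isConj_iff.1 h
  rw [← hg, show g * T * g⁻¹ * (g * T * g⁻¹) = g * (T * T) * g⁻¹ by group, D.tt, mul_one, mul_inv_cancel]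

theorem x_ne {y : G} (h : InX y) : y ≠ 1 := fun e => D.tne (isConj_one_left.1 (e ▸ h))

omit D in
theorem x_conj {y : G} (g : G) (h : InX y) : InX (g * y * g⁻¹) := h.trans (isConj_iff.2 ⟨g, rfl⟩)

theorem conj_io {a b : W} (ha : a ∈ M) (h : MC M a b) : IsConj (io ι a) (io ι b) := by
  obtain ⟨m, hm, rfl⟩ := h
  exact isConj_iff.2 ⟨io ι m, acts_io hm a ha⟩

theorem acts_conj {g h : G} {v w : W} (hg : Acts ι g v) (hh : Acts ι h w) :
    Acts ι (g * h * g⁻¹) (v * w * v⁻¹) := D.acts_mul (D.acts_mul hg hh) (D.acts_inv hg)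

theorem acts_pow {g : G} {w : W} (h : Acts ι g w) : ∀ n : ℕ, Acts ι (g ^ n) (w ^ n)
  | 0 => by rw [pow_zero, pow_zero]; exact acts_K (one_mem _)
  | n + 1 => by rw [pow_succ, pow_succ]; exact D.acts_mul (acts_pow h n) h

theorem acts_sq {y : G} {w : W} (h : Acts ι y w) (h2 : y * y = 1) : w * w = 1 ∨ w * w = t := by
  have h1 := D.acts_mul h h
  rw [h2] at h1
  rcases D.acts_unique h1 (acts_K (one_mem _)) with e | e
  · exact Or.inl e
  · exact Or.inr (by rw [e, mul_one])

/-- Fifth roots of one commuting with `T` and with an element acting as `w`. -/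
theorem gen_split {h y : G} {w : W} (h5 : h ^ 5 = 1) (hT : Commute h T) (hy : Commute h y)
    (hw : Acts ι y w) : ∃ v ∈ M, v ^ 5 = 1 ∧ Commute v w ∧ ∃ o ∈ K, o ^ 5 = 1 ∧ h = io ι v * o := by
  obtain ⟨v, hv⟩ := D.act h hT
  have hv5 : v ^ 5 = 1 ∨ v ^ 5 = t := by
    have h1 := D.acts_pow hv 5
    rw [h5] at h1
    rcases D.acts_unique h1 (acts_K (one_mem _)) with e | e
    · exact Or.inl e
    · exact Or.inr (by rw [e, mul_one])
  have hvM : v ∈ M := by
    have h4 : v ^ 4 ∈ M := by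
      rw [show v ^ 4 = v * v * (v * v) by simp [pow_succ, mul_assoc]]
      exact mul_mem (D.facts.sq_mem v) (D.facts.sq_mem v)
    have h5' : v ^ 5 ∈ M := by rcases hv5 with e | e <;> rw [e]; exacts [one_mem _, D.facts.t_mem]
    have := mul_mem (inv_mem h4) h5'
    rwa [pow_succ v 4, inv_mul_cancel_left] at this
  obtain ⟨a, haM, ha5, ha⟩ : ∃ a ∈ M, a ^ 5 = 1 ∧ Acts ι h a := by
    rcases hv5 with e | e
    · exact ⟨v, hvM, e, hv⟩
    · refine ⟨t * v, mul_mem D.facts.t_mem hvM, ?_, D.acts_t hv⟩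
      rw [(D.facts.t_central v).mul_pow, e,
        show t ^ 5 = t * t * (t * t) * t by simp [pow_succ, mul_assoc], D.facts.t2, one_mul, one_mul, D.facts.t2]
  obtain ⟨o, ho, rfl⟩ := D.inner_eq haM ha
  refine ⟨a, haM, ha5, D.facts.commute_of_five ha5 ?_, o, ho, ?_, rfl⟩
  · have h1 := D.acts_conj ha hw
    rw [hy.eq, mul_inv_cancel_right] at h1
    exact D.acts_unique h1 hw
  · have hc : Commute (io ι a) o := (range_comm ho haM).symm
    rw [hc.mul_pow, ← (show io ι (a ^ 5) = io ι a ^ 5 by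
      simp only [pow_succ, pow_zero, one_mul, io_mul ι (mul_mem (mul_mem (mul_mem haM haM) haM) haM) haM,
        io_mul ι (mul_mem (mul_mem haM haM) haM) haM, io_mul ι (mul_mem haM haM) haM, io_mul ι haM haM]),
      ha5, io_one, one_mul] at h5
    exact h5

theorem gam_split {y : G} {w : W} (hw : Acts ι y w) {h : G} (hh : h ∈ Gam T y) :
    ∃ a ∈ Five M w, ∃ o ∈ OddFive ι, h = io ι a * o := by
  have hK : OddFive ι ≤ K := (Subgroup.closure_le _).2 fun _ h => h.1
  induction hh using Subgroup.closure_induction with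
  | mem h hh =>
    obtain ⟨v, hv, hv5, hvw, o, ho, ho5, e⟩ := D.gen_split hh.1 hh.2.1 hh.2.2 hw
    exact ⟨v, Subgroup.subset_closure ⟨hv, hv5, hvw⟩, o, Subgroup.subset_closure ⟨ho, ho5⟩, e⟩
  | one => exact ⟨1, one_mem _, 1, one_mem _, by rw [io_one, mul_one]⟩
  | mul a b _ _ iha ihb =>
    obtain ⟨v, hv, o, ho, rfl⟩ := iha
    obtain ⟨v', hv', o', ho', rfl⟩ := ihb
    exact ⟨v * v', mul_mem hv hv', o * o', mul_mem ho ho',
      D.mul_io_comm (hK ho) (five_le _ hv) (five_le _ hv')⟩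
  | inv a _ ih =>
    obtain ⟨v, hv, o, ho, rfl⟩ := ih
    exact ⟨v⁻¹, inv_mem hv, o⁻¹, inv_mem ho, by
      rw [mul_inv_rev, io_inv ι (five_le _ hv),
        ((range_comm (hK ho) (five_le _ hv)).inv_left.inv_right).eq]⟩

/-- The elements coming from the component. -/
theorem io_gam {a b : G} (L : Subgroup W) {S : Set W} (hS : L = Subgroup.closure S)
    (h : ∀ x ∈ S, x ∈ M ∧ x ^ 5 = 1 ∧ Commute (io ι x) a ∧ Commute (io ι x) b) {v : W} (hv : v ∈ L) :
    io ι v ∈ Gam a b := by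
  subst hS
  have hle : Subgroup.closure S ≤ M := (Subgroup.closure_le _).2 fun x hx => (h x hx).1
  induction hv using Subgroup.closure_induction with
  | mem x hx =>
    obtain ⟨hxM, h5, h1, h2⟩ := h x hx
    refine Subgroup.subset_closure ⟨?_, h1, h2⟩
    rw [io_eq ι hxM, ← map_pow, show (⟨x, hxM⟩ : M) ^ 5 = 1 from Subtype.ext h5, map_one]
  | one => rw [io_one]; exact one_mem _
  | mul x y hx hy ihx ihy => rw [io_mul ι (hle hx) (hle hy)]; exact mul_mem ihx ihy
  | inv x hx ih => rw [io_inv ι (hle hx)]; exact inv_mem ih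

theorem io_five {a : W} {y : G} (hy : ∀ x ∈ M, Commute x a → Commute (io ι x) y) {v : W}
    (hv : v ∈ Five M a) : io ι v ∈ Gam T y :=
  D.io_gam _ rfl (fun _ hx => ⟨hx.1, hx.2.1, D.comm_T_io hx.1, hy _ hx.1 hx.2.2⟩) hv

theorem io_commute {a b : W} (ha : a ∈ M) (hb : b ∈ M) (h : Commute a b) : Commute (io ι a) (io ι b) := by
  show io ι a * io ι b = io ι b * io ι a
  rw [← io_mul ι ha hb, ← io_mul ι hb ha, h.eq]

variable [Finite G]

theorem cases_inner {y : G} {w : W} (hw : w ∈ M) (h : Acts ι y w) (h2 : y * y = 1) :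
    (∃ a ∈ M, y = io ι a ∧ a * a = 1) ∨ ∃ a ∈ M, ∃ x ∈ K, y = io ι a * x ∧ a * a = t ∧ x * x = T := by
  obtain ⟨x, hx, rfl⟩ := D.inner_eq hw h
  rw [D.mul_io_comm hx hw hw] at h2
  rcases D.split (mul_mem hw hw) (one_mem M) (mul_mem hx hx) (one_mem _)
      (by rw [h2, io_one, one_mul]) with ⟨e, e'⟩ | ⟨e, e'⟩
  · rcases D.invol_K hx e' with rfl | rfl
    · exact Or.inl ⟨w, hw, mul_one _, e.symm⟩
    · refine Or.inl ⟨w * t, mul_mem hw D.facts.t_mem, (io_mul ι hw D.facts.t_mem).symm, ?_⟩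
      rw [(D.facts.t_central w).mul_mul_mul_comm, ← e, D.facts.t2, one_mul]
  · refine Or.inr ⟨w, hw, x, hx, rfl, ?_, by rw [e', mul_one]⟩
    rw [← D.facts.tt_mul (w * w), ← e, mul_one]

omit [Finite G] in
theorem outer_type {y : G} {w : W} (hw : w ∉ M) (h : Acts ι y w) (h2 : y * y = 1) :
    ∃ v, (MC M r v ∨ MC M k v) ∧ Acts ι y v := by
  rcases D.facts.outer_cases w hw (D.acts_sq h h2) with e | e | e | e
  · exact ⟨w, Or.inl e, h⟩
  · exact ⟨t * w, Or.inl (by have := D.facts.mc_t e; rwa [D.facts.tt_mul] at this), D.acts_t h⟩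
  · exact ⟨w, Or.inr e, h⟩
  · exact ⟨t * w, Or.inr (by have := D.facts.mc_t e; rwa [D.facts.tt_mul] at this), D.acts_t h⟩

theorem inner_cl {a : W} (ha : a ∈ M) (h2 : a * a = 1) (hX : InX (io ι a)) (hT : io ι a ≠ T) :
    InnerCl M t s qa qb a := by
  rcases D.facts.inner_cases a ha h2 with rfl | rfl | h
  · exact absurd (io_one ι) (D.x_ne hX)
  · exact absurd rfl hT
  · exact h

omit [Finite G] in
theorem odd_eq_one {o : G} (ho : Odd (orderOf o)) (h2 : o * o = 1) : o = 1 := by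
  rw [← orderOf_eq_one_iff]
  have h := orderOf_dvd_of_pow_eq_one (pow_two o ▸ h2)
  rcases (Nat.dvd_prime Nat.prime_two).1 h with e | e
  · exact e
  · rw [e] at ho; exact absurd ho (by decide)

theorem T_not_odd : ¬ T ∈ OddFive ι := fun h => D.tne (D.odd_eq_one (D.oddFive h).2 D.tt)

theorem sq_ne_T {o : G} (h : o ∈ OddFive ι) : o * o ≠ T := fun e => D.T_not_odd (e ▸ mul_mem h h)

/-- A member of the class generated by the fifth roots of one centralising it is of the type of `t * s`. -/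
theorem self_five {y : G} (hX : InX y) (hc : Commute y T) (hT : y ≠ T) (hy : y ∈ Gam T y) :
    ∃ a ∈ M, y = io ι a ∧ MC M (t * s) a := by
  obtain ⟨w, hw⟩ := D.act y hc
  obtain ⟨b, hb, o, ho, e⟩ := D.gam_split hw hy
  have hoK : o ∈ K := (D.oddFive ho).1
  have hbM := five_le _ hb
  have hyb : Acts ι y b := by
    rw [e]; simpa using D.acts_mul (acts_io hbM) (acts_K hoK)
  have hb' : b ∈ Five M b := by
    rcases D.acts_unique hw hyb with e' | e' <;> rw [e'] at hb
    · exact hb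
    · rwa [D.facts.five_t] at hb
  rcases D.cases_inner hbM hyb (D.x_sq hX) with ⟨a, haM, ea, ha2⟩ | ⟨a, haM, x, hx, ea, ha2, hx2⟩
  · rcases D.split haM hbM (one_mem _) hoK (by rw [mul_one, ← ea]; exact e) with ⟨rfl, -⟩ | ⟨-, h1⟩
    · refine ⟨b, hbM, ea, ?_⟩
      have hne : b ≠ 1 := fun h => D.x_ne hX (by rw [ea, h, io_one])
      rcases D.inner_cl haM ha2 (ea ▸ hX) (ea ▸ hT) with h | h | h | h
      · exfalso
        obtain ⟨m, -, hm, hx⟩ := D.facts.five_of_mc h hb'
        rw [← hm, show m⁻¹ * (m * s * m⁻¹) * m = s by group] at hx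
        exact D.facts.s_five hx
      · exact h
      all_goals
        exfalso
        obtain ⟨m, -, hm, hx⟩ := D.facts.five_of_mc h hb'
        refine hne ?_
        have e1 := D.facts.five_trivial (by simp) hx
        rw [show b = m * (m⁻¹ * b * m) * m⁻¹ by group, e1, mul_one, mul_inv_cancel]
    · exfalso
      refine D.T_not_odd ?_
      rwa [eq_inv_of_mul_eq_one_left (show T * o = 1 from h1.symm), inv_mem_iff]
  · exfalso
    rcases D.split haM hbM hx hoK (by rw [← ea]; exact e) with ⟨-, h1⟩ | ⟨-, h1⟩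
    · exact D.sq_ne_T ho (h1 ▸ hx2)
    · refine D.sq_ne_T ho ?_
      rw [← hx2, h1, (range_comm hoK D.facts.t_mem).mul_mul_mul_comm, D.tt, one_mul]

/-- No root of `t` times an element of the centraliser. -/
theorem no_root {a : W} (ha : a ∈ M) (ha2 : a * a = t) {x : G} (hx : x ∈ K) (hx2 : x * x = T) :
    ¬ InX (io ι a * x) := by
  intro hX
  set y := io ι a * x with hy
  have hyx : Commute x y := (range_comm hx ha).mul_right (Commute.refl x)
  have hya : Acts ι y a := by simpa [hy] using D.acts_mul (acts_io ha) (acts_K hx)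
  have hT : y ≠ T := fun e => by
    rcases D.split ha D.facts.t_mem hx (one_mem _) (by rw [← hy, e, mul_one]) with ⟨e', -⟩ | ⟨e', -⟩
    · rw [← e', D.facts.t2] at ha2; exact D.facts.t_ne ha2.symm
    · have : a = 1 := by rw [← D.facts.tt_mul a, ← e', D.facts.t2]
      rw [this, one_mul] at ha2; exact D.facts.t_ne ha2.symm
  obtain ⟨g, hg⟩ := isConj_iff.1 hX.symm
  set y' := g * T * g⁻¹ with hy'
  have hy'X : InX y' := x_conj g (IsConj.refl _)
  have hy'T : Commute y' T := by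
    have := (D.comm_of_acts hya).symm.conj g
    rwa [hg] at this
  have hy'ne : y' ≠ T := fun e => hT (mul_left_cancel (mul_right_cancel (hg.trans e.symm)))
  have hin : y' ∈ Gam T y' := by
    have h1 : T ∈ Gam T y := by
      refine D.io_five (a := a) (fun v hv hva => ?_) ?_
      · exact (D.io_commute hv ha hva).mul_right (range_comm hx hv).symm
      · obtain ⟨w, rfl⟩ := D.facts.root_cases a ha ha2
        have := D.facts.five_conj (m := w) D.facts.five_root
        rwa [← D.facts.tc w, mul_inv_cancel_right] at this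
    have h2 := conj_gam g h1
    rwa [hg, gam_comm] at h2
  obtain ⟨b, hbM, hb, hbc⟩ := D.self_five hy'X hy'T hy'ne hin
  obtain ⟨m, hm, hmb⟩ := hbc
  have hx' : Commute (g * x * g⁻¹) T := by
    have := hyx.conj g
    rwa [hg] at this
  obtain ⟨w, hw⟩ := D.act _ hx'
  have key : ∀ v ∈ M, v ^ 5 = 1 → Commute v s → Commute v (m⁻¹ * w * m) := by
    intro v hv h5 hvs
    have hv' : m * v * m⁻¹ ∈ M := mul_mem (mul_mem hm hv) (inv_mem hm)
    have hvb : Commute (m * v * m⁻¹) b := by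
      rw [← hmb]; exact ((D.facts.commute_t_iff).2 hvs).conj m
    have h5' : (m * v * m⁻¹) ^ 5 = 1 := by rw [conj_pow, h5, mul_one, mul_inv_cancel]
    set h := g⁻¹ * io ι (m * v * m⁻¹) * g with hh
    have hh5 : h ^ 5 = 1 := by
      rw [hh, show g⁻¹ * io ι (m * v * m⁻¹) * g = g⁻¹ * io ι (m * v * m⁻¹) * g⁻¹⁻¹ by rw [inv_inv], conj_pow,
        io_eq ι hv', ← map_pow, show (⟨_, hv'⟩ : M) ^ 5 = 1 from Subtype.ext h5', map_one, mul_one,
        mul_inv_cancel]
    have hhT : Commute h T := by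
      have := (hb ▸ D.io_commute hv' hbM hvb : Commute (io ι (m * v * m⁻¹)) y').conj g⁻¹
      rwa [hy', inv_inv, show g⁻¹ * (g * T * g⁻¹) * g = T by group] at this
    have hhy : Commute h y := by
      have := (D.comm_T_io hv').conj g⁻¹
      rwa [inv_inv, show g⁻¹ * T * g = y by rw [← hg]; group] at this
    obtain ⟨v', hv'M, -, hva, o, ho, ho5, e⟩ := D.gen_split hh5 hhT hhy hya
    have hox : Commute o x := by
      have h1 := hhy.eq
      rw [e, hy, D.mul_io_comm ho hv'M ha, D.mul_io_comm hx ha hv'M, hva.eq] at h1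
      exact mul_left_cancel h1
    have hhx : Commute h x := e ▸ (range_comm hx hv'M).symm.mul_left hox
    have h2 := hhx.conj g
    rw [hh, show g * (g⁻¹ * io ι (m * v * m⁻¹) * g) * g⁻¹ = io ι (m * v * m⁻¹) by group] at h2
    have h3 := D.acts_conj (acts_io hv') hw
    rw [h2.eq, mul_inv_cancel_right] at h3
    have h4 := (D.facts.commute_of_five h5' (D.acts_unique h3 hw)).conj m⁻¹
    simpa [mul_assoc] using h4
  have hsq : w * w = 1 := by
    have h := D.facts.five_cent _ key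
    have h' : m⁻¹ * (w * w) * m = 1 := by rw [← h]; group
    calc w * w = m * (m⁻¹ * (w * w) * m) * m⁻¹ := by group
      _ = 1 := by rw [h', mul_one, mul_inv_cancel]
  have h1 := D.acts_mul hw hw
  rw [hsq, show g * x * g⁻¹ * (g * x * g⁻¹) = g * (x * x) * g⁻¹ by group, hx2, ← hy', hb] at h1
  rcases D.acts_unique (acts_io hbM) h1 with e | e <;> rw [e] at hmb
  · refine D.facts.s_ne_t ?_
    have : t * s = 1 := by
      rw [show t * s = m⁻¹ * (m * (t * s) * m⁻¹) * m by group, hmb, mul_one, inv_mul_cancel]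
    rw [← D.facts.tt_mul s, this, mul_one]
  · refine D.facts.s_ne ?_
    rw [mul_one] at hmb
    have : t * s = t := by
      rw [show t * s = m⁻¹ * (m * (t * s) * m⁻¹) * m by group, hmb, ← D.facts.tc m⁻¹, inv_mul_cancel_right]
    exact mul_eq_left.1 this

theorem cases_x {y : G} (hX : InX y) (hc : Commute y T) (hT : y ≠ T) :
    (∃ a ∈ M, y = io ι a ∧ InnerCl M t s qa qb a) ∨ ∃ w, (MC M r w ∨ MC M k w) ∧ Acts ι y w := by
  obtain ⟨w, hw⟩ := D.act y hc
  by_cases hwM : w ∈ M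
  · rcases D.cases_inner hwM hw (D.x_sq hX) with ⟨a, ha, e, h2⟩ | ⟨a, ha, x, hx, e, h2, hx2⟩
    · exact Or.inl ⟨a, ha, e, D.inner_cl ha h2 (e ▸ hX) (e ▸ hT)⟩
    · exact absurd (e ▸ hX) (D.no_root ha h2 hx hx2)
  · exact Or.inr (D.outer_type hwM hw (D.x_sq hX))

/-- The class of `t * s` avoids the class. -/
theorem no_ts {a : W} (h : MC M (t * s) a) : ¬ InX (io ι a) := by
  intro hX
  have ha : a ∈ M := D.facts.mc_mem D.facts.ts_mem h
  have haa : a ∈ Five M a := by
    obtain ⟨m, -, rfl⟩ := h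
    have := D.facts.five_conj (m := m) D.facts.five_ts
    rwa [← D.facts.five_t (m * s * m⁻¹), ← D.facts.conj_t] at this
  have hT : io ι a ≠ T := fun e => by
    obtain ⟨m, -, hm⟩ := h
    rw [D.io_inj ha D.facts.t_mem e] at hm
    refine D.facts.s_ne (mul_eq_left.1 (show t * s = t from ?_))
    rw [show t * s = m⁻¹ * (m * (t * s) * m⁻¹) * m by group, hm, ← D.facts.tc m⁻¹, inv_mul_cancel_right]
  obtain ⟨g, hg⟩ := isConj_iff.1 hX.symm
  set y' := g * T * g⁻¹ with hy'
  have hy'T : Commute y' T := by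
    have := (D.comm_T_io ha).symm.conj g
    rwa [hg] at this
  have hy'ne : y' ≠ T := fun e => hT (mul_left_cancel (mul_right_cancel (hg.trans e.symm)))
  have hin : T ∈ Gam T y' := by
    have h2 := conj_gam g (D.io_five (a := a) (y := io ι a) (fun v hv hva => D.io_commute hv ha hva) haa)
    rwa [hg, gam_comm] at h2
  obtain ⟨w, hw⟩ := D.act y' hy'T
  have ht : ∀ {w}, Acts ι y' w → t ∈ Five M w := fun {w} hw => by
    obtain ⟨v, hv, o, ho, e⟩ := D.gam_split hw hin
    rcases D.split D.facts.t_mem (five_le _ hv) (one_mem _) (D.oddFive ho).1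
        (by rw [mul_one]; exact e) with ⟨rfl, -⟩ | ⟨-, h1⟩
    · exact hv
    · exfalso; refine D.T_not_odd ?_
      rwa [eq_inv_of_mul_eq_one_left (show T * o = 1 from h1.symm), inv_mem_iff]
  have hy'X : InX y' := x_conj g (IsConj.refl _)
  rcases D.cases_x hy'X hy'T hy'ne with ⟨b, hb, e, hcl⟩ | ⟨v, hv, hvy⟩
  · have htb := ht (show Acts ι y' b from e ▸ acts_io hb)
    rcases hcl with h | h | h | h
    · exact D.facts.t_five_s (D.facts.five_mc_t h htb)
    · have := D.facts.five_mc_t h htb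
      rw [D.facts.five_t] at this
      exact D.facts.t_five_s this
    all_goals exact D.facts.t_ne (D.facts.five_trivial (by simp) (D.facts.five_mc_t h htb))
  · rcases hv with h | h
    · exact D.facts.t_five_r (D.facts.five_mc_t h (ht hvy))
    · exact D.facts.t_ne (D.facts.five_trivial (by simp) (D.facts.five_mc_t h (ht hvy)))

/-- Two involutions among the elements generated by the fifth roots of one: the type of `s` or of a reflection. -/
theorem two_type {y : G} (hX : InX y) (hc : Commute y T) (hT : y ≠ T)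
    (h : ∃ u₁ ∈ Gam T y, ∃ u₂ ∈ Gam T y, u₁ * u₁ = 1 ∧ u₂ * u₂ = 1 ∧ u₁ ≠ 1 ∧ u₂ ≠ 1 ∧ u₁ ≠ u₂) :
    (∃ a ∈ M, y = io ι a ∧ MC M s a) ∨ ∃ w, MC M r w ∧ Acts ι y w := by
  obtain ⟨u₁, hu₁, u₂, hu₂, h11, h22, h1, h2, h12⟩ := h
  have key : ∀ w, Acts ι y w → ∃ v ∈ Five M w, v ≠ 1 := fun w hw => by
    by_contra hno
    push_neg at hno
    have hK : ∀ u ∈ Gam T y, u ∈ K := fun u hu => by
      obtain ⟨v, hv, o, ho, rfl⟩ := D.gam_split hw hu
      rw [hno v hv, io_one, one_mul]
      exact (D.oddFive ho).1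
    rcases D.invol_K (hK _ hu₁) h11 with e | e
    · exact h1 e
    rcases D.invol_K (hK _ hu₂) h22 with e' | e'
    · exact h2 e'
    exact h12 (e.trans e'.symm)
  have bot : ∀ {a w}, MC M a w → (a = qa ∨ a = qb ∨ a = k) → ¬ ∃ v ∈ Five M w, v ≠ 1 := by
    rintro a w hmc ha ⟨v, hv, hne⟩
    obtain ⟨m, -, -, hx⟩ := D.facts.five_of_mc hmc hv
    refine hne ?_
    rw [show v = m * (m⁻¹ * v * m) * m⁻¹ by group, D.facts.five_trivial ha hx, mul_one, mul_inv_cancel]
  rcases D.cases_x hX hc hT with ⟨b, hb, e, hcl⟩ | ⟨v, hv, hvy⟩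
  · have hk := key b (e ▸ acts_io hb)
    rcases hcl with h | h | h | h
    · exact Or.inl ⟨b, hb, e, h⟩
    · exact absurd (e ▸ hX) (D.no_ts h)
    all_goals exact absurd hk (bot h (by simp))
  · rcases hv with h | h
    · exact Or.inr ⟨v, h, hvy⟩
    · exact absurd (key v hvy) (bot h (by simp))

/-- When `s` is in the class, so is an outer element of reflection type together with its product by `T`. -/
theorem s_gives_r (h : InX (io ι s)) : ∃ y w, InX y ∧ Commute y T ∧ MC M r w ∧ Acts ι y w ∧ InX (T * y) := by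
  obtain ⟨s', hs', hss, hprod, v₁, hv₁, v₂, hv₂, e1, e2, n1, n2, n12⟩ := D.facts.s_pair
  have hs'M := D.facts.mc_mem D.facts.s_mem hs'
  obtain ⟨g, hg⟩ := isConj_iff.1 h.symm
  set y := g * io ι s' * g⁻¹ with hy
  have hyX : InX y := x_conj g (h.trans (D.conj_io D.facts.s_mem hs'))
  have hyT : Commute y T := by
    have := (D.io_commute D.facts.s_mem hs'M hss).symm.conj g
    rwa [hg] at this
  have hTy : InX (T * y) := by
    have e : T * y = g * io ι (s * s') * g⁻¹ := by
      rw [← hg, hy, io_mul ι D.facts.s_mem hs'M]; group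
    rw [e]
    exact x_conj g (h.trans (D.conj_io D.facts.s_mem hprod))
  have hne : y ≠ T := fun e => D.x_ne hTy (by rw [e, D.tt])
  have hin : ∀ {v}, v ∈ Five2 M s s' → g * io ι v * g⁻¹ ∈ Gam T y := fun {v} hv => by
    have := conj_gam g (D.io_gam (a := io ι s) (b := io ι s') _ rfl
      (fun x hx => ⟨hx.1, hx.2.1, D.io_commute hx.1 D.facts.s_mem hx.2.2.1,
        D.io_commute hx.1 hs'M hx.2.2.2⟩) hv)
    rwa [hg] at this
  have hM : ∀ {v}, v ∈ Five2 M s s' → v ∈ M := fun h => five2_le _ _ h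
  rcases D.two_type hyX hyT hne ⟨_, hin hv₁, _, hin hv₂,
      by rw [show g * io ι v₁ * g⁻¹ * (g * io ι v₁ * g⁻¹) = g * (io ι v₁ * io ι v₁) * g⁻¹ by group,
        ← io_mul ι (hM hv₁) (hM hv₁), e1, io_one, mul_one, mul_inv_cancel],
      by rw [show g * io ι v₂ * g⁻¹ * (g * io ι v₂ * g⁻¹) = g * (io ι v₂ * io ι v₂) * g⁻¹ by group,
        ← io_mul ι (hM hv₂) (hM hv₂), e2, io_one, mul_one, mul_inv_cancel],
      fun e => n1 (D.io_inj (hM hv₁) (one_mem M) ((conj_eq_one_iff.1 e).trans (io_one ι).symm)),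
      fun e => n2 (D.io_inj (hM hv₂) (one_mem M) ((conj_eq_one_iff.1 e).trans (io_one ι).symm)),
      fun e => n12 (D.io_inj (hM hv₁) (hM hv₂) (mul_left_cancel (mul_right_cancel e)))⟩ with
    ⟨a, ha, e, hmc⟩ | ⟨w, hw, hwy⟩
  · refine absurd (show InX (io ι (t * a)) from ?_) (D.no_ts (D.facts.mc_t hmc))
    rw [← D.tmul ha, ← e]; exact hTy
  · exact ⟨y, w, hyX, hyT, hw, hwy, hTy⟩

end Setting

end CfsgLib.OEightStd
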