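import Cfsg.Agent.Lib.OEightStd.Model

/-!
# Automorphisms of the simple group that move the kernel of the double cover
-/

set_option autoImplicit false
set_option maxRecDepth 100000

namespace CfsgLib.OEightStd

open CfsgLib.Golay CfsgLib.TailsData CfsgLib.Schur.Tails CfsgLib.Schur.Tails.OEight Subgroup

attribute [local irreducible] oEightLowBase oEightLowLevels oEightLowSlp oEightSignsA oEightSignsB signedBase signedSlp
  twistOneImg twistOneIdx twistOneRho twistOneWord twistOneInvol oEightHighBase oEightThirdBase oEightMeet oEightMeetInv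
  twistTwoImg twistTwoIdx twistTwoRho twistTwoWord twistTwoInvol
  PackPerm.getP PackPerm.pack PackPerm.toL

theorem prodReps_mem {k : ℕ} [NeZero k] {hk : k ≤ 256} {base : List ℕ} {levels : List Bsgs.Lvl}
    {stp : List (ℕ × Bool × ℕ × ℕ)} {total : ℕ} (h : chainB k hk base levels stp total = true) (is : List ℕ) :
    PackPerm.okP k (Bsgs.prodReps (PermCover.ops k hk) levels is) = true ∧
      permC k (Bsgs.prodReps (PermCover.ops k hk) levels is) ∈ gen k base := by
  simp only [chainB, Bool.and_eq_true, List.all_eq_true, decide_eq_true_eq, List.contains_iff_mem] at h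
  obtain ⟨⟨⟨⟨⟨hc, hs⟩, hok⟩, hb⟩, hg⟩, hp⟩ := h
  obtain ⟨h1, h2⟩ := (Bsgs.spec (PermCover.ops k hk) (fun f hf => absurd hf List.not_mem_nil) hc).2.2.1 is
  refine ⟨h1, (Subgroup.closure_le _).2 ?_ h2⟩
  rintro _ ⟨r, hr, rfl⟩
  exact (Bsgs.slp_sound (PermCover.ops k hk) (gen k base) hs
    (fun c hcb => ⟨hok c hcb, Subgroup.subset_closure ⟨c, hcb, rfl⟩⟩) r (hg r hr)).2

/-- A generator of the simple group. -/
noncomputable def hGen (k : ℕ) : Equiv.Perm (Fin 120) := permC 120 (oEightLowBase.getD k 0)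

/-- The action on the second class. -/
noncomputable def highP : ↥BigO →* Equiv.Perm (Fin 120) :=
  (MonoidHom.snd _ _).comp ((MonoidHom.fst Two (Signed × Signed)).comp BigO.subtype)

theorem meet_lt {x y : ℕ} (hx : x < 120) (hy : y < 120) : meet x y < 120 := by
  have h := meet_checks.1
  simp only [meetB, Bool.and_eq_true, List.all_eq_true, List.mem_range] at h
  exact PackPerm.getP_lt (PackPerm.validL_of_okP (h.2 x hx).1) hy

theorem meet_zero {y : ℕ} (hy : y < 120) : meet 0 y = y := by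
  have h : (List.range 120).all (fun y => meet 0 y == y) = true := by decide +kernel
  simp only [List.all_eq_true, List.mem_range, beq_iff_eq] at h
  exact h y hy

/-- The map of the third class, as a map of the points. -/
noncomputable def thirdEnd : ↥BigO →* Function.End (Fin 120) where
  toFun g := fun z => ⟨meet (g.1.1.1 0).val (g.1.1.2 z).val, meet_lt (Fin.isLt _) (Fin.isLt _)⟩
  map_one' := funext fun z => Fin.ext (meet_zero z.isLt)
  map_mul' a b := funext fun z => Fin.ext (by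
    obtain ⟨f, hf⟩ := (goodO_of_mem a.2).2.2
    show meet (a.1.1.1 (b.1.1.1 0)).val (a.1.1.2 (b.1.1.2 z)).val =
      meet (a.1.1.1 0).val (a.1.1.2 ⟨meet (b.1.1.1 0).val (b.1.1.2 z).val, _⟩).val
    rw [hf, hf, show meet (0 : Fin 120).val _ = _ from meet_zero (meet_lt (Fin.isLt _) (Fin.isLt _))])

/-- The action on the third class. -/
noncomputable def thirdP : ↥BigO →* Equiv.Perm (Fin 120) :=
  Equiv.Perm.equivUnitsEnd.symm.toMonoidHom.comp thirdEnd.toHomUnits

theorem thirdP_apply (g : ↥BigO) (z : Fin 120) :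
    (thirdP g z).val = meet (g.1.1.1 0).val (g.1.1.2 z).val := rfl

theorem highP_lift {k : ℕ} (hk : k < 6) :
    highP ⟨liftO k, subset_closure ⟨k, hk, rfl⟩⟩ = permC 120 (oEightHighBase.getD k 0) := rfl

theorem thirdP_lift {k : ℕ} (hk : k < 6) :
    thirdP ⟨liftO k, subset_closure ⟨k, hk, rfl⟩⟩ = permC 120 (oEightThirdBase.getD k 0) := by
  have h : triB k = true := by
    obtain ⟨a, b, c⟩ := tri_checks_first
    obtain ⟨d, e, f⟩ := tri_checks_second
    interval_cases k <;> assumption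
  simp only [triB, Bool.and_eq_true, List.all_eq_true, List.mem_range, Nat.beq_eq] at h
  refine Equiv.ext fun z => Fin.ext ?_
  rw [thirdP_apply, permC_apply h.1]
  show meet ((twoOf k).1 0).val ((twoOf k).2 z).val = _
  rw [(img_eq hk 0).1, (img_eq hk z).2]
  exact (h.2 0 (by norm_num) z.val z.isLt).trans (congrArg _ (meet_zero z.isLt))

theorem ker_highP {g : ↥BigO} (hg : toH g = 1) : highP g = 1 := by
  show g.1.1.2 = 1
  rw [(ker_facts hg).1]
  rfl

theorem ker_thirdP {g : ↥BigO} (hg : toH g = 1) : thirdP g = 1 := by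
  refine Equiv.ext fun z => Fin.ext ?_
  rw [thirdP_apply, (ker_facts hg).1]
  exact meet_zero z.isLt

theorem exists_theta {T : Twist} (hp : T.imgB = true) (φ : ↥BigO →* Equiv.Perm (Fin 120))
    (hker : ∀ g, toH g = 1 → φ g = 1)
    (hφ : ∀ k, (hk : k < 6) → φ ⟨liftO k, subset_closure ⟨k, hk, rfl⟩⟩ = permC 120 (T.base.getD k 0))
    (hne : permC 120 (T.img.getD 0 0) ≠ 1) :
    ∃ θ : ↥H8 ≃* ↥H8, ∀ k < 6, ∀ h : ↥H8, (h : Equiv.Perm (Fin 120)) = hGen k →
      (θ h : Equiv.Perm (Fin 120)) = permC 120 (T.img.getD k 0) := by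
  simp only [Twist.imgB, Bool.and_eq_true, decide_eq_true_eq, List.all_eq_true, List.mem_range,
    beq_iff_eq] at hp
  obtain ⟨⟨⟨hilen, hblen⟩, hrho⟩, hk⟩ := hp
  let ρ := permC 120 T.rho
  let ψ : ↥BigO →* Equiv.Perm (Fin 120) := (MulAut.conj ρ).toMonoidHom.comp φ
  have hψ : ∀ k, (hk6 : k < 6) →
      ψ ⟨liftO k, subset_closure ⟨k, hk6, rfl⟩⟩ = permC 120 (T.img.getD k 0) := fun k hk6 => by
    obtain ⟨⟨⟨hi, hb⟩, he⟩, -⟩ := hk k hk6
    show ρ * φ _ * ρ⁻¹ = _
    rw [hφ k hk6, mul_inv_eq_iff_eq_mul]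
    refine Equiv.ext fun x => Fin.ext ?_
    rw [Equiv.Perm.mul_apply, Equiv.Perm.mul_apply, permC_apply hrho, permC_apply hb, permC_apply hi,
      permC_apply hrho]
    exact (he x.val x.isLt).symm
  have hmem : ∀ g, ψ g ∈ H8 := fun g => by
    obtain ⟨g, hg⟩ := g
    induction hg using closure_induction with
    | mem x hx =>
      obtain ⟨k, hk6, rfl⟩ := hx
      rw [hψ k hk6, (hk k hk6).2]
      exact (prodReps_mem low_chain _).2
    | one => exact (map_one ψ).symm ▸ one_mem H8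
    | mul a b ha hb iha ihb => exact (map_mul ψ ⟨a, ha⟩ ⟨b, hb⟩).symm ▸ mul_mem iha ihb
    | inv a ha iha => exact (map_inv ψ ⟨a, ha⟩).symm ▸ inv_mem iha
  let f : ↥H8 →* ↥H8 := toH.liftOfSurjective toH_surjective ⟨ψ.codRestrict H8 hmem, fun g hg =>
    Subtype.ext (by show ρ * φ g * ρ⁻¹ = 1; rw [hker g hg, mul_one, mul_inv_cancel])⟩
  have hf : ∀ k < 6, ∀ h : ↥H8, (h : Equiv.Perm (Fin 120)) = hGen k →
      (f h : Equiv.Perm (Fin 120)) = permC 120 (T.img.getD k 0) := by
    intro k hk6 h hh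
    have hx : toH ⟨liftO k, subset_closure ⟨k, hk6, rfl⟩⟩ = h := Subtype.ext hh.symm
    rw [← hx, show f (toH _) = ψ.codRestrict H8 hmem _ from toH.liftOfRightInverse_comp_apply _ _ _ _]
    exact hψ k hk6
  have hlow : oEightLowBase.length = 6 := refl_checks.2
  have := H8_simple.1
  have hinj : Function.Injective f := by
    rw [← MonoidHom.ker_eq_bot_iff]
    refine (IsSimpleGroup.eq_bot_or_eq_top_of_normal f.ker inferInstance).resolve_right fun htop => ?_
    refine hne ?_
    have hmem0 : hGen 0 ∈ H8 := subset_closure ⟨_, (List.getD_eq_getElem _ _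
      (hlow.symm ▸ (by norm_num : 0 < 6) : 0 < oEightLowBase.length)).symm ▸ List.getElem_mem _, rfl⟩
    rw [← hf 0 (by norm_num) ⟨_, hmem0⟩ rfl, MonoidHom.mem_ker.1 (htop.ge (mem_top _))]
    rfl
  exact ⟨MulEquiv.ofBijective f (Finite.injective_iff_bijective.1 hinj), hf⟩

theorem wordL_val {w : List ℕ} (hw : ∀ i ∈ w, i < 6) :
    toH ⟨wordL w, wordL_mem hw⟩ = ⟨ops120.val (Coded.evO ops120 oEightLowBase w),
      wordL_fst hw ▸ (toH ⟨wordL w, wordL_mem hw⟩).2⟩ :=
  Subtype.ext (wordL_fst hw)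

theorem theta_word {T : Twist} (hp : T.imgB = true) {θ : ↥H8 ≃* ↥H8}
    (hθ : ∀ k < 6, ∀ h : ↥H8, (h : Equiv.Perm (Fin 120)) = hGen k →
      (θ h : Equiv.Perm (Fin 120)) = permC 120 (T.img.getD k 0)) :
    ∀ (w : List ℕ) (hw : ∀ i ∈ w, i < 6),
      (θ (toH ⟨wordL w, wordL_mem hw⟩) : Equiv.Perm (Fin 120)) = ops120.val (Coded.evO ops120 T.img w)
  | [], _ => by
    have h1 : (⟨wordL [], wordL_mem (fun _ h => absurd h List.not_mem_nil)⟩ : ↥BigO) = 1 := Subtype.ext rfl
    rw [h1, map_one, map_one, Coded.evO, ops120.val_one]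
    rfl
  | i :: w, hw => by
    have hi := hw i List.mem_cons_self
    have hw' : ∀ j ∈ w, j < 6 := fun j hj => hw j (List.mem_cons_of_mem _ hj)
    have h1 : (⟨wordL (i :: w), wordL_mem hw⟩ : ↥BigO) =
        ⟨liftO i, subset_closure ⟨i, hi, rfl⟩⟩ * ⟨wordL w, wordL_mem hw'⟩ := Subtype.ext (wordL_cons i w)
    have hp' := hp
    simp only [Twist.imgB, Bool.and_eq_true, decide_eq_true_eq, List.all_eq_true, List.mem_range,
      beq_iff_eq] at hp'
    obtain ⟨⟨⟨hilen, -⟩, -⟩, hk⟩ := hp'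
    have hok : ∀ g ∈ T.img, ops120.ok g = true := fun g hg => by
      obtain ⟨j, hj, rfl⟩ := List.getElem_of_mem hg
      have := (hk j (hilen ▸ hj)).1.1.1
      rwa [List.getD_eq_getElem _ _ hj] at this
    rw [h1, map_mul, map_mul, Subgroup.coe_mul, hθ i hi _ rfl,
      theta_word hp hθ w hw', Coded.evO,
      ops120.val_mul _ _ (Bsgs.getD_ok ops120 hok i) (Coded.evO_spec hok w).1]
    congr 1
    have hl : i < T.img.length := hilen.symm ▸ hi
    show permC 120 (T.img.getD i 0) = ops120.val (T.img.getD i ops120.one)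
    rw [List.getD_eq_getElem _ _ hl, List.getD_eq_getElem _ _ hl]
    rfl

/-- A twist gives a map onto the double cover killing the member with the given signs. -/
theorem exists_proj {T : Twist} {va vb : Bool} (hp : T.imgB = true) (φ : ↥BigO →* Equiv.Perm (Fin 120))
    (hker : ∀ g, toH g = 1 → φ g = 1)
    (hφ : ∀ k, (hk : k < 6) → φ ⟨liftO k, subset_closure ⟨k, hk, rfl⟩⟩ = permC 120 (T.base.getD k 0))
    (hwit : T.witB va vb = true) :
    ∃ (θ : ↥H8 ≃* ↥H8) (π : ↥BigO →* ↥M), (∀ g, projM (π g) = θ (toH g)) ∧ Function.Surjective π ∧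
      ∃ v : ↥BigO, toH v = 1 ∧ sgn v = (toZ va, toZ vb) ∧ π v = 1 := by
  simp only [Twist.witB, Bool.and_eq_true, List.all_eq_true, List.mem_range, beq_iff_eq, Nat.blt_eq,
    Bool.not_eq_true', List.all_eq_false, List.contains_iff_mem] at hwit
  obtain ⟨⟨⟨⟨⟨⟨⟨hw, hone⟩, hva⟩, hvb⟩, hne⟩, hYin⟩, hYY⟩, hY⟩ := hwit
  have hp' := hp
  simp only [Twist.imgB, Bool.and_eq_true, decide_eq_true_eq, List.all_eq_true, List.mem_range,
    beq_iff_eq] at hp'
  obtain ⟨⟨⟨hilen, -⟩, -⟩, hk⟩ := hp'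
  have hok : ∀ g ∈ T.img, ops120.ok g = true := fun g hg => by
    obtain ⟨j, hj, rfl⟩ := List.getElem_of_mem hg
    have := (hk j (hilen ▸ hj)).1.1.1
    rwa [List.getD_eq_getElem _ _ hj] at this
  have hne' : permC 120 (T.img.getD 0 0) ≠ 1 := by
    intro e
    obtain ⟨i, hi, hi'⟩ := hne
    have h := permC_apply (hk 0 (by norm_num)).1.1.1 ⟨i, hi⟩
    rw [e] at h
    exact hi' h.symm
  obtain ⟨θ, hθ⟩ := exists_theta hp φ hker hφ hne'
  have hτ : Cfsg.IsStemExtension (θ.symm.toMonoidHom.comp projM) := by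
    have hk' : (θ.symm.toMonoidHom.comp projM).ker = projM.ker := by ext x; simp [MonoidHom.mem_ker]
    exact ⟨θ.symm.surjective.comp stem_projM.1, hk' ▸ stem_projM.2.1, hk' ▸ stem_projM.2.2⟩
  obtain ⟨π, hπ, hπs⟩ := universal_BigO hτ
  have hproj : ∀ g, projM (π g) = θ (toH g) := fun g => by
    have := DFunLike.congr_fun hπ g
    simp only [MonoidHom.comp_apply, MulEquiv.coe_toMonoidHom] at this
    rw [← this, MulEquiv.apply_symm_apply]
  let U : ↥BigO := ⟨wordL T.word, wordL_mem hw⟩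
  have hww : ∀ i ∈ T.word ++ T.word, i < 6 := fun i hi => (List.mem_append.1 hi).elim (hw i) (hw i)
  have eUU : (U * U).1 = wordL (T.word ++ T.word) := by simp [U, wordL]
  have hv : toH (U * U) = 1 := Subtype.ext (by
    rw [toH_val, eUU, wordL_fst hww, hone, ops120.val_one]
    rfl)
  refine ⟨θ, π, hproj, hπs, U * U, hv, ?_, ?_⟩
  · obtain ⟨⟨-, a1⟩, -, b1⟩ := walk_spec hww
    refine Prod.ext ?_ ?_
    · show ((U * U).1.2.1 (0, 0)).2 = _
      rw [eUU, a1, hva]
    · show ((U * U).1.2.2 (0, 0)).2 = _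
      rw [eUU, b1, hvb]
  · obtain ⟨hYok, hYmem⟩ := signed_mem hYin
    let Y : ↥M := ⟨_, hYmem⟩
    have hY2 : Y * Y = 1 := Subtype.ext (by
      show ops240.val _ * ops240.val _ = 1
      rw [← ops240.val_mul _ _ hYok hYok, hYY, ops240.val_one])
    have hsame : projM Y = projM (π U) := Subtype.ext (Equiv.ext fun x => Fin.ext (by
      have h := projM_apply Y ⟨2 * x.val, by omega⟩
      have hx : (⟨(⟨2 * x.val, by omega⟩ : Fin 240).val / 2, by omega⟩ : Fin 120) = x :=
        Fin.ext (show 2 * x.val / 2 = x.val by omega)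
      rw [hx] at h
      rw [h, show ((Y : ↥M) : Equiv.Perm (Fin 240)) = permC 240 _ from rfl, permC_apply hYok,
        hY _ (by omega), hproj U, theta_word hp hθ T.word hw,
        show ops120.val (Coded.evO ops120 T.img T.word) = permC 120 _ from rfl,
        permC_apply (Coded.evO_spec hok T.word).1]
      exact congrArg _ (show 2 * x.val / 2 = x.val by omega)))
    let z : ↥M := Y⁻¹ * π U
    have hz : z ∈ projM.ker := by rw [MonoidHom.mem_ker, map_mul, map_inv, hsame, inv_mul_cancel]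
    have hz2 : z * z = 1 := by
      have h2 := pow_card_eq_one' (x := (⟨z, hz⟩ : projM.ker))
      rw [card_ker_projM, pow_two] at h2
      exact congrArg Subtype.val h2
    have hzc := mem_center_iff.1 (stem_projM.2.1 hz)
    rw [map_mul, show π U = Y * z from (mul_inv_cancel_left Y (π U)).symm,
      show Y * z * (Y * z) = Y * (z * Y) * z by group, ← hzc Y,
      show Y * (Y * z) * z = Y * Y * (z * z) by group, hY2, hz2, one_mul]

/-- The twist to the second class moves the kernel. -/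
theorem exists_projA :
    ∃ (θ : ↥H8 ≃* ↥H8) (π : ↥BigO →* ↥M), (∀ g, projM (π g) = θ (toH g)) ∧ Function.Surjective π ∧
      ∃ v : ↥BigO, toH v = 1 ∧ sgn v = (toZ true, toZ false) ∧ π v = 1 :=
  exists_proj twistA_checks.1 highP (fun _ => ker_highP) (fun _ => highP_lift) twistA_checks.2

/-- The twist to the third class moves the kernel. -/
theorem exists_projB :
    ∃ (θ : ↥H8 ≃* ↥H8) (π : ↥BigO →* ↥M), (∀ g, projM (π g) = θ (toH g)) ∧ Function.Surjective π ∧
      ∃ v : ↥BigO, toH v = 1 ∧ sgn v = (toZ true, toZ true) ∧ π v = 1 :=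
  exists_proj twistB_checks.1 thirdP (fun _ => ker_thirdP) (fun _ => thirdP_lift) twistB_checks.2

end CfsgLib.OEightStd
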