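import Cfsg.Agent.Lib.OEightStd.Five
import Cfsg.Agent.Lib.OEightStd.FrameFacts
import Cfsg.Agent.Lib.OEightStd.Auto

/-!
# The facts on the model
-/

set_option autoImplicit false
set_option maxRecDepth 100000

namespace CfsgLib.OEightStd

open Subgroup

attribute [local irreducible] reflTab ipTab signedBase signedRefl

/-- The word of the central involution times a word. -/
def tw (w : List ℕ) : List ℕ := tW ++ w

/-- A conjugator from a list. -/
def cj (L : List (List ℕ)) (i : ℕ) : List ℕ := L.getD i []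

/-- Two words commute. -/
def cmB (u w : List ℕ) : Bool := evB (u ++ w) (w ++ u)

/-- The witnesses for the fours. -/
def qB (q p c : List ℕ) (L : List (List ℕ)) : Bool :=
  mcB q p (cj L 0) && cmB q p && mcB (tw sW) (q ++ p) (cj L 1) && mcB kW c (cj L 2) && cmB q c && cmB p c &&
    mcB (tw rW) (q ++ c) (cj L 3) && mcB kW (p ++ c) (cj L 4) && mcB (tw kW) (q ++ p ++ c) (cj L 5)

/-- The witnesses for the pair, the triple and the products. -/
def witB : Bool :=
  mcB sW Cert.sPairW (cj Cert.sPairConj 0) && cmB sW Cert.sPairW &&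
    mcB sW (sW ++ Cert.sPairW) (cj Cert.sPairConj 1) && twoB sW Cert.sPairW Cert.sPairFive &&
    qB qaW Cert.qaPartner Cert.qaThree Cert.qaWitConj && qB qbW Cert.qbPartner Cert.qbThree Cert.qbWitConj &&
    fiveB [sW] (tw sW) Cert.fiveTs && fiveB [rootW] tW Cert.fiveRoot &&
    (List.range 240).all fun b => neB (rW ++ [b] ++ rW ++ [b]) tW

/-- The triple. -/
def kB : Bool :=
  mcB kW Cert.kWitA (cj Cert.kWitConj 0) && mcB kW Cert.kWitB (cj Cert.kWitConj 1) &&
    mcB kW Cert.kWitC (cj Cert.kWitConj 2) && cmB Cert.kWitA Cert.kWitB && cmB Cert.kWitA Cert.kWitC &&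
    cmB Cert.kWitB Cert.kWitC && mcB sW (Cert.kWitA ++ Cert.kWitB) (cj Cert.kWitConj 3) &&
    mcB sW (Cert.kWitA ++ Cert.kWitC) (cj Cert.kWitConj 4) &&
    mcB qaW (Cert.kWitB ++ Cert.kWitC) (cj Cert.kWitConj 5) &&
    mcB kW (Cert.kWitA ++ Cert.kWitB ++ Cert.kWitC) (cj Cert.kWitConj 6) &&
    evB (sW ++ sW) [] && evB (rW ++ rW) [] && evB (kW ++ kW) [] && evB (tW ++ tW) [] && neB tW []

theorem wit_ok : witB = true := by decide +kernel

theorem kwit_ok : kB = true := by decide +kernel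

theorem of_cmB {u w : List ℕ} (h : cmB u w = true) : Commute (wordE u) (wordE w) := by
  show wordE u * wordE w = wordE w * wordE u
  rw [← wordE_append, ← wordE_append, of_evB h]

theorem of_qB {q p c : List ℕ} {L : List (List ℕ)} (h : qB q p c L = true) :
    ∃ q' x, MC MW (wordE q) q' ∧ Commute (wordE q) q' ∧
    (MC MW (wordE sW) (wordE q * q') ∨ MC MW (wordE tW * wordE sW) (wordE q * q')) ∧ MC MW (wordE kW) x ∧
    Commute (wordE q) x ∧ Commute q' x ∧
    (MC MW (wordE rW) (wordE q * x) ∨ MC MW (wordE tW * wordE rW) (wordE q * x)) ∧ MC MW (wordE kW) (q' * x) ∧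
    MC MW (wordE tW * wordE kW) (wordE q * q' * x) := by
  simp only [qB, Bool.and_eq_true] at h
  obtain ⟨⟨⟨⟨⟨⟨⟨⟨h0, h1⟩, h2⟩, h3⟩, h4⟩, h5⟩, h6⟩, h7⟩, h8⟩ := h
  refine ⟨wordE p, wordE c, of_mcB h0, of_cmB h1, Or.inr ?_, of_mcB h3, of_cmB h4, of_cmB h5, Or.inr ?_, ?_, ?_⟩
  all_goals simp only [← wordE_append]
  exacts [of_mcB h2, of_mcB h6, of_mcB h7, of_mcB h8]

theorem cent_all : ∀ w : W2, (∀ m ∈ MW, Commute m w) → w = 1 ∨ w = wordE tW := by
  intro w hw
  have hc : ∀ m ∈ M, w.1 * m = m * w.1 := fun m hm =>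
    (congrArg Subtype.val (hw ⟨m, M_le_M2 hm⟩ hm).eq).symm
  obtain ⟨h1, h2⟩ := cent_point hc
  by_cases h0 : w.1 0 = 0
  · exact Or.inl (Subtype.ext (h2 h0))
  · refine Or.inr ?_
    have e1 : (w.1 0).val = 1 := by
      have : (w.1 0).val ≠ 0 := fun e => h0 (Fin.ext e)
      omega
    have hc' : ∀ m ∈ M, (wordE tW * w : W2).1 * m = m * (wordE tW * w : W2).1 := fun m hm => by
      have ht : (wordE tW).1 * m = m * (wordE tW).1 := congrArg Subtype.val (tE_central ⟨m, M_le_M2 hm⟩).eq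
      rw [Subgroup.coe_mul, mul_assoc, hc m hm, ← mul_assoc, ht, mul_assoc]
    have e : wordE tW * w = 1 := Subtype.ext ((cent_point hc').2 (Fin.ext (by
      rw [Subgroup.coe_mul, Equiv.Perm.mul_apply, tE_val, e1]; rfl)))
    have k := kwit_ok
    simp only [kB, Bool.and_eq_true] at k
    have ht2 : wordE tW * wordE tW = 1 := by rw [← wordE_append, of_evB k.1.2, wordE_nil]
    exact mul_left_cancel (e.trans ht2.symm)

/-- All the facts. -/
theorem model_facts : Facts MW (wordE tW) (wordE sW) (wordE qaW) (wordE qbW) (wordE rootW) (wordE rW) (wordE kW) := by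
  have h := wit_ok
  simp only [witB, Bool.and_eq_true, List.all_eq_true, List.mem_range] at h
  obtain ⟨⟨⟨⟨⟨⟨⟨⟨hs1, hs2⟩, hs3⟩, hs4⟩, hqa⟩, hqb⟩, hts⟩, hrt⟩, hanti⟩ := h
  have k := kwit_ok
  simp only [kB, Bool.and_eq_true] at k
  obtain ⟨⟨⟨⟨⟨⟨⟨⟨⟨⟨⟨⟨⟨⟨ka, kb⟩, kc⟩, kab⟩, kac⟩, kbc⟩, kp⟩, kq⟩, kr⟩, kt⟩, s2⟩, r2⟩, k2⟩, t2⟩, tne⟩ := k
  refine
  { t_mem := tE_mem
    t_central := tE_central
    t2 := by rw [← wordE_append, of_evB t2, wordE_nil]
    t_ne := tE_ne
    cent := cent_all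
    out_mul := fun a b ha hb => mem_M_mul a.2 b.2 ha hb
    s_mem := (wordE_mem_iff (by decide)).2 (by decide)
    qa_mem := (wordE_mem_iff (by decide)).2 (by decide)
    qb_mem := (wordE_mem_iff (by decide)).2 (by decide)
    R_mem := (wordE_mem_iff (repW_lt (n := 8) (by norm_num))).2 (by decide)
    r_out := fun e => absurd ((wordE_mem_iff (by decide)).1 e) (by decide)
    k_out := fun e => absurd ((wordE_mem_iff (by decide)).1 e) (by decide)
    s2 := by rw [← wordE_append, of_evB s2, wordE_nil]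
    r2 := by rw [← wordE_append, of_evB r2, wordE_nil]
    k2 := by rw [← wordE_append, of_evB k2, wordE_nil]
    R2 := rootE_sq
    inner_cases := inner_cases
    root_cases := root_cases
    outer_cases := outer_cases
    qa_twist := qa_twist
    qb_twist := qb_twist
    five_root := five_one hrt
    five_ts := by rw [← wordE_append]; exact five_one hts
    t_five_s := t_five_s
    s_five := s_five
    t_five_r := t_five_r
    five_bot := five_bot
    five_cent := five_cent
    s_pair := ⟨_, of_mcB hs1, of_cmB hs2, wordE_append _ _ ▸ of_mcB hs3, two_invol hs4⟩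
    no_anti := ?_
    q_witness := ?_
    k_witness := ⟨_, _, _, of_mcB ka, of_mcB kb, of_mcB kc, of_cmB kab, of_cmB kac, of_cmB kbc,
      Or.inl (wordE_append _ _ ▸ of_mcB kp), Or.inl (wordE_append _ _ ▸ of_mcB kq),
      Or.inr (Or.inr (Or.inl (wordE_append _ _ ▸ of_mcB kr))),
      by rw [← wordE_append, ← wordE_append]; exact of_mcB kt⟩ }
  · rintro w ⟨m, -, rfl⟩
    rw [show wordE rW = wordE [0] from rfl, conj_refl, ← wordE_append, ← wordE_append]
    intro e
    refine of_neB (hanti (m.1 0).val (Fin.isLt _)) ?_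
    rw [List.append_assoc (rW ++ [(m.1 0).val]) rW [(m.1 0).val]]
    exact e
  · rintro q (rfl | rfl)
    exacts [of_qB hqa, of_qB hqb]

/-- The model satisfies the facts and has a frame. -/
theorem exists_facts : ∃ (t s qa qb R r k : W2) (fr : Fin 8 → W2), Facts MW t s qa qb R r k ∧ Frame MW t s r fr :=
  ⟨_, _, _, _, _, _, _, _, model_facts, frame_facts⟩

end CfsgLib.OEightStd
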